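import Cfsg.Agent.Lib.SmallDegree.Mult
import Cfsg.Agent.Lib.HalfPSL.Main

/-!
# Accounting for the exceptional constituents of a character over a character of the centre
-/

set_option autoImplicit false
set_option linter.unusedSectionVars false
set_option linter.style.haveILetI false

noncomputable section

namespace CfsgLib.SmallDegree

open Cfsg CfsgLib.Characters CfsgLib.PrimeDefect CfsgLib.SelfCentralPrime
open CfsgLib.LinSmall CfsgLib.LinSmall.CData
open CfsgLib.PSubTwo.Loc (Over exists_over over_unique)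
open scoped ComplexConjugate Classical

universe u

variable {G : Type u} [Group G] [Fintype G]

/-- The multiplicity of a constituent. -/
def mlt (ψ : G → ℂ) (χ : IrrCharacter G) : ℕ := ⌊(classInner ψ (χ : G → ℂ)).re⌋₊

theorem cast_mlt {ψ : G → ℂ} (hψ : IsCharacter G ψ) (χ : IrrCharacter G) :
    (mlt ψ χ : ℂ) = classInner ψ (χ : G → ℂ) := by
  obtain ⟨n, hn⟩ := classInner_char_nat hψ (irr_isCharacter χ)
  simp [mlt, hn]

theorem eq_sum_mlt {ψ : G → ℂ} (hψ : IsCharacter G ψ) (g : G) :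
    ψ g = ∑ χ : IrrCharacter G, (mlt ψ χ : ℂ) * (χ : G → ℂ) g := by
  refine (congrFun (classFunction_eq_sum (isClassFunction_of_isCharacter hψ)) g).trans ?_
  simp [cast_mlt hψ]

variable {p : ℕ} [hp : Fact p.Prime] {x : G}

/-- An irreducible character with `x` outside its kernel has degree at least `(p - 1) / 2`. -/
theorem two_deg_ge (hx : orderOf x = p) (hsq : ¬ p ^ 2 ∣ Nat.card G)
    (hnn : ∀ H : Subgroup G, H.Normal → Nat.card H ≠ p) (χ : G → ℂ) (hχ : IsCharacter G χ)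
    (hfaith : ∀ g : G, χ g = χ 1 → g = 1) (hd : charDegree χ + 1 < p) (ξ : IrrCharacter G)
    (hξ : (ξ : G → ℂ) x ≠ (ξ : G → ℂ) 1) :
    p ≤ 2 * charDegree (ξ : G → ℂ) + 1 := by
  set N := Chars17.irrKer ξ with hN
  haveI : N.Normal := Chars17.irrKer_normal ξ
  have hxN : x ∉ N := fun h => hξ (Chars17.mem_irrKer.1 h)
  have hNp : ¬ p ∣ Nat.card N :=
    HalfPSL.not_dvd_of_notMem hsq N (by rw [← hx]; exact pow_orderOf_eq_one x) hxN
  obtain ⟨η, hη⟩ := Chars17.exists_infl_eq (N := N) (χ := ξ) le_rfl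
  have hηd : charDegree (η : G ⧸ N → ℂ) = charDegree (ξ : G → ℂ) := by rw [← hη]; rfl
  have hsqQ : ¬ p ^ 2 ∣ Nat.card (G ⧸ N) := fun h =>
    hsq (h.trans ⟨Nat.card N, by rw [← N.card_eq_card_quotient_mul_card_subgroup]⟩)
  have hxQ : orderOf (x : G ⧸ N) = p := by
    rcases (Nat.dvd_prime hp.out).1 (hx ▸ orderOf_map_dvd (QuotientGroup.mk' N) x) with h | h
    · rw [orderOf_eq_one_iff] at h
      exact absurd ((QuotientGroup.eq_one_iff x).1 h) hxN
    · exact h
  rw [← hηd]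
  refine Cfsg.Agent.S4503.result p hp.out (hxQ ▸ orderOf_dvd_natCard (x : G ⧸ N)) hsqQ ?_ η
    (irr_isCharacter η) ?_
  · intro L hL hLc
    haveI := hL
    obtain ⟨H, hH, hHc⟩ := HalfPSL.exists_normal_of_commute (G := G) hx hsq fun g => by
      set z := g * x * g⁻¹
      have hzo : orderOf z = p :=
        (orderOf_injective (MulAut.conj g).toMonoidHom (MulAut.conj g).injective x).trans hx
      have hmemL : ∀ w : G, orderOf w = p → (w : G ⧸ N) ∈ L := fun w hw =>
        HalfPSL.mem_of_dvd_normal hsqQ L (hLc ▸ dvd_rfl) (by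
          rw [← QuotientGroup.mk_pow, ← hw, pow_orderOf_eq_one, QuotientGroup.mk_one])
      haveI : IsCyclic L := isCyclic_of_prime_card hLc
      letI := IsCyclic.commGroup (α := L)
      have hcomm : (z : G ⧸ N) * (x : G ⧸ N) = (x : G ⧸ N) * (z : G ⧸ N) := by
        exact congrArg Subtype.val
          (mul_comm (⟨_, hmemL z hzo⟩ : L) ⟨_, hmemL x hx⟩)
      have hc : z * x * z⁻¹ * x⁻¹ ∈ N := by
        rw [← QuotientGroup.eq_one_iff]
        simp only [QuotientGroup.mk_mul, QuotientGroup.mk_inv]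
        rw [hcomm]
        group
      exact HalfPSL.commute_of_commutator_mem hsq _ hχ hfaith hd N hNp hx hc
    exact hnn H hH hHc
  · intro q hq
    induction q using QuotientGroup.induction_on with | H g => ?_
    rw [QuotientGroup.eq_one_iff, hN, Chars17.mem_irrKer, ← hη]
    exact hq

variable {D : Data p x (Subgroup.centralizer ({x} : Set G)) (Subgroup.center G)}

theorem four_irr (D : Data p x (Subgroup.centralizer ({x} : Set G)) (Subgroup.center G))
    (χ : IrrCharacter G) (a : ZMod p) :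
    four x (χ : G → ℂ) a = (p : ℂ) * (xm D χ a : ℂ) := (xm_eq D χ a).symm

theorem four_eq_sum (D : Data p x (Subgroup.centralizer ({x} : Set G)) (Subgroup.center G))
    {ψ : G → ℂ} (hψ : IsCharacter G ψ) (a : ZMod p) :
    four x ψ a = ∑ χ : IrrCharacter G, (mlt ψ χ : ℂ) * ((p : ℂ) * (xm D χ a : ℂ)) := by
  simp only [← four_irr D, four, Finset.mul_sum]
  rw [Finset.sum_comm]
  refine Finset.sum_congr rfl fun i _ => ?_
  rw [eq_sum_mlt hψ, Finset.sum_mul]
  exact Finset.sum_congr rfl fun χ _ => mul_assoc _ _ _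

theorem fN_eq_sum [Fintype (nrm x)] {ψ : G → ℂ} (hψ : IsCharacter G ψ) (φ : nrm x →* ℂˣ) :
    fN ψ φ = ∑ χ : IrrCharacter G, (mlt ψ χ : ℂ) * fN (χ : G → ℂ) φ := by
  simp only [fN, classInner, Finset.mul_sum]
  rw [Finset.sum_comm]
  refine Finset.sum_congr rfl fun n _ => ?_
  rw [eq_sum_mlt hψ, Finset.sum_mul, Finset.mul_sum]
  exact Finset.sum_congr rfl fun χ _ => by ring

namespace Fam

variable {ω : Subgroup.center G →* ℂˣ} (F : CFam D (ofHom ω))

/-- The exceptional character of a class. -/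
def θq (q : Q D.muHom.range) : IrrCharacter G := F.θ q.out

theorem θq_mk (u : (ZMod p)ˣ) : θq F (u : Q D.muHom.range) = F.θ u := by
  rw [θq, F.θ_eq, ← QuotientGroup.eq, QuotientGroup.out_eq']

theorem θq_injective : Function.Injective (θq F) := by
  intro a b h
  rw [θq, θq, F.θ_eq, ← QuotientGroup.eq, QuotientGroup.out_eq', QuotientGroup.out_eq'] at h
  exact h

theorem xm_θq (q : Q D.muHom.range) {a : ZMod p} (ha : a ≠ 0) :
    (xm D (θq F q) a : ℤ) = F.m + if cls D.muHom.range a = q then F.ε else 0 := by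
  have h := F.xm_θ q.out (Units.mk0 a ha)
  rw [Units.val_mk0] at h
  rw [θq, h]
  have e : q.out⁻¹ * Units.mk0 a ha ∈ D.muHom.range ↔ cls D.muHom.range a = q := by
    rw [← QuotientGroup.eq, QuotientGroup.out_eq', cls, dif_neg ha, eq_comm]
  simp only [e]

theorem overZ_θq (q : Q D.muHom.range) : OverZ (θq F q : G → ℂ) ω := F.over_θ _

theorem one_le_m (hnn : ∀ H : Subgroup G, H.Normal → Nat.card H ≠ p) (χ : G → ℂ)
    (hχ : IsCharacter G χ) (hfaith : ∀ g : G, χ g = χ 1 → g = 1) (hd : charDegree χ + 1 < p)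
    (he : 2 * Nat.card D.muHom.range + 1 < p) : 1 ≤ F.m := by
  by_contra h
  have hm : F.m = 0 := by omega
  have h1 := F.xm_θ_mem 1 1 (by simp)
  rw [hm] at h1
  have hε : F.ε = 1 := by rcases F.ε_spec with h' | h' <;> omega
  have hne : (F.θ 1 : G → ℂ) x ≠ (F.θ 1 : G → ℂ) 1 := by
    intro heq
    have hk : x ∈ Chars17.irrKer (F.θ 1) := Chars17.mem_irrKer.2 heq
    have h2 := xm_eq D (F.θ 1) ((1 : (ZMod p)ˣ) : ZMod p)
    rw [Finset.sum_congr rfl (g := fun i => (F.θ 1 : G → ℂ) 1 *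
        ZMod.stdAddChar (i * -((1 : (ZMod p)ˣ) : ZMod p))) (fun i _ => by
          rw [show (F.θ 1 : G → ℂ) (pw x i) = _ from
            Chars17.mem_irrKer.1 (pow_mem hk i.val)]),
      ← Finset.mul_sum, sum_std, if_neg (neg_ne_zero.2 (Units.ne_zero _)), mul_zero,
      mul_eq_zero, or_iff_right (Nat.cast_ne_zero.2 hp.out.ne_zero), Nat.cast_eq_zero] at h2
    omega
  have h3 := two_deg_ge D.hx D.hsq hnn χ hχ hfaith hd _ hne
  have h4 := F.deg_θ 1
  rw [hm, hε] at h4
  omega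

variable [Fintype (nrm x)]

theorem fN_θq (φ : nrm x →* ℂˣ) (hP : TrivP D φ) (q r : Q D.muHom.range) :
    fN (θq F q : G → ℂ) φ = fN (θq F r : G → ℂ) φ := by
  by_cases hZ : OnZ D φ ω
  · refine mul_left_cancel₀ (mul_ne_zero (Nat.cast_ne_zero.2
      (Nat.card_pos (α := D.muHom.range)).ne') (Nat.cast_ne_zero.2 hp.out.ne_zero)) ?_
    rw [fN_eq D (overZ_θq F q) hP hZ, fN_eq D (overZ_θq F r) hP hZ, four_irr D, four_irr D,
      θq, θq, F.xm_θ_zero, F.xm_θ_zero]
    congr 2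
    refine Finset.sum_congr rfl fun n hn => ?_
    rw [F.θ_regular (not_dvd_orderOf_out D (Finset.mem_filter.1 hn).2)]
  · have h : ∀ s, fN (θq F s : G → ℂ) φ = 0 := fun s => by
      by_contra hne
      exact hZ (onZ_of_fN D (overZ_θq F s) hne)
    rw [h, h]

/-- There is a linear character meeting all exceptional characters. -/
theorem exists_phi (hm : 1 ≤ F.m) :
    ∃ φ : nrm x →* ℂˣ, TrivP D φ ∧ OnZ D φ ω ∧
      ∃ f : ℕ, 1 ≤ f ∧ ∀ q, fN (θq F q : G → ℂ) φ = f := by
  obtain ⟨φ, hP, hne, -⟩ := exists_lin D (irr_isCharacter (θq F 1)) (k := F.m) hm (by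
    rw [four_irr D, θq, F.xm_θ_zero])
  obtain ⟨f, hf⟩ := fN_nat (irr_isCharacter (θq F 1)) φ
  refine ⟨φ, hP, onZ_of_fN D (overZ_θq F 1) hne, f, ?_, fun q => (fN_θq F φ hP q 1).trans hf⟩
  rw [hf, Nat.cast_ne_zero] at hne
  omega

theorem four_sub {ψ : G → ℂ} (hψ : IsCharacter G ψ) (hω : OverZ ψ ω) {a a' : ZMod p}
    (ha : a ≠ 0) (ha' : a' ≠ 0) :
    four x ψ a - four x ψ a' = (p : ℂ) * (F.ε : ℂ) *
      ((mlt ψ (θq F (cls D.muHom.range a)) : ℂ) - mlt ψ (θq F (cls D.muHom.range a'))) := by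
  have hcast : ∀ q {a : ZMod p}, a ≠ 0 →
      (xm D (θq F q) a : ℂ) = (F.m : ℂ) + if cls D.muHom.range a = q then (F.ε : ℂ) else 0 := by
    intro q a ha
    have h := congrArg (Int.cast : ℤ → ℂ) (xm_θq F q ha)
    split_ifs at h ⊢ <;> simpa using h
  rw [four_eq_sum D hψ, four_eq_sum D hψ, ← Finset.sum_sub_distrib]
  rw [← Finset.sum_subset (Finset.subset_univ (Finset.univ.image (θq F))) fun χ _ hχ => ?_,
    Finset.sum_image fun q _ r _ h => θq_injective F h]
  · simp only [hcast _ ha, hcast _ ha', mul_add, mul_ite, mul_zero, add_sub_add_left_eq_sub,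
      Finset.sum_sub_distrib, Finset.sum_ite_eq, Finset.mem_univ, if_true]
    ring
  · rw [← mul_sub, ← mul_sub]
    by_cases h0 : mlt ψ χ = 0
    · simp [h0]
    have hne : classInner ψ (χ : G → ℂ) ≠ 0 := by
      rw [← cast_mlt hψ]; exact Nat.cast_ne_zero.2 h0
    rcases F.cover χ (over_of_overZ (overZ_of_inner hω hne)) with hX | ⟨u, rfl⟩ | hc
    · have h1 := F.xm_X χ hX (Units.mk0 a ha)
      have h2 := F.xm_X χ hX (Units.mk0 a' ha')
      rw [Units.val_mk0] at h1 h2
      have : xm D χ a = xm D χ a' := by omega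
      simp [this]
    · exact absurd (Finset.mem_image.2 ⟨_, Finset.mem_univ _, θq_mk F u⟩) hχ
    · simp [hc a, hc a']

/-- The exceptional constituents are limited by a multiplicity. -/
theorem sum_mlt_le {ψ : G → ℂ} (hψ : IsCharacter G ψ) {φ : nrm x →* ℂˣ} {f : ℕ} (hf1 : 1 ≤ f)
    (hf : ∀ q, fN (θq F q : G → ℂ) φ = f) {n : ℕ} (hn : fN ψ φ = n)
    (S : Finset (IrrCharacter G)) (hS : ∀ χ ∈ S, ∀ q, θq F q ≠ χ) (f' : IrrCharacter G → ℕ)
    (hf' : ∀ χ ∈ S, fN (χ : G → ℂ) φ = f' χ) :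
    ∑ q, mlt ψ (θq F q) + ∑ χ ∈ S, mlt ψ χ * f' χ ≤ n := by
  choose c hc using fun χ : IrrCharacter G => fN_nat (x := x) (irr_isCharacter χ) φ
  have h : n = ∑ χ : IrrCharacter G, mlt ψ χ * c χ := by
    have h1 := fN_eq_sum hψ φ
    simp only [hn, hc] at h1
    exact_mod_cast h1
  have hdis : Disjoint (Finset.univ.image (θq F)) S := by
    rw [Finset.disjoint_left]
    intro χ hχ hχS
    obtain ⟨q, -, rfl⟩ := Finset.mem_image.1 hχ
    exact hS _ hχS q rfl
  rw [h]
  refine le_trans ?_ (Finset.sum_le_sum_of_subset (Finset.subset_univ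
    (Finset.univ.image (θq F) ∪ S)))
  rw [Finset.sum_union hdis, Finset.sum_image fun q _ r _ h => θq_injective F h]
  refine add_le_add (Finset.sum_le_sum fun q _ => Nat.le_mul_of_pos_right _ ?_)
    (Finset.sum_le_sum fun χ hχ => le_of_eq ?_)
  · have := hf q
    rw [hc, Nat.cast_inj] at this
    omega
  · have := hf' χ hχ
    rw [hc, Nat.cast_inj] at this
    rw [this]

end Fam

end CfsgLib.SmallDegree
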