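import Mathlib

/-!
# Tables with the properties of cyclotomic numbers under the bounds from multiplicities
-/

set_option autoImplicit false
set_option linter.unusedSectionVars false

noncomputable section

namespace CfsgLib.SmallDegree

open scoped Classical

variable {A : Type*} [CommGroup A] [Fintype A]

/-- A table of size `t` with row sums about `e`. -/
structure Table (A : Type*) [CommGroup A] [Fintype A] (e t : ℕ) where
  N : A → A → ℕ
  ν : A
  c : A
  ν_sq : ν * ν = 1
  card : Fintype.card A = t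
  symm : ∀ a b, N a b = N b a
  flip : ∀ a b, N a b = N a⁻¹ (ν * b * a⁻¹)
  row : ∀ a, ∑ b, N a b + (if a = 1 then 1 else 0) = e
  line : ∀ r, ∑ a, N a (r * a) + (if r = ν then 1 else 0) = e
  sq : ∑ a, ∑ b, N a b ^ 2 = (e * t - 1) + (e - 1) * (e - 2)
  M : A → ℕ
  diag : ∀ a, N a a = 2 * M a + if a = c then 1 else 0

/-- The bounds from the multiplicities of the principal exceptional characters. -/
def Table.Principal {e t : ℕ} (T : Table A e t) : Prop :=
  (∀ r a, t * T.N a (r * a) ≤ ∑ b, T.N b (r * b) + (t - 1)) ∨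
    (∀ r a, ∑ b, T.N b (r * b) ≤ t * T.N a (r * a) + (t - 1))

namespace Table

variable {e t : ℕ} (T : Table A e t)

theorem sum_all : ∑ a, ∑ b, T.N a b + 1 = e * t := by
  have h : ∑ a : A, (∑ b, T.N a b + if a = 1 then 1 else 0) = ∑ _a : A, e :=
    Finset.sum_congr rfl fun a _ => T.row a
  rw [Finset.sum_add_distrib, Finset.sum_ite_eq' Finset.univ (1 : A) (fun _ => 1),
    if_pos (Finset.mem_univ _), Finset.sum_const, Finset.card_univ, T.card, smul_eq_mul] at h
  rw [h, mul_comm]

variable {k s : ℕ}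

theorem identity (he : e = k * t + s) (h3 : 3 ≤ e) :
    ∑ a, ∑ b, ((T.N a b : ℤ) - k) * ((T.N a b : ℤ) - k - 1) =
      (k : ℤ) * ((t : ℤ) - 1) * ((t : ℤ) - 2) + ((s : ℤ) - 1) * ((s : ℤ) - 2) := by
  have h0 := T.sum_all
  have h1 : ∑ a, ∑ b, (T.N a b : ℤ) = (e : ℤ) * t - 1 := by
    have h := congrArg (Nat.cast : ℕ → ℤ) h0
    push_cast at h
    linarith
  have h2 : ∑ a, ∑ b, (T.N a b : ℤ) ^ 2 =
      (e : ℤ) * t - 1 + ((e : ℤ) - 1) * ((e : ℤ) - 2) := by
    have h := congrArg (Nat.cast : ℕ → ℤ) T.sq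
    push_cast [Nat.cast_sub (show 1 ≤ e * t by omega), Nat.cast_sub (show 1 ≤ e by omega),
      Nat.cast_sub (show 2 ≤ e by omega)] at h
    exact h
  have e1 : ∀ n : ℤ, (n - k) * (n - k - 1) = n ^ 2 - (2 * k + 1) * n + k * (k + 1) := fun n => by
    ring
  simp only [e1, Finset.sum_add_distrib, Finset.sum_sub_distrib, ← Finset.mul_sum, h1, h2,
    Finset.sum_const, Finset.card_univ, T.card, nsmul_eq_mul]
  rw [he]
  push_cast
  ring

theorem slack_identity (he : e = k * t + s) (h3 : 3 ≤ e) :
    ∑ a, ∑ b, (T.N a b : ℤ) * ((k : ℤ) + 1 - T.N a b) =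
      -((e : ℤ) * ((s : ℤ) - 3) + k + 2) := by
  have h := T.identity he h3
  have h1 : ∑ a, ∑ b, (T.N a b : ℤ) = (e : ℤ) * t - 1 := by
    have h := congrArg (Nat.cast : ℕ → ℤ) T.sum_all
    push_cast at h
    linarith
  have e1 : ∀ n : ℤ, n * ((k : ℤ) + 1 - n) = -((n - k) * (n - k - 1)) - k * n + k * (k + 1) :=
    fun n => by ring
  simp only [e1, Finset.sum_add_distrib, Finset.sum_sub_distrib, Finset.sum_neg_distrib, h,
    ← Finset.mul_sum, h1, Finset.sum_const, Finset.card_univ, T.card, nsmul_eq_mul]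
  rw [he]
  push_cast
  ring

theorem s_le_two (he : e = k * t + s) (h3 : 3 ≤ e) (hup : ∀ a b, T.N a b ≤ k + 1) : s ≤ 2 := by
  have h := T.slack_identity he h3
  have h0 : (0 : ℤ) ≤ ∑ a, ∑ b, (T.N a b : ℤ) * ((k : ℤ) + 1 - T.N a b) :=
    Finset.sum_nonneg fun a _ => Finset.sum_nonneg fun b _ => mul_nonneg (Int.natCast_nonneg _) (by
      have : (T.N a b : ℤ) ≤ k + 1 := by exact_mod_cast hup a b
      linarith)
  by_contra hs
  have : (0 : ℤ) ≤ (e : ℤ) * ((s : ℤ) - 3) := mul_nonneg (Int.natCast_nonneg _) (by omega)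
  omega

/-- The number of cells equal to `k` when all are at most `k + 1`. -/
theorem card_mul_le (he : e = k * t + s) (h3 : 3 ≤ e) (hup : ∀ a b, T.N a b ≤ k + 1)
    (S : Finset (A × A)) (hS : ∀ v ∈ S, T.N v.1 v.2 = k) :
    (S.card : ℤ) * k ≤ -((e : ℤ) * ((s : ℤ) - 3) + k + 2) := by
  rw [← T.slack_identity he h3, ← Fintype.sum_prod_type']
  refine le_trans (le_of_eq ?_) (Finset.sum_le_sum_of_subset_of_nonneg (Finset.subset_univ S)
    fun v _ _ => mul_nonneg (Int.natCast_nonneg _) (by
      have : (T.N v.1 v.2 : ℤ) ≤ k + 1 := by exact_mod_cast hup v.1 v.2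
      linarith))
  rw [Finset.sum_congr rfl fun v hv => by rw [hS v hv], Finset.sum_const, nsmul_eq_mul]
  ring

/-- Three lines of cells. -/
def threeLines : Finset (A × A) :=
  Finset.univ.image (fun a : A => (a, T.ν * a)) ∪ Finset.univ.image (fun a : A => (a, (1 : A))) ∪
    Finset.univ.image (fun a : A => ((1 : A), a))

theorem card_threeLines : 3 * t ≤ T.threeLines.card + 3 := by
  unfold threeLines
  set S1 := Finset.univ.image (fun a : A => (a, T.ν * a)) with h1
  set S2 := Finset.univ.image (fun a : A => (a, (1 : A))) with h2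
  set S3 := Finset.univ.image (fun a : A => ((1 : A), a)) with h3
  have c1 : S1.card = t := by
    rw [h1, Finset.card_image_of_injective _ fun a b h => congrArg Prod.fst h, Finset.card_univ, T.card]
  have c2 : S2.card = t := by
    rw [h2, Finset.card_image_of_injective _ fun a b h => congrArg Prod.fst h, Finset.card_univ, T.card]
  have c3 : S3.card = t := by
    rw [h3, Finset.card_image_of_injective _ fun a b h => congrArg Prod.snd h, Finset.card_univ, T.card]
  have i12 : (S1 ∩ S2).card ≤ 1 := by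
    refine Finset.card_le_one.2 fun u hu v hv => ?_
    simp only [h1, h2, Finset.mem_inter, Finset.mem_image, Finset.mem_univ, true_and] at hu hv
    obtain ⟨⟨a, rfl⟩, b, hb⟩ := hu
    obtain ⟨⟨a', rfl⟩, b', hb'⟩ := hv
    simp only [Prod.mk.injEq] at hb hb'
    have e : a = a' := mul_left_cancel (hb.2.symm.trans hb'.2)
    rw [e]
  have i123 : ((S1 ∪ S2) ∩ S3).card ≤ 2 := by
    refine (Finset.card_le_card (t := {((1 : A), T.ν), ((1 : A), (1 : A))}) fun v hv => ?_).trans
      Finset.card_le_two
    simp only [h1, h2, h3, Finset.mem_inter, Finset.mem_union, Finset.mem_image, Finset.mem_univ,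
      true_and] at hv
    obtain ⟨h, b, rfl⟩ := hv
    simp only [Prod.mk.injEq] at h
    rcases h with ⟨a, ha, hb⟩ | ⟨a, ha, hb⟩
    · simp [← hb, ha]
    · simp [← hb]
  have e1 := Finset.card_union_add_card_inter S1 S2
  have e2 := Finset.card_union_add_card_inter (S1 ∪ S2) S3
  omega

theorem flip_line (a : A) : T.N a (T.ν * a) = T.N a⁻¹ 1 := by
  rw [T.flip a, ← mul_assoc, T.ν_sq, one_mul, mul_inv_cancel]

theorem mem_threeLines {v : A × A} (h : v ∈ T.threeLines) :
    ∃ a, T.N v.1 v.2 = T.N a (T.ν * a) := by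
  simp only [threeLines, Finset.mem_union, Finset.mem_image, Finset.mem_univ, true_and] at h
  rcases h with (⟨a, rfl⟩ | ⟨a, rfl⟩) | ⟨a, rfl⟩
  · exact ⟨a, rfl⟩
  · exact ⟨a⁻¹, by rw [T.flip_line, inv_inv]⟩
  · exact ⟨a⁻¹, by rw [T.flip_line, inv_inv]; exact T.symm _ _⟩

theorem line_exists (a b : A) : ∃ r, r * a = b := ⟨b * a⁻¹, inv_mul_cancel_right b a⟩

theorem upper_of_principal (he : e = k * t + s) (hs : s ≤ t) (hs1 : 1 ≤ s)
    (h : ∀ r a, t * T.N a (r * a) ≤ ∑ b, T.N b (r * b) + (t - 1)) (a b : A) :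
    T.N a b ≤ k + 1 := by
  obtain ⟨r, rfl⟩ := line_exists a b
  have h1 := h r a
  have h2 : ∑ b, T.N b (r * b) ≤ e := (Nat.le_add_right _ _).trans (T.line r).le
  refine Nat.lt_succ_iff.1 (Nat.lt_of_mul_lt_mul_left (a := t) ?_)
  rw [Nat.succ_eq_add_one, mul_add, mul_add, mul_comm t k]
  omega

theorem lower_of_principal (he : e = k * t + s) (hs1 : 1 ≤ s)
    (h : ∀ r a, ∑ b, T.N b (r * b) ≤ t * T.N a (r * a) + (t - 1)) (a b : A) :
    k ≤ T.N a b := by
  obtain ⟨r, rfl⟩ := line_exists a b
  have ht : 0 < t := T.card ▸ Fintype.card_pos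
  have h1 := h r a
  have h2 := T.line r
  refine Nat.lt_succ_iff.1 (Nat.lt_of_mul_lt_mul_left (a := t) ?_)
  rw [Nat.succ_eq_add_one, mul_add, mul_comm t k]
  split_ifs at h2 <;> omega

theorem sum_ite_c : ∑ a : A, (if a = T.c then 1 else 0 : ℕ) = 1 := by
  rw [Finset.sum_ite_eq' Finset.univ T.c (fun _ => 1), if_pos (Finset.mem_univ _)]

theorem sum_diag (hν : T.ν ≠ 1) : ∑ a, T.N a a = e := by
  have h := T.line 1
  rw [if_neg (Ne.symm hν), add_zero] at h
  simpa using h

/-- The residue one is impossible if the principal exceptional characters have a minus sign. -/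
theorem false_of_one (he : e = k * t + 1) (h3 : 3 ≤ e) (ht : 3 ≤ t)
    (h : ∀ r a, t * T.N a (r * a) ≤ ∑ b, T.N b (r * b) + (t - 1)) : False := by
  have hup := T.upper_of_principal he (by omega) le_rfl h
  have hl := T.line T.ν
  rw [if_pos rfl] at hl
  have hle : ∀ a, T.N a (T.ν * a) ≤ k := fun a => by
    have h1 := h T.ν a
    refine Nat.lt_succ_iff.1 (Nat.lt_of_mul_lt_mul_left (a := t) ?_)
    rw [Nat.succ_eq_add_one, mul_add, mul_comm t k]
    omega
  have hsum : ∑ a, T.N a (T.ν * a) = ∑ _a : A, k := by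
    rw [Finset.sum_const, Finset.card_univ, T.card, smul_eq_mul, mul_comm]
    omega
  have heq := (Finset.sum_eq_sum_iff_of_le fun a _ => hle a).1 hsum
  have h4 := T.card_mul_le he h3 hup T.threeLines fun v hv => by
    obtain ⟨a, ha⟩ := T.mem_threeLines hv
    rw [ha]; exact heq a (Finset.mem_univ a)
  have hk : 1 ≤ k := by rcases Nat.eq_zero_or_pos k with rfl | h' <;> omega
  have h5 : (3 : ℤ) * t ≤ (T.threeLines.card : ℤ) + 3 := by exact_mod_cast T.card_threeLines
  rw [show (e : ℤ) = k * t + 1 by exact_mod_cast he] at h4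
  push_cast at h4
  nlinarith

theorem exists_ks (ht : 0 < t) (h1 : 1 ≤ e) :
    ∃ k s, e = k * t + s ∧ 1 ≤ s ∧ s ≤ t := by
  refine ⟨(e - 1) / t, (e - 1) % t + 1, ?_, by omega, Nat.mod_lt _ ht⟩
  have := Nat.div_add_mod' (e - 1) t
  omega

/-- Even `e` is impossible. -/
theorem false_of_even (ht : 3 ≤ t) (h3 : 3 ≤ e) (hp : Nat.Prime (e * t + 1)) (hν : T.ν = 1)
    (hP : T.Principal)
    (hdiag : (∀ a b, T.N a a + (if a = T.c then 1 else 0) = T.N b b + (if b = T.c then 1 else 0)) ∨
      (∀ a b, T.N a a + (if b = T.c then 1 else 0) = T.N b b + (if a = T.c then 1 else 0))) :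
    False := by
  have hline : ∑ a, T.N a a + 1 = e := by
    have h := T.line 1
    rw [if_pos hν.symm] at h
    simpa using h
  have hdsum : ∑ a, T.N a a = 2 * ∑ a, T.M a + 1 := by
    rw [Finset.sum_congr rfl fun a _ => T.diag a, Finset.sum_add_distrib, ← Finset.mul_sum,
      T.sum_ite_c]
  obtain ⟨k, s, he, hs1, hs, hst⟩ : ∃ k s, e = k * t + s ∧ 1 ≤ s ∧ s ≤ t ∧
      (s = t ∨ (s = 2 ∧ ∀ a, T.N a a = k + if a = T.c then 1 else 0)) := by
    rcases hdiag with h | h
    · have hM : ∀ a b, T.M a + (if a = T.c then 1 else 0) = T.M b + if b = T.c then 1 else 0 :=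
        fun a b => by
          have h1 := h a b
          rw [T.diag, T.diag] at h1
          split_ifs at h1 ⊢ <;> omega
      set B := T.M T.c + 1
      have h1 : ∀ a, T.M a + (if a = T.c then 1 else 0) = B := fun a => by
        rw [hM a T.c, if_pos rfl]
      have h2 : ∑ a, T.M a + 1 = t * B := by
        rw [← T.sum_ite_c, ← Finset.sum_add_distrib, Finset.sum_congr rfl fun a _ => h1 a,
          Finset.sum_const, Finset.card_univ, T.card, smul_eq_mul]
      refine ⟨2 * B - 1, t, ?_, by omega, le_rfl, Or.inl rfl⟩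
      have hB : t * 1 ≤ t * B := Nat.mul_le_mul_left _ (by omega)
      rw [Nat.sub_one_mul, show 2 * B * t = 2 * (t * B) by ring]
      omega
    · have hM : ∀ a, T.M a = T.M T.c := fun a => by
        have h1 := h a T.c
        rw [T.diag, T.diag] at h1
        simp only [if_true] at h1
        split_ifs at h1 with h2
        · rw [h2]
        · omega
      refine ⟨2 * T.M T.c, 2, ?_, by omega, by omega, Or.inr ⟨rfl, fun a => by
        rw [T.diag, hM]⟩⟩
      rw [Finset.sum_congr rfl fun a _ => hM a, Finset.sum_const, Finset.card_univ, T.card,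
        smul_eq_mul] at hdsum
      rw [mul_assoc, mul_comm (T.M T.c) t]
      omega
  rcases hP with h | h
  · -- minus sign
    have hup := T.upper_of_principal he hs hs1 h
    have hs2 := T.s_le_two he h3 hup
    obtain ⟨rfl, hk⟩ : s = 2 ∧ ∀ a, T.N a a = k + if a = T.c then 1 else 0 := by
      rcases hst with h' | h'
      · omega
      · exact h'
    set B : Finset (A × A) := {(T.c, T.c), (T.c⁻¹, 1), (1, T.c⁻¹)}
    have hB : ∀ v ∈ T.threeLines \ B, T.N v.1 v.2 = k := by
      intro v hv
      obtain ⟨hv, hvB⟩ := Finset.mem_sdiff.1 hv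
      simp only [threeLines, Finset.mem_union, Finset.mem_image, Finset.mem_univ, true_and, hν,
        one_mul] at hv
      simp only [B, Finset.mem_insert, Finset.mem_singleton, not_or] at hvB
      have hfl : ∀ a : A, T.N a 1 = T.N a⁻¹ a⁻¹ := fun a => by
        rw [T.flip a 1, hν, one_mul, one_mul]
      rcases hv with (⟨a, rfl⟩ | ⟨a, rfl⟩) | ⟨a, rfl⟩
      · rw [hk, if_neg fun h => hvB.1 (by simp only at h; rw [h]), add_zero]
      · rw [hfl, hk, if_neg fun h => hvB.2.1 (by rw [← inv_inv a, h]), add_zero]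
      · rw [T.symm, hfl, hk, if_neg fun h => hvB.2.2 (by rw [← inv_inv a, h]), add_zero]
    have h4 := T.card_mul_le he h3 hup _ hB
    have h5 : 3 * t ≤ (T.threeLines \ B).card + 6 := by
      have := T.card_threeLines
      have := Finset.le_card_sdiff B T.threeLines
      have : B.card ≤ 3 := Finset.card_le_three
      omega
    have h5' : (3 : ℤ) * t ≤ ((T.threeLines \ B).card : ℤ) + 6 := by exact_mod_cast h5
    have hk1 : (1 : ℤ) ≤ k := by
      rcases Nat.eq_zero_or_pos k with rfl | h' <;> omega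
    rw [show (e : ℤ) = k * t + 2 by exact_mod_cast he] at h4
    push_cast at h4
    nlinarith
  · -- plus sign
    have hlow := T.lower_of_principal he hs1 h
    rcases hst with rfl | ⟨rfl, hk⟩
    · have hoff : ∀ r, r ≠ T.ν → ∀ a, T.N a (r * a) = k + 1 := by
        intro r hr a
        have hl := T.line r
        rw [if_neg hr, add_zero] at hl
        have hge : ∀ b, k + 1 ≤ T.N b (r * b) := fun b => by
          have h1 := h r b
          refine Nat.lt_of_mul_lt_mul_left (a := s) ?_
          rw [mul_comm s k]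
          omega
        have hsum : ∑ _b : A, (k + 1) = ∑ b, T.N b (r * b) := by
          rw [Finset.sum_const, Finset.card_univ, T.card, smul_eq_mul, mul_add, mul_comm s k]
          omega
        exact ((Finset.sum_eq_sum_iff_of_le fun b _ => hge b).1 hsum a (Finset.mem_univ a)).symm
      have hne : ∀ a, a ≠ 1 → T.N a a = k + 1 := by
        intro a ha
        have e1 : T.N a a = T.N a⁻¹ (a * a⁻¹) := by
          rw [T.flip a a, hν, one_mul]
        rw [e1, hoff a (by rwa [hν])]
      have h11 : T.N 1 1 = k := by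
        have h1 : ∑ a ∈ Finset.univ.erase (1 : A), T.N a a = (s - 1) * (k + 1) := by
          rw [Finset.sum_congr rfl fun a ha => hne a (Finset.ne_of_mem_erase ha), Finset.sum_const,
            Finset.card_erase_of_mem (Finset.mem_univ _), Finset.card_univ, T.card, smul_eq_mul]
        rw [← Finset.add_sum_erase _ _ (Finset.mem_univ (1 : A)), h1, Nat.sub_one_mul, mul_add,
          mul_one, mul_comm s k] at hline
        have h7 : k * 1 ≤ k * s := Nat.mul_le_mul_left _ (by omega)
        omega
      have hall : ∀ a b, T.N a b = k ∨ T.N a b = k + 1 := by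
        intro a b
        obtain ⟨r, rfl⟩ := line_exists a b
        by_cases hr : r = T.ν
        · rw [hr, hν, one_mul]
          by_cases ha : a = 1
          · subst ha; exact Or.inl h11
          · exact Or.inr (hne a ha)
        · exact Or.inr (hoff r hr a)
      have h0 := T.identity he h3
      rw [Finset.sum_eq_zero fun a _ => Finset.sum_eq_zero fun b _ => by
        rcases hall a b with h' | h' <;> rw [h'] <;> push_cast <;> ring] at h0
      have : (3 : ℤ) ≤ s := by exact_mod_cast ht
      have : (0 : ℤ) ≤ k := Int.natCast_nonneg k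
      nlinarith
    · have hup : ∀ a b, T.N a b ≤ k + 2 := by
        intro a b
        have hr := T.row a
        have h1 : ∑ b' ∈ Finset.univ.erase b, k ≤ ∑ b' ∈ Finset.univ.erase b, T.N a b' :=
          Finset.sum_le_sum fun b' _ => hlow a b'
        rw [Finset.sum_const, Finset.card_erase_of_mem (Finset.mem_univ _), Finset.card_univ, T.card,
          smul_eq_mul, Nat.sub_one_mul, mul_comm t k] at h1
        rw [← Finset.add_sum_erase _ _ (Finset.mem_univ b)] at hr
        omega
      have h0 := T.identity he h3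
      have h1 : ∑ a, ∑ b, ((T.N a b : ℤ) - k) * ((T.N a b : ℤ) - k - 1) ≤
          ∑ a, ∑ b, ((T.N a b : ℤ) - k) := by
        refine Finset.sum_le_sum fun a _ => Finset.sum_le_sum fun b _ => ?_
        have l1 : (k : ℤ) ≤ T.N a b := by exact_mod_cast hlow a b
        have l2 : (T.N a b : ℤ) ≤ k + 2 := by exact_mod_cast hup a b
        nlinarith
      have h2 : ∑ a, ∑ b, ((T.N a b : ℤ) - k) = 2 * (t : ℤ) - 1 := by
        have hh := congrArg (Nat.cast : ℕ → ℤ) T.sum_all
        push_cast at hh
        simp only [Finset.sum_sub_distrib, Finset.sum_const, Finset.card_univ, T.card, nsmul_eq_mul]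
        rw [show (e : ℤ) = k * t + 2 by exact_mod_cast he] at hh
        linarith
      rw [h0, h2] at h1
      have hk1 : 1 ≤ k := by rcases Nat.eq_zero_or_pos k with rfl | h' <;> omega
      have h6 : (k : ℤ) * ((t : ℤ) - 1) * ((t : ℤ) - 2) ≤ 2 * t - 1 := by simpa using h1
      have ht5 : t < 5 := by
        by_contra hc
        have : (5 : ℤ) ≤ t := by exact_mod_cast (not_lt.1 hc)
        have : (1 : ℤ) ≤ k := by exact_mod_cast hk1
        have : (0 : ℤ) ≤ ((t : ℤ) - 1) * ((t : ℤ) - 2) := mul_nonneg (by linarith) (by linarith)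
        nlinarith
      have hev : ∃ j, k * t = 2 * j := ⟨e / 2 - 1, by omega⟩
      have hk2 : k ≤ 2 := by
        interval_cases t <;> norm_num at h6 <;> omega
      obtain ⟨j, hj⟩ := hev
      subst he
      interval_cases t <;> interval_cases k <;> first | omega | norm_num at hp

/-- Odd `e` if the exceptional characters over the square have a minus sign. -/
theorem false_of_odd_minus (ht : 3 ≤ t) (hte : Even t) (h3 : 3 ≤ e) (hodd : Odd e)
    (hP : T.Principal) (h2 : ∀ r a, t * T.N a (r * a) ≤ e + t - 1) : False := by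
  obtain ⟨k, s, he, hs1, hs⟩ := exists_ks (e := e) (t := t) (by omega) (by omega)
  have hup : ∀ a b, T.N a b ≤ k + 1 := by
    intro a b
    obtain ⟨r, rfl⟩ := line_exists a b
    have h1 := h2 r a
    refine Nat.lt_succ_iff.1 (Nat.lt_of_mul_lt_mul_left (a := t) ?_)
    rw [Nat.succ_eq_add_one, mul_add, mul_add, mul_comm t k]
    omega
  have hs2 := T.s_le_two he h3 hup
  obtain rfl : s = 1 := by
    rcases Nat.even_or_odd s with h | h
    · exfalso
      exact (Nat.not_even_iff_odd.2 hodd) (he ▸ (hte.mul_left k).add h)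
    · obtain ⟨j, rfl⟩ := h; omega
  rcases hP with h | h
  · exact T.false_of_one he h3 ht h
  · have hlow := T.lower_of_principal he hs1 h
    have h0 := T.identity he h3
    rw [Finset.sum_eq_zero fun a _ => Finset.sum_eq_zero fun b _ => by
      rcases (show T.N a b = k ∨ T.N a b = k + 1 by have := hlow a b; have := hup a b; omega)
        with h' | h' <;> rw [h'] <;> push_cast <;> ring] at h0
    have hk1 : (1 : ℤ) ≤ k := by
      rcases Nat.eq_zero_or_pos k with rfl | h' <;> omega
    have : (3 : ℤ) ≤ t := by exact_mod_cast ht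
    push_cast at h0
    nlinarith

/-- Odd `e` if the exceptional characters over the square have a plus sign. -/
theorem odd_plus (ht : 3 ≤ t) (hte : Even t) (h3 : 3 ≤ e) (hodd : Odd e) (hν : T.ν ≠ 1)
    (hP : T.Principal) (hsym : ∀ a, e - 1 ≤ 2 * t * T.M a + t)
    (hwedge : ∀ a, e + 1 ≤ 2 * t * (T.M a + if a = T.c then 1 else 0) + (t - 2)) :
    e + 3 ≤ t ∨ ∃ k s, e = k * t + s ∧ 2 ≤ k ∧ Even k ∧ 3 ≤ s ∧ s + 3 ≤ t ∧
      ∀ a b, k ≤ T.N a b := by
  obtain ⟨k, s, he, hs1, hs⟩ := exists_ks (e := e) (t := t) (by omega) (by omega)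
  have hsodd : Odd s := by
    rw [he] at hodd
    exact (Nat.odd_add'.1 hodd).2 (hte.mul_left k)
  rcases hP with h | h
  · exfalso
    have hup := T.upper_of_principal he hs hs1 h
    have hs2 := T.s_le_two he h3 hup
    obtain rfl : s = 1 := by obtain ⟨j, rfl⟩ := hsodd; omega
    exact T.false_of_one he h3 ht h
  have hlow := T.lower_of_principal he hs1 h
  rcases eq_or_ne s 1 with rfl | hs3
  · exfalso
    have hup : ∀ a b, T.N a b ≤ k + 1 := by
      intro a b
      have hr := T.row a
      have h1 : ∑ b' ∈ Finset.univ.erase b, k ≤ ∑ b' ∈ Finset.univ.erase b, T.N a b' :=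
        Finset.sum_le_sum fun b' _ => hlow a b'
      rw [Finset.sum_const, Finset.card_erase_of_mem (Finset.mem_univ _), Finset.card_univ, T.card,
        smul_eq_mul, Nat.sub_one_mul, mul_comm t k] at h1
      rw [← Finset.add_sum_erase _ _ (Finset.mem_univ b)] at hr
      omega
    have h0 := T.identity he h3
    rw [Finset.sum_eq_zero fun a _ => Finset.sum_eq_zero fun b _ => by
      rcases (show T.N a b = k ∨ T.N a b = k + 1 by have := hlow a b; have := hup a b; omega)
        with h' | h' <;> rw [h'] <;> push_cast <;> ring] at h0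
    have hk1 : (1 : ℤ) ≤ k := by
      rcases Nat.eq_zero_or_pos k with rfl | h' <;> omega
    have : (3 : ℤ) ≤ t := by exact_mod_cast ht
    push_cast at h0
    nlinarith
  have hs3' : 3 ≤ s := by obtain ⟨j, rfl⟩ := hsodd; omega
  have hd := T.sum_diag hν
  rcases Nat.even_or_odd k with hk | hk
  · by_cases hs' : s + 3 ≤ t
    · rcases Nat.eq_zero_or_pos k with rfl | hk0
      · left; omega
      · exact Or.inr ⟨k, s, he, by obtain ⟨j, rfl⟩ := hk; omega, hk, hs3', hs', hlow⟩
    · exfalso
      have hge : ∀ a, k + 2 ≤ T.N a a + if a = T.c then 1 else 0 := by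
        intro a
        have h1 := hwedge a
        set M' := T.M a + if a = T.c then 1 else 0 with hM'
        have h4 : k < 2 * M' := by
          refine Nat.lt_of_mul_lt_mul_left (a := t) ?_
          rw [mul_comm t k, show t * (2 * M') = 2 * t * M' by ring]
          omega
        rw [T.diag a]
        obtain ⟨j, rfl⟩ := hk
        omega
      have h1 := Finset.sum_le_sum fun a (_ : a ∈ (Finset.univ : Finset A)) => hge a
      rw [Finset.sum_const, Finset.card_univ, T.card, smul_eq_mul, Finset.sum_add_distrib, hd,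
        T.sum_ite_c, mul_add, mul_comm t k] at h1
      omega
  · exfalso
    have hge : ∀ a, (k + 1) + (if a = T.c then 1 else 0) ≤ T.N a a := by
      intro a
      have h1 := hsym a
      have h4 : k < 2 * T.M a + 1 := by
        refine Nat.lt_of_mul_lt_mul_left (a := t) ?_
        rw [mul_comm t k, mul_add, mul_one, show t * (2 * T.M a) = 2 * t * T.M a by ring]
        omega
      rw [T.diag a]
      obtain ⟨j, rfl⟩ := hk
      omega
    have h1 := Finset.sum_le_sum fun a (_ : a ∈ (Finset.univ : Finset A)) => hge a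
    rw [Finset.sum_add_distrib, Finset.sum_const, Finset.card_univ, T.card, smul_eq_mul, hd,
      T.sum_ite_c, mul_add, mul_comm t k] at h1
    omega

end Table

end CfsgLib.SmallDegree
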