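import Cfsg.Agent.Lib.PermPrime.Wedge

/-!
# The symmetric square of a character
-/

set_option autoImplicit false
set_option linter.style.haveILetI false

noncomputable section

namespace CfsgLib.SmallDegree

open Cfsg CfsgLib.FrobSchur CfsgLib.PermPrime
open scoped Matrix

universe u

variable {G : Type u} [Group G]

/-- The symmetric square of a character is a character. -/
theorem isCharacter_sym [Fintype G] {χ : G → ℂ} (hχ : IsCharacter G χ) :
    IsCharacter G (fun g => (χ g * χ g + χ (g * g)) / 2) := by
  classical
  obtain ⟨n, ρ, rfl⟩ := hχ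
  set A : G →* Matrix (Fin n) (Fin n) ℂ := matHom ρ with hA
  set τ : Matrix (Fin n) (Fin n) ℂ →ₗ[ℂ] Matrix (Fin n) (Fin n) ℂ := transposeMap with hτ
  have hcomm : ∀ (g : G) X, formRep A g (τ X) = τ (formRep A g X) := fun g X => by
    show A g * Xᵀ * (A g)ᵀ = (A g * X * (A g)ᵀ)ᵀ
    simp [Matrix.transpose_mul, Matrix.mul_assoc]
  let V : Submodule ℂ (Matrix (Fin n) (Fin n) ℂ) := LinearMap.ker (τ - LinearMap.id)
  have hV : ∀ X, X ∈ V ↔ τ X - X = 0 := fun X => LinearMap.mem_ker
  have hinv : ∀ g : G, ∀ X ∈ V, formRep A g X ∈ V := fun g X hX => by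
    rw [hV, ← hcomm, ← map_sub, (hV X).1 hX, map_zero]
  let R : Representation ℂ G V :=
    { toFun := fun g => (formRep A g).restrict (hinv g)
      map_one' := by ext X; simp
      map_mul' := fun g h => by ext X; simp }
  have hchar : ∀ g, LinearMap.trace ℂ V (R g) =
      (ρ.character g * ρ.character g + ρ.character (g * g)) / 2 := by
    intro g
    set P : Matrix (Fin n) (Fin n) ℂ →ₗ[ℂ] Matrix (Fin n) (Fin n) ℂ :=
      (1 / 2 : ℂ) • (LinearMap.id + τ) with hP
    have hfix : ∀ X ∈ V, P X = X := fun X hX => by
      have h := sub_eq_zero.1 ((hV X).1 hX)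
      simp only [hP, LinearMap.smul_apply, LinearMap.add_apply, LinearMap.id_apply, h]
      rw [← two_smul ℂ X, smul_smul, one_div, inv_mul_cancel₀ two_ne_zero, one_smul]
    have hmem : ∀ X, ((formRep A g).comp P) X ∈ V := fun X => by
      refine hinv g _ ((hV _).2 ?_)
      have : τ (τ X) = X := Matrix.transpose_transpose X
      simp only [hP, LinearMap.smul_apply, LinearMap.add_apply, LinearMap.id_apply, map_smul, map_add,
        this, add_comm X (τ X), sub_self]
    have e : R g = LinearMap.restrict ((formRep A g).comp P) (p := V) (q := V) (fun X _ => hmem X) := by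
      refine LinearMap.ext fun X => Subtype.ext ?_
      show formRep A g (X : Matrix (Fin n) (Fin n) ℂ) = formRep A g (P X)
      rw [hfix X X.2]
    rw [e, LinearMap.trace_restrict_eq_of_forall_mem V _ hmem]
    have h1 : LinearMap.trace ℂ (Matrix (Fin n) (Fin n) ℂ) (formRep A g) =
        ρ.character g * ρ.character g := by
      have h := trace_conjMap ((A g)ᵀ)
      rw [Matrix.transpose_transpose, Matrix.trace_transpose, hA, trace_matHom] at h
      rw [hA]
      exact h
    have h2 : LinearMap.trace ℂ (Matrix (Fin n) (Fin n) ℂ) ((formRep A g).comp τ) =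
        ρ.character (g * g) := by
      have h := trace_conjTransposeMap ((A g)ᵀ)
      rw [Matrix.transpose_transpose, ← Matrix.transpose_mul, Matrix.trace_transpose, ← map_mul,
        hA, trace_matHom] at h
      rw [hA]
      exact h
    rw [hP, LinearMap.comp_smul, LinearMap.comp_add, LinearMap.comp_id, map_smul, map_add, h1, h2,
      smul_eq_mul]
    ring
  let b := Module.finBasis ℂ V
  convert Induction.isCharacter_of_matrix
    ((LinearMap.toMatrixAlgEquiv b).toAlgHom.toRingHom.toMonoidHom.comp R) using 1
  funext g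
  rw [← hchar g, LinearMap.trace_eq_matrix_trace ℂ b]
  rfl

end CfsgLib.SmallDegree
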