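import Cfsg.Agent.Lib.SmallDegree.Good
import Cfsg.Agent.Lib.SmallDegree.Square
import Cfsg.Agent.Lib.SmallDegree.Cases

/-!
# Degree `p - e` with at least three classes of residues
-/

set_option autoImplicit false
set_option linter.unusedSectionVars false
set_option linter.style.haveILetI false

noncomputable section

namespace CfsgLib.SmallDegree

open Cfsg CfsgLib.Characters CfsgLib.PrimeDefect CfsgLib.SelfCentralPrime
open CfsgLib.LinSmall CfsgLib.LinSmall.CData
open CfsgLib.PSubTwo.Loc (Over exists_over over_unique)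
open scoped ComplexConjugate Classical

universe u

variable {G : Type u} [Group G] [Fintype G] {p : ℕ} [hp : Fact p.Prime] {x : G}
  {D : Data p x (Subgroup.centralizer ({x} : Set G)) (Subgroup.center G)}

/-- The trivial character. -/
def triv : IrrCharacter G := ⟨fun _ => 1, isIrrCharacter_one⟩

namespace Fam

/-- A character with one class of residues missing is exceptional, with a minus sign. -/
theorem eq_θq_of_hole {ω : Subgroup.center G →* ℂˣ} (F : CFam D (ofHom ω)) {χ : IrrCharacter G}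
    (hω : OverZ (χ : G → ℂ) ω) (i : Q D.muHom.range)
    (ht : 2 ≤ Nat.card (Q D.muHom.range))
    (hxm : ∀ a : ZMod p, (xm D χ a : ℂ) = 1 - hole D i a) :
    θq F i = χ ∧ F.ε = -1 ∧ F.m = 1 := by
  haveI : Nontrivial (Q D.muHom.range) := Finite.one_lt_card_iff_nontrivial.1 (by omega)
  obtain ⟨j, hj⟩ := exists_ne i
  have h0 : xm D χ 0 = 1 := by
    have h := hxm 0
    rw [hole_zero, sub_zero] at h
    exact_mod_cast h
  have hi : xm D χ ((i.out : (ZMod p)ˣ) : ZMod p) = 0 := by
    have h := hxm ((i.out : (ZMod p)ˣ) : ZMod p)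
    rw [hole, if_pos ⟨Units.ne_zero _, by rw [cls_unit, QuotientGroup.out_eq']⟩, sub_self] at h
    exact_mod_cast h
  have hj' : xm D χ ((j.out : (ZMod p)ˣ) : ZMod p) = 1 := by
    have h := hxm ((j.out : (ZMod p)ˣ) : ZMod p)
    rw [hole, if_neg (fun hh => hj (by rw [← hh.2, cls_unit, QuotientGroup.out_eq'])), sub_zero] at h
    exact_mod_cast h
  rcases F.cover χ (over_of_overZ hω) with hX | ⟨u, rfl⟩ | hc
  · have h1 := F.xm_X χ hX i.out
    have h2 := F.xm_X χ hX j.out
    omega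
  · rw [← θq_mk F u] at *
    have h1 := xm_θq F (u : Q D.muHom.range) (a := ((i.out : (ZMod p)ˣ) : ZMod p)) (Units.ne_zero _)
    have h2 := xm_θq F (u : Q D.muHom.range) (a := ((j.out : (ZMod p)ˣ) : ZMod p)) (Units.ne_zero _)
    rw [cls_unit, QuotientGroup.out_eq', hi] at h1
    rw [cls_unit, QuotientGroup.out_eq', hj'] at h2
    have hm : F.m = 1 := by
      rw [θq, F.xm_θ_zero] at h0; exact h0
    rw [hm] at h1 h2
    have hu : i = (u : Q D.muHom.range) := by
      by_contra hne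
      rw [if_neg hne] at h1
      omega
    rw [if_pos hu] at h1
    exact ⟨by rw [hu], by omega, hm⟩
  · exact absurd ((hc _).symm.trans hi) (by rw [h0]; omega)

variable [Fintype (nrm x)] {ω : Subgroup.center G →* ℂˣ} (F : CFam D (ofHom ω))

/-- The bound on a line of a table. -/
theorem line_bound {ψ : G → ℂ} (hψ : IsCharacter G ψ) (hω : OverZ ψ ω) {K : ℂ}
    {Nf : Q D.muHom.range → ℕ}
    (h4 : ∀ a : ZMod p, a ≠ 0 → four x ψ a = (p : ℂ) * (K + (Nf (cls D.muHom.range a) : ℂ)))
    {B : ℕ} (hB : ∑ q, mlt ψ (θq F q) ≤ B) :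
    (F.ε = -1 → ∀ c, Nat.card (Q D.muHom.range) * Nf c ≤ ∑ q, Nf q + B) ∧
    (F.ε = 1 → ∀ c, ∑ q, Nf q ≤ Nat.card (Q D.muHom.range) * Nf c + B) := by
  have key : ∀ c l, (F.ε : ℤ) * ((mlt ψ (θq F c) : ℤ) - mlt ψ (θq F l)) = (Nf c : ℤ) - Nf l := by
    intro c l
    have h := four_sub F hψ hω (a := ((c.out : (ZMod p)ˣ) : ZMod p))
      (a' := ((l.out : (ZMod p)ˣ) : ZMod p)) (Units.ne_zero _) (Units.ne_zero _)
    rw [h4 _ (Units.ne_zero _), h4 _ (Units.ne_zero _)] at h
    simp only [cls_unit, QuotientGroup.out_eq'] at h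
    rw [mul_assoc, ← mul_sub] at h
    have h1 := mul_left_cancel₀ (Nat.cast_ne_zero.2 hp.out.ne_zero) h
    rw [add_sub_add_left_eq_sub] at h1
    exact_mod_cast h1.symm
  constructor <;> intro hε c
  · have h : ∀ q, Nf c + mlt ψ (θq F c) = Nf q + mlt ψ (θq F q) := fun q => by
      have := key c q
      rw [hε] at this
      omega
    have hs : ∑ _q : Q D.muHom.range, (Nf c + mlt ψ (θq F c)) =
        ∑ q, Nf q + ∑ q, mlt ψ (θq F q) := by
      rw [← Finset.sum_add_distrib]; exact Finset.sum_congr rfl fun q _ => h q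
    rw [Finset.sum_const, Finset.card_univ, ← Nat.card_eq_fintype_card, smul_eq_mul, mul_add] at hs
    omega
  · have h : ∀ q, Nf q + mlt ψ (θq F c) = Nf c + mlt ψ (θq F q) := fun q => by
      have := key c q
      rw [hε] at this
      omega
    have hs : ∑ q, Nf q + ∑ _q : Q D.muHom.range, mlt ψ (θq F c) =
        ∑ _q : Q D.muHom.range, Nf c + ∑ q, mlt ψ (θq F q) := by
      rw [← Finset.sum_add_distrib, ← Finset.sum_add_distrib]
      exact Finset.sum_congr rfl fun q _ => h q
    simp only [Finset.sum_const, Finset.card_univ, ← Nat.card_eq_fintype_card, smul_eq_mul] at hs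
    omega

/-- A vanishing multiplicity makes the line constant. -/
theorem const_of_fN_zero {ψ : G → ℂ} (hψ : IsCharacter G ψ) (hω : OverZ ψ ω) {K : ℂ}
    {Nf : Q D.muHom.range → ℕ}
    (h4 : ∀ a : ZMod p, a ≠ 0 → four x ψ a = (p : ℂ) * (K + (Nf (cls D.muHom.range a) : ℂ)))
    {φ : nrm x →* ℂˣ} {f : ℕ} (hf1 : 1 ≤ f) (hf : ∀ q, fN (θq F q : G → ℂ) φ = f)
    (h0 : fN ψ φ = 0) (c d : Q D.muHom.range) : Nf c = Nf d := by
  have hb := sum_mlt_le F hψ hf1 hf (n := 0) (by rw [h0, Nat.cast_zero]) ∅ (by simp) (fun _ => 0)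
    (by simp)
  rw [Finset.sum_empty, add_zero, Nat.le_zero, Finset.sum_eq_zero_iff] at hb
  have h := four_sub F hψ hω (a := ((c.out : (ZMod p)ˣ) : ZMod p))
      (a' := ((d.out : (ZMod p)ˣ) : ZMod p)) (Units.ne_zero _) (Units.ne_zero _)
  rw [h4 _ (Units.ne_zero _), h4 _ (Units.ne_zero _)] at h
  simp only [cls_unit, QuotientGroup.out_eq', hb _ (Finset.mem_univ _), sub_self, mul_zero,
    ← mul_sub, add_sub_add_left_eq_sub, mul_eq_zero, Nat.cast_eq_zero, hp.out.ne_zero, false_or,
    sub_eq_zero, Nat.cast_inj] at h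
  exact h

end Fam

section

variable [Fintype (nrm x)]

theorem fN_one (φ : nrm x →* ℂˣ) : fN (fun _ : G => (1 : ℂ)) φ = if φ = 1 then 1 else 0 := by
  split_ifs with h
  · subst h
    exact classInner_irr_self (isIrrCharacter_one (G := nrm x))
  · refine classInner_irr_ne (isIrrCharacter_one (G := nrm x)) (isIrrCharacter_of_hom φ) fun hh => h ?_
    exact MonoidHom.ext fun n => Units.ext (congrFun hh n).symm

theorem triv_ne_θq {ω : Subgroup.center G →* ℂˣ} (F : CFam D (ofHom ω))
    (ht : 2 ≤ Nat.card (Q D.muHom.range)) (q : Q D.muHom.range) : Fam.θq F q ≠ (triv : IrrCharacter G) := by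
  intro h
  haveI : Nontrivial (Q D.muHom.range) := Finite.one_lt_card_iff_nontrivial.1 (by omega)
  obtain ⟨j, hj⟩ := exists_ne q
  have hz : ∀ a : ZMod p, a ≠ 0 → xm D (triv : IrrCharacter G) a = 0 := by
    intro a ha
    have h1 := xm_eq D (triv : IrrCharacter G) a
    simp only [triv, one_mul] at h1
    rw [sum_std, if_neg (neg_ne_zero.2 ha), mul_eq_zero,
      or_iff_right (Nat.cast_ne_zero.2 hp.out.ne_zero), Nat.cast_eq_zero] at h1
    exact h1
  have h1 := Fam.xm_θq F q (a := ((q.out : (ZMod p)ˣ) : ZMod p)) (Units.ne_zero _)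
  have h2 := Fam.xm_θq F q (a := ((j.out : (ZMod p)ˣ) : ZMod p)) (Units.ne_zero _)
  rw [h, hz _ (Units.ne_zero _), cls_unit, QuotientGroup.out_eq', if_pos rfl] at h1
  rw [h, hz _ (Units.ne_zero _), cls_unit, QuotientGroup.out_eq', if_neg hj] at h2
  rcases F.ε_spec with he | he <;> omega

end

/-- The table of a group of residues. -/
def table (p : ℕ) [Fact p.Prime] (hp2 : p ≠ 2) (H : Subgroup (ZMod p)ˣ) :
    Table (Q H) (Nat.card H) (Nat.card (Q H)) where
  N := cN H
  ν := nu H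
  c := half H
  ν_sq := nu_mul_nu H
  card := Nat.card_eq_fintype_card.symm
  symm := cN_comm H
  flip := cN_flip H
  row a := by
    have h := sum_cN_row H a
    split_ifs at h ⊢ <;> exact h
  line r := by
    have h := sum_cN_line H r
    split_ifs at h ⊢ <;> exact h
  sq := by
    rw [sum_cN_sq H]
    congr 1
    have h : p - 1 = Nat.card (Q H) * Nat.card H := by
      rw [← Subgroup.card_eq_card_quotient_mul_card_subgroup H, Nat.card_eq_fintype_card,
        ZMod.card_units]
    rw [mul_comm, ← h]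
    omega
  M a := (cN_self_parity H hp2 a).choose
  diag a := by
    have h := (cN_self_parity H hp2 a).choose_spec
    split_ifs at h ⊢ <;> exact h

theorem odd_card_of_nu (hp2 : p ≠ 2) (H : Subgroup (ZMod p)ˣ) (h : nu H ≠ 1) :
    Odd (Nat.card H) ∧ Even (Nat.card (Q H)) := by
  have hodd : Odd (Nat.card H) := by
    by_contra hc
    rw [Nat.not_odd_iff_even] at hc
    obtain ⟨u, hu⟩ := exists_prime_orderOf_dvd_card' (G := H) 2 hc.two_dvd
    apply h
    have hu1 : ((u : (ZMod p)ˣ) : ZMod p) = -1 := by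
      have h1 : (u : (ZMod p)ˣ) * u = 1 := by
        have := congrArg Subtype.val (pow_orderOf_eq_one u)
        rw [hu, pow_two] at this
        exact this
      have h2 : (u : (ZMod p)ˣ) ≠ 1 := fun he => by
        rw [show u = 1 from Subtype.ext he, orderOf_one] at hu; omega
      have h1' := congrArg Units.val h1
      rw [Units.val_mul, Units.val_one] at h1'
      rcases mul_self_eq_one_iff.1 h1' with h3 | h3
      · exact absurd (Units.ext h3) h2
      · exact h3
    rw [nu, ← hu1, cls_unit]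
    exact (QuotientGroup.eq_one_iff _).2 u.2
  refine ⟨hodd, ?_⟩
  have h1 : Even (Nat.card (Q H) * Nat.card H) := by
    rw [← Subgroup.card_eq_card_quotient_mul_card_subgroup H, Nat.card_eq_fintype_card,
      ZMod.card_units]
    exact (hp.out.even_sub_one hp2)
  exact (Nat.even_mul.1 h1).resolve_right (Nat.not_even_iff_odd.2 hodd)

/-- The bounds from the principal family. -/
theorem principal [Fintype (nrm x)] {ω : Subgroup.center G →* ℂˣ} (F : CFam D (ofHom ω))
    {μ : nrm x →* ℂˣ} (hgood : ∀ i, Good D (Fam.θq F i : G → ℂ) i ω μ)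
    (hone : ∀ {ω' : Subgroup.center G →* ℂˣ} (F' : CFam D (ofHom ω')), 1 ≤ F'.m) (hp2 : p ≠ 2)
    (ht : 3 ≤ Nat.card (Q D.muHom.range)) :
    (table p hp2 D.muHom.range).Principal := by
  set e := Nat.card D.muHom.range with hedef
  set t := Nat.card (Q D.muHom.range) with htdef
  have hω1 : ω * ω⁻¹ = 1 := MonoidHom.ext fun z => by simp
  have hμ1 : μ * μ⁻¹ = 1 := MonoidHom.ext fun z => by simp
  obtain ⟨F0⟩ := exists_cfam D (ofHom (1 : Subgroup.center G →* ℂˣ))
  obtain ⟨φ, hφP, hφZ, f, hf1, hf⟩ := Fam.exists_phi F0 (hone F0)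
  have key : ∀ r : Q D.muHom.range, (F0.ε = -1 → ∀ a, t * cN D.muHom.range a (r * a) ≤ ∑ b, cN D.muHom.range b (r * b) + (t - 1)) ∧
      (F0.ε = 1 → ∀ a, ∑ b, cN D.muHom.range b (r * b) ≤ t * cN D.muHom.range a (r * a) + (t - 1)) := by
    intro r
    have hj := (hgood (nu D.muHom.range * r)).conj_good
    rw [show nu D.muHom.range * (nu D.muHom.range * r) = r by rw [← mul_assoc, nu_mul_nu, one_mul]] at hj
    set ψ := fun g => (Fam.θq F 1 : G → ℂ) g * conj ((Fam.θq F (nu D.muHom.range * r) : G → ℂ) g) with hψ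
    have hψc : IsCharacter G ψ := isCharacter_mul (hgood 1).isChar hj.isChar
    have hψω : OverZ ψ (1 : Subgroup.center G →* ℂˣ) := by
      have h := (hgood 1).overZ_mul hj
      rwa [hω1] at h
    obtain ⟨n, hn⟩ := fN_nat (x := x) hψc φ
    have hn' := (hgood 1).fN_prod hj hφP (by rw [hω1]; exact hφZ)
    rw [mul_one, hμ1] at hn'
    have hnval : (n : ℂ) = (t : ℂ) - 2 + (if r = nu D.muHom.range then 1 else 0) + (if φ = 1 then 1 else 0) := by
      rw [← hn]; exact hn'
    have hB : ∑ q, mlt ψ (Fam.θq F0 q) ≤ t - 1 := by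
      have hle := Fam.sum_mlt_le F0 hψc hf1 hf hn {(triv : IrrCharacter G)}
        (fun χ' hχ' q => by rw [Finset.mem_singleton.1 hχ']; exact triv_ne_θq F0 (by omega) q)
        (fun _ => if φ = 1 then 1 else 0) (fun χ' hχ' => by
          rw [Finset.mem_singleton.1 hχ']
          show fN (fun _ : G => (1 : ℂ)) φ = _
          rw [fN_one]
          split_ifs <;> simp)
      rw [Finset.sum_singleton] at hle
      have htriv : (mlt ψ (triv : IrrCharacter G) : ℂ) = if r = nu D.muHom.range then 1 else 0 := by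
        rw [cast_mlt hψc]
        have e1 : classInner ψ ((triv : IrrCharacter G) : G → ℂ) =
            classInner (Fam.θq F 1 : G → ℂ) (Fam.θq F (nu D.muHom.range * r) : G → ℂ) := by
          simp [classInner, hψ, triv]
        rw [e1, classInner_irr]
        have e2 : Fam.θq F 1 = Fam.θq F (nu D.muHom.range * r) ↔ r = nu D.muHom.range := by
          rw [(Fam.θq_injective F).eq_iff]
          constructor
          · intro h
            rw [← one_mul r, ← nu_mul_nu D.muHom.range, mul_assoc, ← h, mul_one]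
          · intro h; rw [h, nu_mul_nu]
        simp only [e2]
      have h2 : (n : ℤ) = (t : ℤ) - 2 + (if r = nu D.muHom.range then 1 else 0) + (if φ = 1 then 1 else 0) := by
        split_ifs at hnval ⊢ <;> exact_mod_cast hnval
      have h3 : mlt ψ (triv : IrrCharacter G) = if r = nu D.muHom.range then 1 else 0 := by
        split_ifs at htriv ⊢ <;> exact_mod_cast htriv
      rw [h3] at hle
      split_ifs at h2 hle <;> omega
    have h4 : ∀ a : ZMod p, a ≠ 0 → four x ψ a = (p : ℂ) * (((p : ℂ) - 2 * e) +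
        ((cN D.muHom.range (cls D.muHom.range a)⁻¹ (r * (cls D.muHom.range a)⁻¹) : ℕ) : ℂ)) := by
      intro a ha
      show four x (fun g => (Fam.θq F 1 : G → ℂ) g * conj ((Fam.θq F (nu D.muHom.range * r) : G → ℂ) g)) a = _
      rw [(hgood 1).four_prod hj, if_neg ha, one_mul]
    obtain ⟨hm', hp'⟩ := Fam.line_bound F0 hψc hψω (Nf := fun c => cN D.muHom.range c⁻¹ (r * c⁻¹)) h4 hB
    have hsum : ∑ q : Q D.muHom.range, cN D.muHom.range q⁻¹ (r * q⁻¹) = ∑ q, cN D.muHom.range q (r * q) :=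
      Fintype.sum_equiv (Equiv.inv _) _ _ fun _ => rfl
    refine ⟨fun h a => ?_, fun h a => ?_⟩
    · have := hm' h a⁻¹
      rwa [hsum, inv_inv] at this
    · have := hp' h a⁻¹
      rwa [hsum, inv_inv] at this
  rcases F0.ε_spec with h | h
  · exact Or.inr fun r => (key r).2 h
  · exact Or.inl fun r => (key r).1 h

/-- The bound on the table from the family above the square, if it has a minus sign. -/
theorem prod_bound [Fintype (nrm x)] {ω : Subgroup.center G →* ℂˣ} (F : CFam D (ofHom ω))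
    {μ : nrm x →* ℂˣ} (hgood : ∀ i, Good D (Fam.θq F i : G → ℂ) i ω μ)
    (F2 : CFam D (ofHom (ω * ω))) (hε2 : F2.ε = -1) {φ : nrm x →* ℂˣ} (hφP : TrivP D φ)
    (hφZ : OnZ D φ (ω * ω)) {f : ℕ} (hf1 : 1 ≤ f) (hf : ∀ q, fN (Fam.θq F2 q : G → ℂ) φ = f)
    (ht : 3 ≤ Nat.card (Q D.muHom.range)) (r a : Q D.muHom.range) :
    Nat.card (Q D.muHom.range) * cN D.muHom.range a (r * a) ≤
      Nat.card D.muHom.range + Nat.card (Q D.muHom.range) - 1 := by
  set e := Nat.card D.muHom.range with hedef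
  set t := Nat.card (Q D.muHom.range) with htdef
  set L : ℕ := if φ = μ * μ then 1 else 0 with hL
  have hLc : (L : ℂ) = if φ = μ * μ then 1 else 0 := by rw [hL]; split_ifs <;> simp
  set ψ := fun g => (Fam.θq F 1 : G → ℂ) g * (Fam.θq F r : G → ℂ) g with hψ
  have hψc : IsCharacter G ψ := isCharacter_mul (hgood 1).isChar (hgood r).isChar
  obtain ⟨n, hn⟩ := fN_nat (x := x) hψc φ
  have hn' := (hgood 1).fN_prod (hgood r) hφP hφZ
  rw [mul_one] at hn'
  have h2 : (n : ℤ) = (t : ℤ) - 2 + (if r = nu D.muHom.range then 1 else 0) + (L : ℤ) := by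
    have h : (n : ℂ) = (t : ℂ) - 2 + (if r = nu D.muHom.range then 1 else 0) + (L : ℂ) := by
      rw [hLc, ← hn]; exact hn'
    split_ifs at h ⊢ <;> exact_mod_cast h
  have hB := Fam.sum_mlt_le F2 hψc hf1 hf hn ∅ (by simp) (fun _ => 0) (by simp)
  rw [Finset.sum_empty, add_zero] at hB
  have h4 : ∀ a : ZMod p, a ≠ 0 → four x ψ a = (p : ℂ) * (((p : ℂ) - 2 * e) +
      ((cN D.muHom.range (cls D.muHom.range a)⁻¹ (r * (cls D.muHom.range a)⁻¹) : ℕ) : ℂ)) := by
    intro a ha
    rw [hψ, (hgood 1).four_prod (hgood r), if_neg ha, one_mul]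
  have hb := (Fam.line_bound F2 hψc ((hgood 1).overZ_mul (hgood r)) (Nf := fun c => cN D.muHom.range c⁻¹ (r * c⁻¹)) h4 hB).1 hε2 a⁻¹
  rw [show ∑ q : Q D.muHom.range, cN D.muHom.range q⁻¹ (r * q⁻¹) = ∑ q, cN D.muHom.range q (r * q) from
    Fintype.sum_equiv (Equiv.inv _) _ _ fun _ => rfl, inv_inv] at hb
  have hl := sum_cN_line D.muHom.range r
  have hL1 : L ≤ 1 := by rw [hL]; split_ifs <;> omega
  change t * cN D.muHom.range a (r * a) ≤ _ at hb
  show t * cN D.muHom.range a (r * a) ≤ e + t - 1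
  split_ifs at h2 hl <;> omega

set_option maxHeartbeats 1600000 in
/-- **The degree `p - e` with at least three classes.** -/
theorem core [Fintype (nrm x)] (hnn : ∀ K : Subgroup G, K.Normal → Nat.card K ≠ p)
    (χ : IrrCharacter G) (hfaith : ∀ g : G, (χ : G → ℂ) g = (χ : G → ℂ) 1 → g = 1)
    (hlt : charDegree (χ : G → ℂ) + 1 < p)
    (hdeg : charDegree (χ : G → ℂ) + Nat.card D.muHom.range = p)
    (hxm0 : xm D χ 0 = 1)
    (ht : 3 ≤ Nat.card (Q D.muHom.range)) (he : 3 ≤ Nat.card D.muHom.range) :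
    ¬ Odd (Nat.card (Subgroup.center G)) ∧
      (Nat.card D.muHom.range + 3 ≤ Nat.card (Q D.muHom.range) ∨
        ∃ k s, Nat.card D.muHom.range = k * Nat.card (Q D.muHom.range) + s ∧ 2 ≤ k ∧ Even k ∧
          3 ≤ s ∧ s + 3 ≤ Nat.card (Q D.muHom.range) ∧ ∀ a b, k ≤ cN D.muHom.range a b) := by
  set e := Nat.card D.muHom.range with hedef
  set t := Nat.card (Q D.muHom.range) with htdef
  have hpet : p - 1 = t * e := by
    rw [← D.card_units]; exact Subgroup.card_eq_card_quotient_mul_card_subgroup D.muHom.range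
  have h3e : 3 * e ≤ t * e := Nat.mul_le_mul_right e ht
  have hp2 : p ≠ 2 := by omega
  obtain ⟨ω, hω⟩ := exists_overZ χ
  obtain ⟨F⟩ := exists_cfam D (ofHom ω)
  -- the exceptional characters above `ω`
  obtain ⟨i₀, hi₀⟩ : ∃ i₀ : Q D.muHom.range, ∀ a : ZMod p, (xm D χ a : ℂ) = 1 - hole D i₀ a := by
    rcases F.cover χ (over_of_overZ hω) with hX | ⟨u, hu⟩ | hc
    · exfalso
      have h := F.deg_X hX
      rw [hxm0] at h
      rcases F.sign_spec χ hX with hs | hs <;> rw [hs] at h <;> omega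
    · have h1 := F.xm_θ_zero u
      rw [hu, hxm0] at h1
      have h2 := F.deg_θ u
      rw [hu, ← h1] at h2
      refine ⟨(u : Q D.muHom.range), fun a => ?_⟩
      by_cases ha : a = 0
      · subst ha; rw [hxm0, hole_zero, sub_zero, Nat.cast_one]
      have h3 := Fam.xm_θq F (u : Q D.muHom.range) ha
      rw [Fam.θq_mk, hu, ← h1] at h3
      have hε : F.ε = -1 := by rcases F.ε_spec with h' | h' <;> rw [h'] at h2 <;> omega
      rw [hε] at h3
      rw [hole]
      by_cases hc : cls D.muHom.range a = (u : Q D.muHom.range)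
      · rw [if_pos hc] at h3
        rw [if_pos ⟨ha, hc⟩, show xm D χ a = 0 by omega]; simp
      · rw [if_neg hc] at h3
        rw [if_neg (fun hh => hc hh.2), show xm D χ a = 1 by omega]; simp
    · exfalso
      have h := sum_xm D χ
      rw [Finset.sum_congr rfl fun j _ => (hc j).trans hxm0, Finset.sum_const, Finset.card_univ,
        ZMod.card, smul_eq_mul] at h
      omega
  obtain ⟨hχ, hε, hm⟩ := Fam.eq_θq_of_hole F hω i₀ (by omega) hi₀
  have hxmq : ∀ (i : Q D.muHom.range) (a : ZMod p), (xm D (Fam.θq F i) a : ℂ) = 1 - hole D i a := by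
    intro i a
    by_cases ha : a = 0
    · subst ha; rw [hole_zero, sub_zero, Fam.θq, F.xm_θ_zero, hm, Nat.cast_one]
    have h := congrArg (Int.cast : ℤ → ℂ) (Fam.xm_θq F i ha)
    rw [hm, hε] at h
    rw [hole]
    by_cases hc : cls D.muHom.range a = i
    · rw [if_pos hc] at h; rw [if_pos ⟨ha, hc⟩]; push_cast at h; linear_combination h
    · rw [if_neg hc] at h; rw [if_neg fun hh => hc hh.2]; push_cast at h; linear_combination h
  obtain ⟨μ, hμ⟩ := exists_good D (Fam.overZ_θq F 1) (1 : Q D.muHom.range) (hxmq 1)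
  have hgood : ∀ i, Good D (Fam.θq F i : G → ℂ) i ω μ := fun i =>
    { isChar := irr_isCharacter _
      overZ := Fam.overZ_θq F i
      trivP := hμ.trivP
      onZ := hμ.onZ
      out_eq := fun n hn => by
        rw [← hμ.out_eq n hn]; exact F.θ_regular (not_dvd_orderOf_out D hn) _ _
      four_eq := fun a => by rw [four_irr D, hxmq] }
  have hone : ∀ {ω' : Subgroup.center G →* ℂˣ} (F' : CFam D (ofHom ω')), 1 ≤ F'.m := fun F' =>
    Fam.one_le_m F' hnn _ (irr_isCharacter χ) hfaith hlt (by omega)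
  set T := table p hp2 D.muHom.range with hT
  have hP : T.Principal := principal F hgood hone hp2 ht
  -- the family above the square
  obtain ⟨F2⟩ := exists_cfam D (ofHom (ω * ω))
  obtain ⟨φ, hφP, hφZ, f, hf1, hf⟩ := Fam.exists_phi F2 (hone F2)
  set L : ℕ := if φ = μ * μ then 1 else 0 with hL
  have hLc : (L : ℂ) = if φ = μ * μ then 1 else 0 := by rw [hL]; split_ifs <;> simp
  set Z2 := fun g => (Fam.θq F 1 : G → ℂ) g * (Fam.θq F 1 : G → ℂ) g with hZ2
  set W := fun g : G => ((Fam.θq F 1 : G → ℂ) g * (Fam.θq F 1 : G → ℂ) g -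
    (Fam.θq F 1 : G → ℂ) (g * g)) / 2 with hW
  set S := fun g : G => ((Fam.θq F 1 : G → ℂ) g * (Fam.θq F 1 : G → ℂ) g +
    (Fam.θq F 1 : G → ℂ) (g * g)) / 2 with hS
  have hWc : IsCharacter G W := PermPrime.isCharacter_wedge (hgood 1).isChar
  have hSc : IsCharacter G S := isCharacter_sym (hgood 1).isChar
  have hWω : OverZ W (ω * ω) := fun g z => by
    have h1 := (hgood 1).overZ_mul (hgood 1) g z
    have h2 := (hgood 1).overZ_sq g z
    simp only at h1 h2
    simp only [hW, h1, h2]; ring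
  have hSω : OverZ S (ω * ω) := fun g z => by
    have h1 := (hgood 1).overZ_mul (hgood 1) g z
    have h2 := (hgood 1).overZ_sq g z
    simp only at h1 h2
    simp only [hS, h1, h2]; ring
  have hcell : ∀ a : ZMod p, a ≠ 0 →
      four x Z2 a = (p : ℂ) * ((p : ℂ) - 2 * e + ((T.N (cls D.muHom.range a)⁻¹ (cls D.muHom.range a)⁻¹ : ℕ) : ℂ)) := by
    intro a ha
    rw [hZ2, (hgood 1).four_prod (hgood 1), if_neg ha, one_mul]
    rfl
  have hsqc : ∀ a : ZMod p, a ≠ 0 → four x (fun g => (Fam.θq F 1 : G → ℂ) (g * g)) a =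
      (p : ℂ) * (1 - ((if (cls D.muHom.range a)⁻¹ = half D.muHom.range then 1 else 0 : ℕ) : ℂ)) := by
    intro a ha
    rw [(hgood 1).four_sq hp2, hole]
    have h2 : (2 : ZMod p) ≠ 0 := by
      intro hh
      exact hp2 ((Nat.prime_dvd_prime_iff_eq hp.out Nat.prime_two).1
        ((ZMod.natCast_eq_zero_iff 2 p).1 (by exact_mod_cast hh)))
    have e1 : (a * (2 : ZMod p)⁻¹ ≠ 0 ∧ cls D.muHom.range (a * (2 : ZMod p)⁻¹) = 1) ↔ (cls D.muHom.range a)⁻¹ = half D.muHom.range := by
      rw [cls_mul D.muHom.range ha (inv_ne_zero h2), mul_eq_one_iff_inv_eq]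
      exact ⟨fun h => h.2, fun h => ⟨mul_ne_zero ha (inv_ne_zero h2), h⟩⟩
    simp only [e1]
    split_ifs <;> simp
  have hlin : ∀ (a : ZMod p) (u v : G → ℂ), four x (fun g => (u g - v g) / 2) a =
      (four x u a - four x v a) / 2 ∧ four x (fun g => (u g + v g) / 2) a =
      (four x u a + four x v a) / 2 := fun a u v => by
    simp only [four, sub_div, add_div, sub_mul, add_mul, Finset.sum_sub_distrib,
      Finset.sum_add_distrib, Finset.sum_div, div_mul_eq_mul_div, and_self]
  set dd : Q D.muHom.range → ℕ := fun c => if c = half D.muHom.range then 1 else 0 with hdd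
  have hdiag : ∀ c, T.N c c = 2 * T.M c + dd c := fun c => by
    have h := T.diag c
    rw [show T.c = half D.muHom.range from rfl] at h
    rw [hdd]
    convert h
  have hW4 : ∀ a : ZMod p, a ≠ 0 → four x W a = (p : ℂ) * (((p : ℂ) - 2 * e - 1) / 2 +
      ((T.M (cls D.muHom.range a)⁻¹ + dd (cls D.muHom.range a)⁻¹ : ℕ) : ℂ)) := by
    intro a ha
    rw [hW, (hlin a Z2 (fun g => (Fam.θq F 1 : G → ℂ) (g * g))).1, hcell a ha, hsqc a ha, hdiag]
    simp only [hdd]
    push_cast
    ring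
  have hS4 : ∀ a : ZMod p, a ≠ 0 → four x S a = (p : ℂ) * (((p : ℂ) - 2 * e + 1) / 2 +
      ((T.M (cls D.muHom.range a)⁻¹ : ℕ) : ℂ)) := by
    intro a ha
    rw [hS, (hlin a Z2 (fun g => (Fam.θq F 1 : G → ℂ) (g * g))).2, hcell a ha, hsqc a ha, hdiag]
    simp only [hdd]
    push_cast
    ring
  have hprod := (hgood 1).fN_prod (hgood 1) hφP hφZ
  have hWN : fN W φ = (fN Z2 φ - fN (fun g => (Fam.θq F 1 : G → ℂ) (g * g)) φ) / 2 := by
    simp only [fN, classInner, hW, hZ2]
    rw [← mul_sub, ← Finset.sum_sub_distrib, mul_div_assoc, Finset.sum_div]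
    congr 1
    exact Finset.sum_congr rfl fun n _ => by ring
  have hSN : fN S φ = (fN Z2 φ + fN (fun g => (Fam.θq F 1 : G → ℂ) (g * g)) φ) / 2 := by
    simp only [fN, classInner, hS, hZ2]
    rw [← mul_add, ← Finset.sum_add_distrib, mul_div_assoc, Finset.sum_div]
    congr 1
    exact Finset.sum_congr rfl fun n _ => by ring
  have hZN : fN Z2 φ = (t : ℂ) - 2 + (if (1 : Q D.muHom.range) = nu D.muHom.range then 1 else 0) + (L : ℂ) := by
    rw [mul_one] at hprod
    rw [hLc]; exact hprod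
  rcases (hgood 1).fN_sq hp2 hφP hφZ with ⟨hν, hsq⟩ | ⟨hν, hsq⟩
  swap
  · exfalso
    have hprime : Nat.Prime (e * t + 1) := by
      rw [mul_comm, ← hpet, Nat.sub_add_cancel hp.out.one_le]; exact hp.out
    refine T.false_of_even ht he hprime hν hP ?_
    rw [hν, if_pos rfl] at hZN
    rcases hsq with hsq | ⟨hne, hsq⟩
    · left
      have h0 : fN W φ = 0 := by rw [hWN, hZN, hsq, ← hLc]; ring
      intro a b
      have h := Fam.const_of_fN_zero F2 hWc hWω (Nf := fun c => T.M c⁻¹ + dd c⁻¹) hW4 hf1 hf h0 a⁻¹ b⁻¹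
      simp only [inv_inv, hdd] at h
      have ha := T.diag a
      have hb := T.diag b
      simp only [T, table] at ha hb h ⊢
      omega
    · right
      have h0 : fN S φ = 0 := by
        rw [hSN, hZN, hsq, hLc, if_neg hne]; ring
      intro a b
      have h := Fam.const_of_fN_zero F2 hSc hSω (Nf := fun c => T.M c⁻¹) hS4 hf1 hf h0 a⁻¹ b⁻¹
      simp only [inv_inv] at h
      have ha := T.diag a
      have hb := T.diag b
      simp only [T, table] at ha hb h ⊢
      omega
  obtain ⟨hodd, hteven⟩ := odd_card_of_nu hp2 D.muHom.range hν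
  refine ⟨fun hZ => ?_, ?_⟩
  · -- an odd centre gives a minus sign above the square
    have hε2 : F2.ε = -1 := by
      set n := Nat.card (Subgroup.center G) with hn
      set m := ∏ q ∈ (Nat.card G).primeFactors.filter (fun q => ¬ q ∣ n), q with hm'
      have hnm : n.Coprime m := Nat.Coprime.prod_right fun q hq => by
        obtain ⟨hq1, hq2⟩ := Finset.mem_filter.1 hq
        exact ((Nat.prime_of_mem_primeFactors hq1).coprime_iff_not_dvd.2 hq2).symm
      obtain ⟨k, hk1, hk2⟩ := Nat.chineseRemainder hnm 2 1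
      have hpm : p ∣ m := Finset.dvd_prod_of_mem _ (Finset.mem_filter.2
        ⟨Nat.mem_primeFactors.2 ⟨hp.out, D.hx ▸ orderOf_dvd_natCard x, Nat.card_pos.ne'⟩,
          D.not_dvd_card_V⟩)
      have hcop : k.Coprime (Nat.card G) := by
        refine Nat.coprime_of_dvd fun q hq hqk hqG => ?_
        by_cases hqn : q ∣ n
        · have h2 : q ∣ 2 := (Nat.ModEq.dvd_iff (hk1.of_dvd hqn) dvd_rfl).1 hqk
          rw [(Nat.prime_dvd_prime_iff_eq hq Nat.prime_two).1 h2] at hqn
          exact Nat.not_even_iff_odd.2 hZ (even_iff_two_dvd.2 hqn)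
        · have hqm : q ∣ m := Finset.dvd_prod_of_mem _ (Finset.mem_filter.2
            ⟨Nat.mem_primeFactors.2 ⟨hq, hqG, Nat.card_pos.ne'⟩, hqn⟩)
          have h1 : q ∣ 1 := (Nat.ModEq.dvd_iff (hk2.of_dvd hqm) dvd_rfl).1 hqk
          exact hq.not_dvd_one h1
      have hxk : x ^ k = x := by
        conv_rhs => rw [← pow_one x]
        exact pow_eq_pow_iff_modEq.2 (D.hx ▸ hk2.of_dvd hpm)
      have hzk : ∀ z : Subgroup.center G, z ^ k = z * z := fun z => by
        rw [← pow_two]
        exact pow_eq_pow_iff_modEq.2 (hk1.of_dvd (orderOf_dvd_natCard z))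
      set ψ : IrrCharacter G := ⟨_, CharGalois.isIrrCharacter_pow (Fam.θq F 1).2 hcop⟩ with hψ
      have hψω : OverZ (ψ : G → ℂ) (ω * ω) := fun g z => by
        show (Fam.θq F 1 : G → ℂ) ((g * z) ^ k) = (Fam.θq F 1 : G → ℂ) (g ^ k) * _
        rw [Commute.mul_pow (Subgroup.mem_center_iff.1 z.2 g), ← SubgroupClass.coe_pow, hzk,
          Fam.overZ_θq F 1, map_mul, MonoidHom.mul_apply]
      refine (Fam.eq_θq_of_hole F2 hψω 1 (by omega) fun a => ?_).2.1
      rw [← hxmq 1 a]
      refine mul_left_cancel₀ (Nat.cast_ne_zero.2 hp.out.ne_zero : (p : ℂ) ≠ 0) ?_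
      rw [xm_eq D, xm_eq D]
      refine Finset.sum_congr rfl fun i _ => ?_
      show (Fam.θq F 1 : G → ℂ) (pw x i ^ k) * _ = _
      rw [pw, ← pow_mul, mul_comm i.val k, pow_mul, hxk]
    exact T.false_of_odd_minus ht hteven he hodd hP
      (prod_bound F hgood F2 hε2 hφP hφZ hf1 hf ht)
  rcases F2.ε_spec with hε2 | hε2
  swap
  · exfalso
    exact T.false_of_odd_minus ht hteven he hodd hP
      (prod_bound F hgood F2 hε2 hφP hφZ hf1 hf ht)
  rw [if_neg (Ne.symm hν)] at hZN
  rw [← hLc] at hsq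
  have hd : 2 * ∑ a, T.M a + 1 = e := by
    have h := T.sum_diag hν
    rw [Finset.sum_congr rfl fun a _ => T.diag a, Finset.sum_add_distrib, ← Finset.mul_sum,
      T.sum_ite_c] at h
    exact h
  have hsymb : ∀ a, e - 1 ≤ 2 * t * T.M a + t := by
    intro a
    obtain ⟨n, hn⟩ := fN_nat (x := x) hSc φ
    have hB := Fam.sum_mlt_le F2 hSc hf1 hf hn ∅ (by simp) (fun _ => 0) (by simp)
    rw [Finset.sum_empty, add_zero] at hB
    have hn2 : (2 : ℤ) * n = (t : ℤ) - 2 + 2 * L := by
      have h : (2 : ℂ) * (n : ℂ) = (t : ℂ) - 2 + 2 * (L : ℂ) := by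
        rw [← hn, hSN, hZN, hsq]; ring
      exact_mod_cast h
    have hb := (Fam.line_bound F2 hSc hSω (Nf := fun c => T.M c⁻¹) hS4 hB).2 hε2 a⁻¹
    rw [show ∑ q : Q D.muHom.range, T.M q⁻¹ = ∑ q, T.M q from
      Fintype.sum_equiv (Equiv.inv _) _ _ fun _ => rfl] at hb
    simp only [inv_inv] at hb
    change _ ≤ t * T.M a + _ at hb
    have hL1 : L ≤ 1 := by rw [hL]; split_ifs <;> omega
    rw [mul_assoc]
    omega
  have hwedge : ∀ a, e + 1 ≤ 2 * t * (T.M a + if a = T.c then 1 else 0) + (t - 2) := by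
    intro a
    obtain ⟨n, hn⟩ := fN_nat (x := x) hWc φ
    have hB := Fam.sum_mlt_le F2 hWc hf1 hf hn ∅ (by simp) (fun _ => 0) (by simp)
    rw [Finset.sum_empty, add_zero] at hB
    have hn2 : (2 : ℤ) * n = (t : ℤ) - 2 := by
      have h : (2 : ℂ) * (n : ℂ) = (t : ℂ) - 2 := by
        rw [← hn, hWN, hZN, hsq]; ring
      exact_mod_cast h
    have hb := (Fam.line_bound F2 hWc hWω (Nf := fun c => T.M c⁻¹ + dd c⁻¹) hW4 hB).2 hε2 a⁻¹
    rw [show ∑ q : Q D.muHom.range, (T.M q⁻¹ + dd q⁻¹) = ∑ q, (T.M q + dd q) from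
      Fintype.sum_equiv (Equiv.inv _) _ _ fun _ => rfl, Finset.sum_add_distrib,
      show ∑ q, dd q = 1 by
        rw [hdd, Finset.sum_ite_eq' Finset.univ (half D.muHom.range) (fun _ => 1), if_pos (Finset.mem_univ _)]]
      at hb
    simp only [inv_inv] at hb
    change _ ≤ t * (T.M a + dd a) + _ at hb
    have e2 : (if a = T.c then 1 else 0 : ℕ) = dd a := by
      rw [show T.c = half D.muHom.range from rfl, hdd]
    rw [e2, mul_assoc]
    omega
  exact T.odd_plus ht hteven he hodd hν hP hsymb fun a => by convert hwedge a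

end CfsgLib.SmallDegree
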