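import Mathlib

/-!
# Cyclotomic numbers of a subgroup of the units of `ZMod p`
-/

set_option autoImplicit false
set_option linter.unusedSectionVars false

noncomputable section

namespace CfsgLib.SmallDegree

open scoped Classical

variable {p : ℕ} [hp : Fact p.Prime] (H : Subgroup (ZMod p)ˣ)

/-- The classes of the units. -/
abbrev Q := (ZMod p)ˣ ⧸ H

noncomputable instance : Fintype (Q H) := Fintype.ofFinite _

/-- The class of an element, trivial at zero. -/
def cls (w : ZMod p) : Q H := if h : w = 0 then 1 else (Units.mk0 w h : (ZMod p)ˣ)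

theorem cls_unit (u : (ZMod p)ˣ) : cls H (u : ZMod p) = (u : Q H) := by
  rw [cls, dif_neg u.ne_zero, Units.mk0_val]

theorem cls_mul {v w : ZMod p} (hv : v ≠ 0) (hw : w ≠ 0) :
    cls H (v * w) = cls H v * cls H w := by
  rw [cls, cls, cls, dif_neg (mul_ne_zero hv hw), dif_neg hv, dif_neg hw, Units.mk0_mul]; rfl

theorem cls_inv {w : ZMod p} (hw : w ≠ 0) : cls H w⁻¹ = (cls H w)⁻¹ := by
  rw [eq_inv_iff_mul_eq_one, ← cls_mul H (inv_ne_zero hw) hw, inv_mul_cancel₀ hw]
  exact cls_unit H 1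

/-- The class of `-1`. -/
def nu : Q H := cls H (-1)

theorem cls_neg {w : ZMod p} (hw : w ≠ 0) : cls H (-w) = nu H * cls H w := by
  rw [nu, ← cls_mul H (neg_ne_zero.2 one_ne_zero) hw, neg_one_mul]

theorem nu_mul_nu : nu H * nu H = 1 := by
  rw [nu, ← cls_mul H (neg_ne_zero.2 one_ne_zero) (neg_ne_zero.2 one_ne_zero), neg_mul_neg,
    one_mul]
  exact cls_unit H 1

/-- The pairs of the classes of `w` and `1 - w`. -/
def cyc (a b : Q H) : Finset (ZMod p) :=
  Finset.univ.filter fun w => w ≠ 0 ∧ w ≠ 1 ∧ cls H w = a ∧ cls H (1 - w) = b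

/-- The cyclotomic numbers. -/
def cN (a b : Q H) : ℕ := (cyc H a b).card

theorem mem_cyc {a b : Q H} {w : ZMod p} :
    w ∈ cyc H a b ↔ w ≠ 0 ∧ w ≠ 1 ∧ cls H w = a ∧ cls H (1 - w) = b := by
  simp [cyc]

theorem cN_comm (a b : Q H) : cN H a b = cN H b a := by
  refine Finset.card_nbij' (fun w => 1 - w) (fun w => 1 - w) ?_ ?_ (fun _ _ => sub_sub_cancel _ _)
    (fun _ _ => sub_sub_cancel _ _)
  all_goals
    intro w hw
    simp only [Finset.mem_coe, mem_cyc] at hw ⊢
    obtain ⟨h0, h1, ha, hb⟩ := hw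
    exact ⟨sub_ne_zero.2 h1.symm, fun h => h0 (sub_eq_self.1 h), hb, by rwa [sub_sub_cancel]⟩

theorem cN_flip (a b : Q H) : cN H a b = cN H a⁻¹ (nu H * b * a⁻¹) := by
  have key : ∀ a b : Q H, ∀ w ∈ cyc H a b, w⁻¹ ∈ cyc H a⁻¹ (nu H * b * a⁻¹) := by
    intro a b w hw
    obtain ⟨h0, h1, ha, hb⟩ := (mem_cyc H).1 hw
    refine (mem_cyc H).2 ⟨inv_ne_zero h0, fun h => h1 (inv_eq_one.1 h), by rw [cls_inv H h0, ha], ?_⟩
    have : 1 - w⁻¹ = -(1 - w) * w⁻¹ := by field_simp; ring
    rw [this, cls_mul H (neg_ne_zero.2 (sub_ne_zero.2 h1.symm)) (inv_ne_zero h0),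
      cls_neg H (sub_ne_zero.2 h1.symm), cls_inv H h0, ha, hb]
  refine Finset.card_nbij' (·⁻¹) (·⁻¹) (key a b) (fun w hw => ?_) (fun w _ => inv_inv w)
    (fun w _ => inv_inv w)
  have h := key _ _ w hw
  rwa [inv_inv, mul_assoc (nu H) (nu H * b * a⁻¹) a, inv_mul_cancel_right, ← mul_assoc,
    nu_mul_nu, one_mul] at h

theorem card_cls (a : Q H) :
    (Finset.univ.filter fun w : ZMod p => w ≠ 0 ∧ cls H w = a).card = Nat.card H := by
  rw [Nat.card_eq_fintype_card, ← Finset.card_univ]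
  symm
  refine Finset.card_bij (fun h _ => ((a.out * (h : (ZMod p)ˣ) : (ZMod p)ˣ) : ZMod p)) ?_ ?_ ?_
  · intro h _
    rw [Finset.mem_filter, cls_unit, QuotientGroup.mk_mul, QuotientGroup.out_eq',
      (QuotientGroup.eq_one_iff _).2 h.2, mul_one]
    exact ⟨Finset.mem_univ _, Units.ne_zero _, rfl⟩
  · intro h _ h' _ he
    exact Subtype.ext (mul_left_cancel (Units.ext he))
  · intro w hw
    obtain ⟨-, h0, ha⟩ := Finset.mem_filter.1 hw
    rw [cls, dif_neg h0] at ha
    refine ⟨⟨a.out⁻¹ * Units.mk0 w h0, QuotientGroup.eq.1 ?_⟩, Finset.mem_univ _, ?_⟩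
    · rw [QuotientGroup.out_eq', ha]
    · simp

theorem card_cls_ne {z : ZMod p} (hz : z ≠ 0) (a : Q H) :
    (Finset.univ.filter fun w : ZMod p => w ≠ 0 ∧ w ≠ z ∧ cls H w = a).card +
      (if a = cls H z then 1 else 0) = Nat.card H := by
  rw [← card_cls H a]
  split_ifs with ha
  · rw [← Finset.card_erase_add_one (s := Finset.univ.filter fun w : ZMod p => w ≠ 0 ∧ cls H w = a)
      (a := z) (by simp [hz, ha])]
    congr 2
    ext w
    simp only [Finset.mem_erase, Finset.mem_filter, Finset.mem_univ, true_and]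
    tauto
  · rw [add_zero]
    congr 1
    ext w
    simp only [Finset.mem_filter, Finset.mem_univ, true_and]
    constructor
    · tauto
    · exact fun h => ⟨h.1, fun hw => ha (hw ▸ h.2.symm), h.2⟩

theorem sum_cN_row (a : Q H) :
    ∑ b, cN H a b + (if a = 1 then 1 else 0) = Nat.card H := by
  have h := card_cls_ne H one_ne_zero a
  rw [show cls H (1 : ZMod p) = 1 from cls_unit H 1] at h
  convert h using 2
  rw [Finset.card_eq_sum_card_fiberwise (f := fun w => cls H (1 - w)) (t := Finset.univ)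
    (fun _ _ => Finset.mem_univ _)]
  refine Finset.sum_congr rfl fun b _ => ?_
  rw [cN, cyc, Finset.filter_filter]
  congr 1
  ext w
  simp [and_assoc]

theorem sum_cN_line (r : Q H) :
    ∑ a, cN H a (r * a) + (if r = nu H then 1 else 0) = Nat.card H := by
  have h := card_cls_ne H (neg_ne_zero.2 (one_ne_zero (α := ZMod p))) r
  rw [← nu] at h
  convert h using 2
  rw [show (∑ a, cN H a (r * a)) = (Finset.univ.filter fun w : ZMod p =>
      w ≠ 0 ∧ w ≠ 1 ∧ cls H (1 - w) = r * cls H w).card by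
    rw [Finset.card_eq_sum_card_fiberwise (f := fun w => cls H w) (t := Finset.univ)
      (fun _ _ => Finset.mem_univ _)]
    refine Finset.sum_congr rfl fun a _ => ?_
    rw [cN, cyc, Finset.filter_filter]
    congr 1
    ext w
    simp only [Finset.mem_filter, Finset.mem_univ, true_and]
    constructor
    · rintro ⟨h0, h1, ha, hb⟩; exact ⟨⟨h0, h1, by rw [hb, ha]⟩, ha⟩
    · rintro ⟨⟨h0, h1, hb⟩, ha⟩; exact ⟨h0, h1, ha, by rw [hb, ha]⟩]
  refine Finset.card_nbij' (fun w => (1 - w) * w⁻¹) (fun v => (1 + v)⁻¹) ?_ ?_ ?_ ?_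
  · intro w hw
    simp only [Finset.mem_coe, Finset.mem_filter, Finset.mem_univ, true_and] at hw ⊢
    obtain ⟨h0, h1, hw⟩ := hw
    refine ⟨mul_ne_zero (sub_ne_zero.2 h1.symm) (inv_ne_zero h0), fun h => ?_, ?_⟩
    · field_simp at h
      exact one_ne_zero (sub_eq_neg_self.1 h)
    · rw [cls_mul H (sub_ne_zero.2 h1.symm) (inv_ne_zero h0), cls_inv H h0, hw,
        mul_inv_cancel_right]
  · intro v hv
    simp only [Finset.mem_coe, Finset.mem_filter, Finset.mem_univ, true_and] at hv ⊢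
    obtain ⟨h0, h1, hv⟩ := hv
    have hv1 : 1 + v ≠ 0 := fun h => h1 (by linear_combination h)
    refine ⟨inv_ne_zero hv1, fun h => h0 (by simpa using inv_eq_one.1 h), ?_⟩
    rw [show 1 - (1 + v)⁻¹ = v * (1 + v)⁻¹ by field_simp; ring, cls_mul H h0 (inv_ne_zero hv1), hv]
  · intro w hw
    simp only [Finset.mem_coe, Finset.mem_filter, Finset.mem_univ, true_and] at hw
    obtain ⟨h0, h1, -⟩ := hw
    field_simp
    ring
  · intro v hv
    simp only [Finset.mem_coe, Finset.mem_filter, Finset.mem_univ, true_and] at hv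
    obtain ⟨h0, h1, -⟩ := hv
    have hv1 : 1 + v ≠ 0 := fun h => h1 (by linear_combination h)
    field_simp
    ring

/-- The product of two cosets. -/
theorem card_conv (a b : Q H) {k : ZMod p} (hk : k ≠ 0) :
    (Finset.univ.filter fun w : ZMod p =>
      w ≠ 0 ∧ w ≠ k ∧ cls H w = a ∧ cls H (k - w) = b).card =
      cN H (a * (cls H k)⁻¹) (b * (cls H k)⁻¹) := by
  refine Finset.card_nbij' (fun w => w * k⁻¹) (fun w => w * k) ?_ ?_ ?_ ?_
  · intro w hw
    simp only [Finset.mem_coe, mem_cyc, Finset.mem_filter, Finset.mem_univ, true_and] at hw ⊢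
    obtain ⟨h0, h1, ha, hb⟩ := hw
    refine ⟨mul_ne_zero h0 (inv_ne_zero hk), fun h => h1 ?_, ?_, ?_⟩
    · field_simp at h; exact h
    · rw [cls_mul H h0 (inv_ne_zero hk), cls_inv H hk, ha]
    · rw [show 1 - w * k⁻¹ = (k - w) * k⁻¹ by field_simp,
        cls_mul H (sub_ne_zero.2 h1.symm) (inv_ne_zero hk), cls_inv H hk, hb]
  · intro w hw
    simp only [Finset.mem_coe, mem_cyc, Finset.mem_filter, Finset.mem_univ, true_and] at hw ⊢
    obtain ⟨h0, h1, ha, hb⟩ := hw
    refine ⟨mul_ne_zero h0 hk, fun h => h1 (mul_eq_right₀ hk |>.1 h), ?_, ?_⟩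
    · rw [cls_mul H h0 hk, ha, inv_mul_cancel_right]
    · rw [show k - w * k = (1 - w) * k by ring, cls_mul H (sub_ne_zero.2 h1.symm) hk, hb,
        inv_mul_cancel_right]
  · intro w _; simp [hk]
  · intro w _; simp [hk]

/-- The sum of the squares. -/
theorem sum_cN_sq :
    ∑ a, ∑ b, cN H a b ^ 2 = (p - 2) + (Nat.card H - 1) * (Nat.card H - 2) := by
  set T := Finset.univ.filter fun w : ZMod p => w ≠ 0 ∧ w ≠ 1 with hT
  set P := (T ×ˢ T).filter fun v : ZMod p × ZMod p =>
    cls H v.1 = cls H v.2 ∧ cls H (1 - v.1) = cls H (1 - v.2) with hP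
  have h1 : ∑ a, ∑ b, cN H a b ^ 2 = P.card := by
    rw [← Fintype.sum_prod_type', Finset.card_eq_sum_card_fiberwise
      (f := fun v : ZMod p × ZMod p => (cls H v.1, cls H (1 - v.1))) (t := Finset.univ)
      (fun _ _ => Finset.mem_univ _)]
    refine Finset.sum_congr rfl fun q _ => ?_
    rw [sq, cN, ← Finset.card_product]
    congr 1
    ext ⟨w, w'⟩
    simp only [hP, hT, mem_cyc, Finset.mem_product, Finset.mem_filter, Finset.mem_univ, true_and,
      Prod.ext_iff]
    constructor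
    · rintro ⟨⟨h0, h1, ha, hb⟩, ⟨h0', h1', ha', hb'⟩⟩
      exact ⟨⟨⟨⟨h0, h1⟩, h0', h1'⟩, ha.trans ha'.symm, hb.trans hb'.symm⟩, ha, hb⟩
    · rintro ⟨⟨⟨⟨h0, h1⟩, h0', h1'⟩, he, he'⟩, ha, hb⟩
      exact ⟨⟨h0, h1, ha, hb⟩, h0', h1', he.symm.trans ha, he'.symm.trans hb⟩
  rw [h1, ← Finset.card_filter_add_card_filter_not (s := P) (fun v => v.1 = v.2)]
  congr 1
  · rw [show p - 2 = T.card by
      rw [hT, show (Finset.univ.filter fun w : ZMod p => w ≠ 0 ∧ w ≠ 1) =
        (Finset.univ.erase 0).erase 1 by ext w; simp [and_comm],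
        Finset.card_erase_of_mem (by simp), Finset.card_erase_of_mem (Finset.mem_univ _),
        Finset.card_univ, ZMod.card]
      omega]
    refine Finset.card_nbij' Prod.fst (fun w => (w, w)) ?_ ?_ ?_ (fun _ _ => rfl)
    · intro v hv
      simp only [Finset.mem_coe, hP, Finset.mem_filter, Finset.mem_product] at hv
      exact hv.1.1.1
    · intro w hw
      simp only [Finset.mem_coe, hP, Finset.mem_filter, Finset.mem_product]
      exact ⟨⟨⟨hw, hw⟩, trivial, trivial⟩, trivial⟩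
    · intro v hv
      simp only [Finset.mem_coe, Finset.mem_filter] at hv
      exact Prod.ext rfl hv.2
  · set U := Finset.univ.filter fun h : H => h ≠ 1 with hU
    set A := (U ×ˢ U).filter fun h : H × H => h.1 ≠ h.2 with hA
    have hcard : A.card = (Nat.card H - 1) * (Nat.card H - 2) := by
      rw [hA, show ((U ×ˢ U).filter fun h : H × H => h.1 ≠ h.2) = U.offDiag by
        ext h; simp [Finset.mem_offDiag, and_assoc], Finset.offDiag_card,
        show U.card = Nat.card H - 1 by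
          rw [hU, Finset.filter_ne', Finset.card_erase_of_mem (Finset.mem_univ _),
            Finset.card_univ, Nat.card_eq_fintype_card],
        ← Nat.mul_sub_one, Nat.sub_sub]
    rw [← hcard]
    have hne : ∀ {h : H}, h ≠ 1 → ((h : (ZMod p)ˣ) : ZMod p) ≠ 1 := fun hh he =>
      hh (Subtype.ext (Units.ext he))
    have hinj : ∀ {h h' : H}, h ≠ h' →
        ((h : (ZMod p)ˣ) : ZMod p) - ((h' : (ZMod p)ˣ) : ZMod p) ≠ 0 := fun hh he =>
      hh (Subtype.ext (Units.ext (sub_eq_zero.1 he)))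
    have hclsH : ∀ h : H, cls H ((h : (ZMod p)ˣ) : ZMod p) = 1 := fun h => by
      rw [cls_unit]; exact (QuotientGroup.eq_one_iff _).2 h.2
    symm
    refine Finset.card_bij (fun h _ =>
      let α : ZMod p := ((h.1 : (ZMod p)ˣ) : ZMod p)
      let β : ZMod p := ((h.2 : (ZMod p)ˣ) : ZMod p)
      ((1 - β) * (α - β)⁻¹, α * ((1 - β) * (α - β)⁻¹))) ?_ ?_ ?_
    · rintro ⟨a, b⟩ hab
      simp only [hA, hU, Finset.mem_filter, Finset.mem_product, Finset.mem_univ, true_and] at hab
      obtain ⟨⟨ha, hb⟩, hne'⟩ := hab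
      have hd := hinj hne'
      set α : ZMod p := ((a : (ZMod p)ˣ) : ZMod p)
      set β : ZMod p := ((b : (ZMod p)ˣ) : ZMod p)
      have hb1 : 1 - β ≠ 0 := sub_ne_zero.2 (hne hb).symm
      have ha1 : α - 1 ≠ 0 := sub_ne_zero.2 (hne ha)
      have hw : (1 - β) * (α - β)⁻¹ ≠ 0 := mul_ne_zero hb1 (inv_ne_zero hd)
      have hα : α ≠ 0 := Units.ne_zero _
      have hβ : β ≠ 0 := Units.ne_zero _
      have e1 : 1 - (1 - β) * (α - β)⁻¹ = (α - 1) * (α - β)⁻¹ := by field_simp; ring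
      have e2 : 1 - α * ((1 - β) * (α - β)⁻¹) = β * ((α - 1) * (α - β)⁻¹) := by field_simp; ring
      have hu : (α - 1) * (α - β)⁻¹ ≠ 0 := mul_ne_zero ha1 (inv_ne_zero hd)
      simp only [hP, hT, Finset.mem_filter, Finset.mem_product, Finset.mem_univ, true_and]
      refine ⟨⟨⟨⟨hw, fun h => hu (by rw [← e1, h, sub_self])⟩, mul_ne_zero hα hw,
        fun h => mul_ne_zero hβ hu (by rw [← e2, h, sub_self])⟩, ?_, ?_⟩, fun h => ?_⟩
      · rw [cls_mul H hα hw, hclsH, one_mul]
      · rw [e1, e2, cls_mul H hβ hu, hclsH, one_mul]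
      · exact hne ha ((mul_eq_right₀ hw).1 h.symm)
    · rintro ⟨a, b⟩ hab ⟨a', b'⟩ hab' he
      simp only [hA, hU, Finset.mem_filter, Finset.mem_product, Finset.mem_univ, true_and]
        at hab hab'
      simp only [Prod.mk.injEq] at he
      obtain ⟨he1, he2⟩ := he
      have hw : (1 - ((b : (ZMod p)ˣ) : ZMod p)) * (((a : (ZMod p)ˣ) : ZMod p) -
          ((b : (ZMod p)ˣ) : ZMod p))⁻¹ ≠ 0 :=
        mul_ne_zero (sub_ne_zero.2 (hne hab.1.2).symm) (inv_ne_zero (hinj hab.2))
      rw [← he1] at he2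
      have ea : a = a' := Subtype.ext (Units.ext (mul_right_cancel₀ hw he2))
      subst ea
      have h1 := hinj hab.2
      have h2 := hinj hab'.2
      field_simp at he1
      refine Prod.ext rfl (Subtype.ext (Units.ext ?_))
      refine mul_left_cancel₀ (sub_ne_zero.2 (hne hab.1.1)) ?_
      linear_combination -he1
    · rintro ⟨w, w'⟩ hv
      simp only [hP, hT, Finset.mem_filter, Finset.mem_product, Finset.mem_univ, true_and] at hv
      obtain ⟨⟨⟨⟨h0, h1⟩, h0', h1'⟩, hc, hc'⟩, hww⟩ := hv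
      have hu := sub_ne_zero.2 (Ne.symm h1)
      have hu' := sub_ne_zero.2 (Ne.symm h1')
      rw [cls, cls, dif_neg h0, dif_neg h0', QuotientGroup.eq] at hc
      rw [cls, cls, dif_neg hu, dif_neg hu', QuotientGroup.eq] at hc'
      set a : H := ⟨_, hc⟩ with ha
      set b : H := ⟨_, hc'⟩ with hb
      have hαv : ((a : (ZMod p)ˣ) : ZMod p) = w⁻¹ * w' := by simp [ha]
      have hβv : ((b : (ZMod p)ˣ) : ZMod p) = (1 - w)⁻¹ * (1 - w') := by simp [hb]
      have hα1 : w⁻¹ * w' ≠ 1 := fun h => hww ((inv_mul_eq_one₀ h0).1 h)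
      have hβ1 : (1 - w)⁻¹ * (1 - w') ≠ 1 := fun h =>
        hww (by linear_combination -(inv_mul_eq_one₀ hu).1 h)
      have hab : w⁻¹ * w' ≠ (1 - w)⁻¹ * (1 - w') := by
        intro h; field_simp at h; exact hww (by linear_combination -h)
      refine ⟨(a, b), ?_, ?_⟩
      · simp only [hA, hU, Finset.mem_filter, Finset.mem_product, Finset.mem_univ, true_and]
        refine ⟨⟨fun h => hα1 ?_, fun h => hβ1 ?_⟩, fun h => hab ?_⟩
        · rw [← hαv, h]; simp
        · rw [← hβv, h]; simp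
        · rw [← hαv, h, hβv]
      · simp only [hαv, hβv, Prod.mk.injEq]
        have hd : w⁻¹ * w' - (1 - w)⁻¹ * (1 - w') ≠ 0 := sub_ne_zero.2 hab
        have e1 : (1 - (1 - w)⁻¹ * (1 - w')) * (w⁻¹ * w' - (1 - w)⁻¹ * (1 - w'))⁻¹ = w := by
          rw [← div_eq_mul_inv, div_eq_iff hd]
          field_simp
          ring
        exact ⟨e1, by rw [e1]; field_simp⟩

/-- The class of `1 / 2`. -/
def half : Q H := cls H ((2 : ZMod p)⁻¹)

theorem cN_self_parity (hp2 : p ≠ 2) (a : Q H) :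
    ∃ M, cN H a a = 2 * M + if a = half H then 1 else 0 := by
  have h2 : (2 : ZMod p) ≠ 0 := by
    have : NeZero p := ⟨hp.out.ne_zero⟩
    intro h
    have : p ∣ 2 := (ZMod.natCast_eq_zero_iff 2 p).1 (by exact_mod_cast h)
    exact hp2 ((Nat.prime_dvd_prime_iff_eq hp.out Nat.prime_two).1 this)
  set L := (cyc H a a).filter fun w => w.val < (1 - w).val with hL
  set R := (cyc H a a).filter fun w => (1 - w).val < w.val with hR
  set E := (cyc H a a).filter fun w => w.val = (1 - w).val with hE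
  refine ⟨L.card, ?_⟩
  have hsw : ∀ w ∈ cyc H a a, 1 - w ∈ cyc H a a := by
    intro w hw
    obtain ⟨h0, h1, ha, hb⟩ := (mem_cyc H).1 hw
    exact (mem_cyc H).2 ⟨sub_ne_zero.2 h1.symm, fun h => h0 (sub_eq_self.1 h), hb,
      by rwa [sub_sub_cancel]⟩
  have hLR : R.card = L.card := by
    refine Finset.card_nbij' (fun w => 1 - w) (fun w => 1 - w) ?_ ?_ (fun _ _ => sub_sub_cancel _ _)
      (fun _ _ => sub_sub_cancel _ _)
    all_goals
      intro w hw
      simp only [hL, hR, Finset.mem_coe, Finset.mem_filter, sub_sub_cancel] at hw ⊢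
      exact ⟨hsw w hw.1, hw.2⟩
  have hE' : E.card = if a = half H then 1 else 0 := by
    have hw : ∀ w, w ∈ E ↔ w = (2 : ZMod p)⁻¹ ∧ a = half H := by
      intro w
      rw [hE, Finset.mem_filter]
      constructor
      · rintro ⟨hw, he⟩
        have he := ZMod.val_injective p he
        have e : w = (2 : ZMod p)⁻¹ := eq_inv_of_mul_eq_one_left (by linear_combination he)
        exact ⟨e, by rw [half, ← e, ((mem_cyc H).1 hw).2.2.1]⟩
      · rintro ⟨rfl, rfl⟩
        have e : 1 - (2 : ZMod p)⁻¹ = (2 : ZMod p)⁻¹ := by field_simp; ring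
        refine ⟨(mem_cyc H).2 ⟨inv_ne_zero h2, fun h => ?_, rfl, by rw [e]; rfl⟩, by rw [e]⟩
        exact one_ne_zero (α := ZMod p) (by linear_combination inv_eq_one.1 h)
    split_ifs with ha
    · exact Finset.card_eq_one.2 ⟨(2 : ZMod p)⁻¹, by ext w; simp [hw, ha]⟩
    · exact Finset.card_eq_zero.2 (Finset.eq_empty_of_forall_notMem fun w h => ha ((hw w).1 h).2)
  rw [← hE', cN, two_mul]
  nth_rw 2 [← hLR]
  rw [hL, hR, hE, ← Finset.card_union_of_disjoint, ← Finset.card_union_of_disjoint]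
  · congr 1
    ext w
    simp only [Finset.mem_union, Finset.mem_filter]
    constructor
    · intro h
      rcases lt_trichotomy w.val (1 - w).val with h' | h' | h' <;> tauto
    · tauto
  · simp only [Finset.disjoint_left, Finset.mem_union, Finset.mem_filter]; omega
  · simp only [Finset.disjoint_left, Finset.mem_filter]; omega

end CfsgLib.SmallDegree
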