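import Cfsg.Agent.Lib.SmallDegree.Account

/-!
# Characters with simple eigenvalues at `x` missing one class of residues, and their products
-/

set_option autoImplicit false
set_option linter.unusedSectionVars false
set_option linter.style.haveILetI false

noncomputable section

namespace CfsgLib.SmallDegree

open Cfsg CfsgLib.Characters CfsgLib.PrimeDefect CfsgLib.SelfCentralPrime
open CfsgLib.LinSmall CfsgLib.LinSmall.CData
open scoped ComplexConjugate Classical

universe u

variable {G : Type u} [Group G] [Fintype G] {p : ℕ} [hp : Fact p.Prime] {x : G}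

/-- Fourier inversion for a product. -/
theorem four_mul (ψ ψ' : G → ℂ) (a : ZMod p) :
    (p : ℂ) * four x (fun g => ψ g * ψ' g) a =
      ∑ b : ZMod p, four x ψ b * four x ψ' (a - b) := by
  have h : ∀ i j : ZMod p, ∑ b : ZMod p,
      ψ (pw x i) * ZMod.stdAddChar (i * -b) * (ψ' (pw x j) * ZMod.stdAddChar (j * -(a - b))) =
      ψ (pw x i) * ψ' (pw x j) * ZMod.stdAddChar (j * -a) * (if i = j then (p : ℂ) else 0) := by
    intro i j
    rw [show (if i = j then (p : ℂ) else 0) = ∑ b : ZMod p, ZMod.stdAddChar (b * (j - i)) by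
      rw [sum_std]
      by_cases hij : i = j
      · subst hij; simp
      · rw [if_neg hij, if_neg (sub_ne_zero.2 (Ne.symm hij))], Finset.mul_sum]
    refine Finset.sum_congr rfl fun b _ => ?_
    rw [mul_mul_mul_comm, mul_assoc (ψ (pw x i) * ψ' (pw x j)) (ZMod.stdAddChar (j * -a)),
      ← AddChar.map_add_eq_mul, ← AddChar.map_add_eq_mul]
    congr 2
    ring
  simp only [four, Finset.sum_mul_sum]
  rw [Finset.sum_comm, Finset.mul_sum]
  refine Finset.sum_congr rfl fun i _ => ?_
  rw [Finset.sum_comm]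
  simp only [h, mul_ite, mul_zero, Finset.sum_ite_eq, Finset.mem_univ, if_true]
  ring

theorem four_conj (ψ : G → ℂ) (a : ZMod p) :
    four x (fun g => conj (ψ g)) a = conj (four x ψ (-a)) := by
  simp only [four, map_sum, map_mul, ← AddChar.map_neg_eq_conj, neg_neg, mul_neg]

variable (D : Data p x (Subgroup.centralizer ({x} : Set G)) (Subgroup.center G))

/-- Where the multiplicity of the eigenvalue is zero. -/
def hole (i : Q D.muHom.range) (a : ZMod p) : ℂ :=
  if a ≠ 0 ∧ cls D.muHom.range a = i then 1 else 0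

variable [Fintype (nrm x)]

/-- A character with simple eigenvalues at `x` missing the class `i`. -/
structure Good (ψ : G → ℂ) (i : Q D.muHom.range) (ω : Subgroup.center G →* ℂˣ)
    (μ : nrm x →* ℂˣ) : Prop where
  isChar : IsCharacter G ψ
  overZ : OverZ ψ ω
  trivP : TrivP D μ
  onZ : OnZ D μ ω
  out_eq : ∀ n : nrm x, D.mu n ≠ 1 → ψ n = (μ n : ℂ)
  four_eq : ∀ a : ZMod p, four x ψ a = (p : ℂ) * (1 - hole D i a)

theorem cast_sub_one : ((p : ℂ) - 1) =
    (Nat.card D.muHom.range : ℂ) * Nat.card (Q D.muHom.range) := by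
  have h := Subgroup.card_eq_card_quotient_mul_card_subgroup D.muHom.range
  rw [D.card_units] at h
  rw [← Nat.cast_mul, mul_comm (Nat.card D.muHom.range), ← h, Nat.cast_sub hp.out.one_le,
    Nat.cast_one]

theorem sum_hole (i : Q D.muHom.range) :
    ∑ a : ZMod p, hole D i a = (Nat.card D.muHom.range : ℂ) := by
  simp only [hole]
  rw [← card_cls D.muHom.range i, Finset.card_filter, Nat.cast_sum]
  refine Finset.sum_congr rfl fun a _ => ?_
  rw [Nat.cast_ite, Nat.cast_one, Nat.cast_zero]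
  split_ifs <;> tauto

theorem hole_zero (i : Q D.muHom.range) : hole D i (0 : ZMod p) = 0 := by
  rw [hole, if_neg]; simp

/-- A character with the multiplicities of `x` as required is good. -/
theorem exists_good {χ : IrrCharacter G} {ω : Subgroup.center G →* ℂˣ}
    (hω : OverZ (χ : G → ℂ) ω) (i : Q D.muHom.range)
    (hxm : ∀ a : ZMod p, (xm D χ a : ℂ) = 1 - hole D i a) :
    ∃ μ, Good D (χ : G → ℂ) i ω μ := by
  have h4 : ∀ a : ZMod p, four x (χ : G → ℂ) a = (p : ℂ) * (1 - hole D i a) := fun a => by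
    rw [four_irr D, hxm]
  obtain ⟨φ, hP, hne, h1⟩ := exists_lin D (irr_isCharacter χ) one_pos (by
    rw [h4, hole_zero, sub_zero, Nat.cast_one])
  exact ⟨φ, irr_isCharacter χ, hω, hP, onZ_of_fN D hω hne, h1 rfl, h4⟩

namespace Good

variable {D} {ψ ψ' : G → ℂ} {i j : Q D.muHom.range} {ω ω' : Subgroup.center G →* ℂˣ}
  {μ μ' : nrm x →* ℂˣ}

theorem conj_good (h : Good D ψ i ω μ) :
    Good D (fun g => conj (ψ g)) (nu D.muHom.range * i) ω⁻¹ μ⁻¹ where
  isChar := isCharacter_conj h.isChar
  overZ g z := by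
    simp only [h.overZ g z, map_mul, conj_unit ω z, MonoidHom.inv_apply]
  trivP a := by rw [MonoidHom.inv_apply, h.trivP a, inv_one]
  onZ z := by rw [MonoidHom.inv_apply, MonoidHom.inv_apply, h.onZ z]
  out_eq n hn := by simp only [h.out_eq n hn, conj_unit μ n, MonoidHom.inv_apply]
  four_eq a := by
    rw [four_conj, h.four_eq, map_mul, Complex.conj_natCast, map_sub, map_one]
    congr 2
    simp only [hole, neg_ne_zero]
    by_cases ha : a = 0
    · simp [ha]
    · have e : cls D.muHom.range (-a) = i ↔ cls D.muHom.range a = nu D.muHom.range * i := by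
        rw [cls_neg _ ha]
        constructor
        · intro h; rw [← h, ← mul_assoc, nu_mul_nu, one_mul]
        · intro h; rw [h, ← mul_assoc, nu_mul_nu, one_mul]
      simp only [e]
      split_ifs <;> simp

theorem deg (h : Good D ψ i ω μ) : ψ 1 = (p : ℂ) - Nat.card D.muHom.range := by
  have h1 : ∑ a : ZMod p, four x ψ a = (p : ℂ) * ψ 1 := by
    simp only [four]
    rw [Finset.sum_comm, Finset.sum_eq_single 0 (fun b _ hb => ?_)
      (fun hh => absurd (Finset.mem_univ _) hh)]
    · simp [D.pw_zero, ZMod.card, mul_comm]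
    · rw [← Finset.mul_sum, show ∑ a : ZMod p, ZMod.stdAddChar (b * -a) =
        ∑ a : ZMod p, ZMod.stdAddChar (a * -b) from Finset.sum_congr rfl fun a _ => by ring_nf,
        sum_std, if_neg (neg_ne_zero.2 hb), mul_zero]
  simp only [h.four_eq, ← Finset.mul_sum, Finset.sum_sub_distrib, sum_hole, Finset.sum_const,
    Finset.card_univ, ZMod.card, nsmul_one] at h1
  exact (mul_left_cancel₀ (Nat.cast_ne_zero.2 hp.out.ne_zero) h1).symm

theorem four_prod (h : Good D ψ i ω μ) (h' : Good D ψ' j ω' μ') (a : ZMod p) :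
    four x (fun g => ψ g * ψ' g) a = (p : ℂ) * ((p : ℂ) - 2 * Nat.card D.muHom.range +
      if a = 0 then (if j = nu D.muHom.range * i then (Nat.card D.muHom.range : ℂ) else 0)
      else (cN D.muHom.range (i * (cls D.muHom.range a)⁻¹) (j * (cls D.muHom.range a)⁻¹) : ℂ)) := by
  refine mul_left_cancel₀ (Nat.cast_ne_zero.2 hp.out.ne_zero : (p : ℂ) ≠ 0) ?_
  rw [four_mul]
  have e : ∀ b : ZMod p, four x ψ b * four x ψ' (a - b) = (p : ℂ) * (p : ℂ) *
      (1 - hole D i b - hole D j (a - b) + hole D i b * hole D j (a - b)) := fun b => by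
    rw [h.four_eq, h'.four_eq]; ring
  simp only [e, ← Finset.mul_sum, Finset.sum_add_distrib, Finset.sum_sub_distrib, sum_hole,
    Finset.sum_const, Finset.card_univ, ZMod.card, nsmul_one]
  rw [Fintype.sum_equiv (Equiv.subLeft a) (fun b => hole D j (a - b)) (hole D j) (fun _ => rfl),
    sum_hole, mul_assoc]
  congr 2
  rw [show ((p : ℂ) - Nat.card D.muHom.range - Nat.card D.muHom.range) =
    (p : ℂ) - 2 * Nat.card D.muHom.range by ring]
  congr 1
  simp only [hole, ite_zero_mul_ite_zero, mul_one, Finset.sum_boole]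
  split_ifs with ha hj
  · subst ha; subst hj
    rw [Nat.cast_inj]
    refine Eq.trans ?_ (card_cls D.muHom.range i)
    congr 1
    ext b
    simp only [Finset.mem_filter, Finset.mem_univ, true_and, zero_sub, neg_ne_zero]
    constructor
    · exact fun hh => hh.1
    · rintro ⟨hb, rfl⟩
      exact ⟨⟨hb, rfl⟩, hb, cls_neg _ hb⟩
  · subst ha
    rw [Nat.cast_eq_zero, Finset.card_eq_zero, Finset.filter_eq_empty_iff]
    rintro b - ⟨⟨hb, rfl⟩, -, hb'⟩
    rw [zero_sub, cls_neg _ hb] at hb'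
    exact hj hb'.symm
  · rw [← card_conv _ i j ha, Nat.cast_inj]
    congr 1
    ext b
    simp only [Finset.mem_filter, Finset.mem_univ, true_and, sub_ne_zero]
    tauto

theorem overZ_mul (h : Good D ψ i ω μ) (h' : Good D ψ' j ω' μ') :
    OverZ (fun g => ψ g * ψ' g) (ω * ω') := fun g z => by
  simp only [h.overZ g z, h'.overZ g z, MonoidHom.mul_apply, Units.val_mul]; ring

theorem fN_prod (h : Good D ψ i ω μ) (h' : Good D ψ' j ω' μ') {φ : nrm x →* ℂˣ}
    (hP : TrivP D φ) (hZ : OnZ D φ (ω * ω')) :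
    fN (fun g => ψ g * ψ' g) φ = (Nat.card (Q D.muHom.range) : ℂ) - 2 +
      (if j = nu D.muHom.range * i then 1 else 0) + (if φ = μ * μ' then 1 else 0) := by
  have he : (Nat.card D.muHom.range : ℂ) ≠ 0 := Nat.cast_ne_zero.2 Nat.card_pos.ne'
  have hlP : TrivP D (μ * μ' * φ⁻¹) := fun a => by
    simp only [MonoidHom.mul_apply, MonoidHom.inv_apply, h.trivP a, h'.trivP a, hP a, inv_one,
      mul_one]
  have hlZ : ∀ z, (μ * μ' * φ⁻¹) (zn D z) = 1 := fun z => by
    simp only [MonoidHom.mul_apply, MonoidHom.inv_apply, h.onZ z, h'.onZ z, hZ z,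
      mul_inv_cancel]
  refine mul_left_cancel₀ (mul_ne_zero he (Nat.cast_ne_zero.2 hp.out.ne_zero : (p : ℂ) ≠ 0)) ?_
  rw [fN_eq D (overZ_mul h h') hP hZ, four_prod h h', if_pos rfl,
    Finset.sum_congr rfl (g := fun n => (((μ * μ' * φ⁻¹) n : ℂˣ) : ℂ)) (fun n hn => by
      simp only [h.out_eq n (Finset.mem_filter.1 hn).2, h'.out_eq n (Finset.mem_filter.1 hn).2,
        conj_unit φ n, MonoidHom.mul_apply, MonoidHom.inv_apply, Units.val_mul]),
    sum_out_hom D hlP hlZ]
  have e : (μ * μ' * φ⁻¹ = 1) ↔ φ = μ * μ' :=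
    ⟨fun hh => (mul_inv_eq_one.1 hh).symm, fun hh => mul_inv_eq_one.2 hh.symm⟩
  simp only [e]
  have hp1 := cast_sub_one D
  split_ifs <;> linear_combination (p : ℂ) * hp1

theorem four_sq (h : Good D ψ i ω μ) (hp2 : p ≠ 2) (a : ZMod p) :
    four x (fun g => ψ (g * g)) a = (p : ℂ) * (1 - hole D i (a * (2 : ZMod p)⁻¹)) := by
  have h2 : (2 : ZMod p) ≠ 0 := by
    intro hh
    have : p ∣ 2 := (ZMod.natCast_eq_zero_iff 2 p).1 (by exact_mod_cast hh)
    exact hp2 ((Nat.prime_dvd_prime_iff_eq hp.out Nat.prime_two).1 this)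
  rw [← h.four_eq]
  simp only [four, ← D.pw_add]
  refine Fintype.sum_equiv (Equiv.mulLeft₀ (2 : ZMod p) h2) _ _ fun b => ?_
  simp only [Equiv.mulLeft₀_apply]
  congr 1
  · rw [two_mul]
  · congr 1
    field_simp

theorem overZ_sq (h : Good D ψ i ω μ) : OverZ (fun g => ψ (g * g)) (ω * ω) := fun g z => by
  show ψ (g * z * (g * z)) = _
  rw [show g * (z : G) * (g * z) = g * g * ((z * z : Subgroup.center G) : G) by
    rw [Subgroup.coe_mul, ← mul_assoc, mul_assoc g (z : G) g,
      ← Subgroup.mem_center_iff.1 z.2 g]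
    group, h.overZ]
  simp

/-- The multiplicities of the function `ψ (g * g)`. -/
theorem fN_sq (h : Good D ψ i ω μ) (hp2 : p ≠ 2) {φ : nrm x →* ℂˣ} (hP : TrivP D φ)
    (hZ : OnZ D φ (ω * ω)) :
    (nu D.muHom.range ≠ 1 ∧ fN (fun g => ψ (g * g)) φ = (if φ = μ * μ then 1 else 0)) ∨
    (nu D.muHom.range = 1 ∧
      ((fN (fun g => ψ (g * g)) φ =
          (if φ = μ * μ then 1 else 0) + ((Nat.card (Q D.muHom.range) : ℂ) - 1)) ∨
        (φ ≠ μ * μ ∧ fN (fun g => ψ (g * g)) φ = -((Nat.card (Q D.muHom.range) : ℂ) - 1)))) := by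
  have he : (Nat.card D.muHom.range : ℂ) ≠ 0 := Nat.cast_ne_zero.2 Nat.card_pos.ne'
  have hz : (Nat.card (Subgroup.center G) : ℂ) ≠ 0 := Nat.cast_ne_zero.2 Nat.card_pos.ne'
  set l := μ * μ * φ⁻¹ with hl
  have hlP : TrivP D l := fun a => by
    simp only [hl, MonoidHom.mul_apply, MonoidHom.inv_apply, h.trivP a, hP a, inv_one, mul_one]
  have hlZ : ∀ z, l (zn D z) = 1 := fun z => by
    simp only [hl, MonoidHom.mul_apply, MonoidHom.inv_apply, h.onZ z, hZ z, mul_inv_cancel]
  have el : l = 1 ↔ φ = μ * μ :=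
    ⟨fun hh => (mul_inv_eq_one.1 hh).symm, fun hh => mul_inv_eq_one.2 hh.symm⟩
  have hterm : ∀ n ∈ out D, ψ ((n : G) * n) * conj (φ n : ℂ) =
      (l n : ℂ) + if D.mu n = -1 then
        (ψ 1 - 1) * (l n : ℂ) else 0 := by
    intro n hn
    have hn1 := (Finset.mem_filter.1 hn).2
    have hmm : D.mu (n * n) = D.mu n * D.mu n := D.mu_mul n n
    have hsq1 : D.mu n * D.mu n = 1 ↔ D.mu n = -1 := by
      constructor
      · intro hh
        have hh' : ((D.mu n : ZMod p) - 1) * ((D.mu n : ZMod p) + 1) = 0 := by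
          have := congrArg Units.val hh
          rw [Units.val_mul, Units.val_one] at this
          linear_combination this
        rcases mul_eq_zero.1 hh' with h0 | h0
        · exact absurd (Units.ext (sub_eq_zero.1 h0)) hn1
        · exact Units.ext (eq_neg_of_add_eq_zero_left h0)
      · intro hh; rw [hh]; simp
    have hval : (l n : ℂ) = (μ n : ℂ) * (μ n : ℂ) * conj (φ n : ℂ) := by
      simp [hl, conj_unit φ n]
    split_ifs with hm
    · have hC : ((n : G) * n) ∈ Subgroup.centralizer ({x} : Set G) :=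
        (D.mu_eq_one_iff (n * n)).1 (by rw [hmm]; exact hsq1.2 hm)
      have hreg : ¬ p ∣ orderOf ((n : G) * n) := fun hd => not_dvd_orderOf_out D hn1
        (hd.trans (by rw [← sq]; exact orderOf_pow_dvd 2))
      set z : Subgroup.center G := ⟨(n : G) * n, (D.hV _).2 ⟨hC, hreg⟩⟩
      have e1 : ψ ((n : G) * n) = ψ 1 * (ω z : ℂ) := by
        rw [← h.overZ 1 z, one_mul]
      have e2 : (ω z : ℂ) = (μ n : ℂ) * (μ n : ℂ) := by
        rw [← h.onZ z, show zn D z = n * n from Subtype.ext rfl, map_mul, Units.val_mul]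
      rw [e1, e2, hval]; ring
    · have hne : D.mu (n * n) ≠ 1 := by rw [hmm]; exact fun hh => hm (hsq1.1 hh)
      rw [show ((n : G) * n) = ((n * n : nrm x) : G) from rfl, h.out_eq _ hne, map_mul,
        Units.val_mul, hval, add_zero]
  have hkey := fN_eq D (overZ_sq h) hP hZ
  rw [Finset.sum_congr rfl hterm, Finset.sum_add_distrib, mul_add, sum_out_hom D hlP hlZ] at hkey
  have h0 : four x (fun g => ψ (g * g)) (0 : ZMod p) = (p : ℂ) := by
    rw [four_sq h hp2, zero_mul, hole_zero, sub_zero, mul_one]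
  by_cases hν : (-1 : (ZMod p)ˣ) ∈ D.muHom.range
  · right
    have hν1 : nu D.muHom.range = 1 := by
      rw [nu, show (-1 : ZMod p) = ((-1 : (ZMod p)ˣ) : ZMod p) by simp, cls_unit]
      exact (QuotientGroup.eq_one_iff _).2 hν
    refine ⟨hν1, ?_⟩
    obtain ⟨c, hc⟩ := hν
    change D.mu c = -1 at hc
    have hc2 : (l c : ℂ) * (l c : ℂ) = 1 := by
      rw [← Units.val_mul, ← map_mul, eq_one_of_center D hlP hlZ (by
        rw [D.mu_mul, hc]; simp), Units.val_one]
    have hne1 : (-1 : (ZMod p)ˣ) ≠ 1 := by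
      intro hh
      have h3 : ((2 : ℕ) : ZMod p) = 0 := by
        have := congrArg Units.val hh
        simp only [Units.val_neg, Units.val_one] at this
        push_cast
        linear_combination -this
      exact hp2 ((Nat.prime_dvd_prime_iff_eq hp.out Nat.prime_two).1
        ((ZMod.natCast_eq_zero_iff 2 p).1 h3))
    have hsum : ∑ n ∈ out D, (if D.mu n = -1 then (ψ 1 - 1) * (l n : ℂ) else 0) =
        (p : ℂ) * Nat.card (Subgroup.center G) * ((ψ 1 - 1) * (l c : ℂ)) := by
      rw [← Finset.sum_filter, Finset.sum_congr rfl (g := fun _ => (ψ 1 - 1) * (l c : ℂ))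
        fun n hn => ?_, Finset.sum_const, nsmul_eq_mul,
        show (out D).filter (fun n => D.mu n = -1) =
          Finset.univ.filter (fun n : nrm x => D.mu n = ((⟨-1, c, hc⟩ : D.muHom.range) : (ZMod p)ˣ)) by
            ext n
            simp only [out, Finset.mem_filter, Finset.mem_univ, true_and]
            exact ⟨fun hh => hh.2, fun hh => ⟨hh ▸ hne1, hh⟩⟩, card_fibre D, Nat.cast_mul]
      have hn' := (Finset.mem_filter.1 hn).2
      have h1 : l (c⁻¹ * n) = 1 := eq_one_of_center D hlP hlZ (by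
        show D.muHom (c⁻¹ * n) = 1
        rw [map_mul, map_inv]
        show (D.mu c)⁻¹ * D.mu n = 1
        rw [hc, hn', inv_mul_cancel])
      rw [← mul_inv_cancel_left c n, map_mul, h1, mul_one]
    rw [hsum, h0, h.deg] at hkey
    simp only [ne_eq, ← el]
    have hp1 := cast_sub_one D
    have hs : (l c : ℂ) = 1 ∨ (l c : ℂ) = -1 := mul_self_eq_one_iff.1 hc2
    rcases hs with hs | hs
    · left
      refine mul_left_cancel₀ (mul_ne_zero he (Nat.cast_ne_zero.2 hp.out.ne_zero : (p : ℂ) ≠ 0))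
        ?_
      rw [hkey, hs]
      field_simp
      linear_combination (p : ℂ) * hp1
    · right
      have hl1 : ¬ l = 1 := fun hh => by
        rw [hh, MonoidHom.one_apply, Units.val_one] at hs; norm_num at hs
      refine ⟨hl1, ?_⟩
      refine mul_left_cancel₀ (mul_ne_zero he (Nat.cast_ne_zero.2 hp.out.ne_zero : (p : ℂ) ≠ 0))
        ?_
      rw [hkey, if_neg hl1, hs]
      field_simp
      linear_combination -(p : ℂ) * hp1
  · left
    have hν1 : nu D.muHom.range ≠ 1 := by
      rw [nu, show (-1 : ZMod p) = ((-1 : (ZMod p)ˣ) : ZMod p) by simp, cls_unit]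
      exact fun hh => hν ((QuotientGroup.eq_one_iff _).1 hh)
    refine ⟨hν1, ?_⟩
    rw [Finset.sum_eq_zero (s := out D) (fun n hn => if_neg (show ¬ D.mu n = -1 from fun hm => hν ⟨n, hm⟩)),
      mul_zero, add_zero, h0] at hkey
    simp only [← el]
    refine mul_left_cancel₀ (mul_ne_zero he (Nat.cast_ne_zero.2 hp.out.ne_zero : (p : ℂ) ≠ 0)) ?_
    rw [hkey]
    split_ifs <;> ring

end Good

end CfsgLib.SmallDegree
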