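import Cfsg.Agent.Lib.SmallDegree.Cyclotomic

/-!
# All cyclotomic numbers of order `t` are at least `k` only for `e = k t + s` with `t ≤ s + 1`

In a row `a` the excesses over `k` form a multiset of `s` roots of unity, whose power sums of
exponent `j < t` are polynomials of degree at most `j` in the root of unity of the row.  By the
identities of Newton the vanishing elementary symmetric function of degree `s + 1` is one of
degree at most `s + 1`, with leading coefficient a binomial coefficient of `e`.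
-/

set_option autoImplicit false
set_option linter.unusedSectionVars false

noncomputable section

namespace CfsgLib.SmallDegree

open scoped Classical

open Finset in
/-- Power sums which are polynomials give a polynomial elementary symmetric function. -/
theorem exists_esymm_poly {p : ℕ} [Fact p.Prime] {ι : Type*} (σ : ι → Type) [∀ a, Fintype (σ a)]
    (r : ∀ a, σ a → ZMod p) (α : ι → ZMod p) (e n : ℕ) (c : ZMod p) (hn : n < p)
    (P : ℕ → Polynomial (ZMod p))
    (hdeg : ∀ j, 0 < j → j ≤ n → (P j).natDegree ≤ j)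
    (htop : ∀ j, 0 < j → j ≤ n → (P j).coeff j = (e : ZMod p) * c ^ j)
    (hev : ∀ j, 0 < j → j ≤ n → ∀ a, (P j).eval (α a) = ∑ i, r a i ^ j) :
    ∃ R : Polynomial (ZMod p), R.natDegree ≤ n ∧ R.coeff n = (e.choose n : ZMod p) * c ^ n ∧
      ∀ a, R.eval (α a) = MvPolynomial.aeval (r a) (MvPolynomial.esymm (σ a) (ZMod p) n) := by
  induction n using Nat.strong_induction_on with
  | _ n IH =>
    rcases Nat.eq_zero_or_pos n with rfl | hpos
    · exact ⟨1, by simp, by simp, fun a => by simp⟩
    have IH' : ∀ i : Fin n, ∃ R : Polynomial (ZMod p), R.natDegree ≤ i ∧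
        R.coeff i = (e.choose i : ZMod p) * c ^ (i : ℕ) ∧
        ∀ a, R.eval (α a) = MvPolynomial.aeval (r a) (MvPolynomial.esymm (σ a) (ZMod p) i) :=
      fun i => IH i i.2 (by omega) (fun j h1 h2 => hdeg j h1 (by omega))
        (fun j h1 h2 => htop j h1 (by omega)) fun j h1 h2 => hev j h1 (by omega)
    choose R' hRd hRt hRe using IH'
    let R : ℕ → Polynomial (ZMod p) := fun i => if h : i < n then R' ⟨i, h⟩ else 0
    have hR : ∀ i (h : i < n), R i = R' ⟨i, h⟩ := fun i h => dif_pos h
    set T : Polynomial (ZMod p) := (-1) ^ (n + 1) *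
      ∑ v ∈ (antidiagonal n).filter (fun v => v.1 < n), (-1) ^ v.1 * R v.1 * P v.2 with hT
    have hn0 : (n : ZMod p) ≠ 0 := by
      rw [Ne, ZMod.natCast_eq_zero_iff]
      intro h
      have := Nat.le_of_dvd hpos h
      omega
    have hsign : ∀ (i : ℕ), ((-1 : Polynomial (ZMod p)) ^ i) = Polynomial.C ((-1) ^ i) :=
      fun i => by simp
    have hmem : ∀ v ∈ (antidiagonal n).filter (fun v => v.1 < n),
        v.1 < n ∧ 0 < v.2 ∧ v.2 ≤ n ∧ v.1 + v.2 = n := by
      intro v hv
      rw [Finset.mem_filter, Finset.HasAntidiagonal.mem_antidiagonal] at hv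
      omega
    refine ⟨Polynomial.C (n : ZMod p)⁻¹ * T, ?_, ?_, fun a => ?_⟩
    · refine (Polynomial.natDegree_C_mul_le _ _).trans ?_
      rw [hT, hsign]
      refine (Polynomial.natDegree_C_mul_le _ _).trans (Polynomial.natDegree_sum_le_of_forall_le _ _
        fun v hv => ?_)
      obtain ⟨h1, h2, h3, h4⟩ := hmem v hv
      rw [hsign, mul_assoc]
      refine (Polynomial.natDegree_C_mul_le _ _).trans (Polynomial.natDegree_mul_le.trans ?_)
      have e1 : (R v.1).natDegree ≤ v.1 := by rw [hR _ h1]; exact hRd ⟨v.1, h1⟩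
      have e2 := hdeg v.2 h2 h3
      omega
    · rw [Polynomial.coeff_C_mul, inv_mul_eq_iff_eq_mul₀ hn0, hT, hsign, Polynomial.coeff_C_mul,
        Polynomial.finsetSum_coeff]
      have h := congrArg (MvPolynomial.aeval (fun _ : Fin e => c))
        (MvPolynomial.mul_esymm_eq_sum (Fin e) (ZMod p) n)
      have hE : ∀ i, MvPolynomial.aeval (fun _ : Fin e => c) (MvPolynomial.esymm (Fin e) (ZMod p) i) =
          (e.choose i : ZMod p) * c ^ i := fun i => by
        rw [MvPolynomial.esymm, map_sum, Finset.sum_congr rfl (g := fun _ => c ^ i) fun s hs => by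
          rw [map_prod, Finset.prod_congr rfl fun x _ => MvPolynomial.aeval_X _ x, Finset.prod_const,
            (Finset.mem_powersetCard.1 hs).2], Finset.sum_const, Finset.card_powersetCard,
          Finset.card_univ, Fintype.card_fin, nsmul_eq_mul]
      simp only [map_mul, map_natCast, map_pow, map_neg, map_one, map_sum, hE, MvPolynomial.psum,
        MvPolynomial.aeval_X, Finset.sum_const, Finset.card_univ, Fintype.card_fin, nsmul_eq_mul] at h
      rw [h]
      congr 1
      refine Finset.sum_congr rfl fun v hv => ?_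
      obtain ⟨h1, h2, h3, h4⟩ := hmem v hv
      rw [hsign, mul_assoc, Polynomial.coeff_C_mul, ← h4,
        Polynomial.coeff_mul_add_eq_of_natDegree_le (by rw [hR _ h1]; exact hRd ⟨v.1, h1⟩)
          (hdeg v.2 h2 h3), hR _ h1, hRt ⟨v.1, h1⟩, htop v.2 h2 h3, mul_assoc ((-1 : ZMod p) ^ v.1)]
    · have h := congrArg (MvPolynomial.aeval (r a)) (MvPolynomial.mul_esymm_eq_sum (σ a) (ZMod p) n)
      simp only [map_mul, map_natCast, map_pow, map_neg, map_one, map_sum] at h
      rw [Polynomial.eval_mul, Polynomial.eval_C, inv_mul_eq_iff_eq_mul₀ hn0, h, hT,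
        Polynomial.eval_mul, Polynomial.eval_finsetSum]
      congr 1
      · simp
      refine Finset.sum_congr rfl fun v hv => ?_
      obtain ⟨h1, h2, h3, -⟩ := hmem v hv
      rw [Polynomial.eval_mul, Polynomial.eval_mul, hR _ h1, hRe ⟨v.1, h1⟩ a, hev v.2 h2 h3 a]
      simp [MvPolynomial.psum]

variable {p : ℕ} [hp : Fact p.Prime] (H : Subgroup (ZMod p)ˣ)

/-- The root of unity of a class. -/
def root (b : Q H) : ZMod p := ((b.out : (ZMod p)ˣ) : ZMod p) ^ Nat.card H

theorem pow_card_eq_root {w : ZMod p} (hw : w ≠ 0) : w ^ Nat.card H = root H (cls H w) := by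
  rw [cls, dif_neg hw]
  have hmem : ((Units.mk0 w hw : (ZMod p)ˣ) : Q H).out⁻¹ * Units.mk0 w hw ∈ H :=
    QuotientGroup.eq.1 (QuotientGroup.out_eq' _)
  have h1 : (((Units.mk0 w hw : (ZMod p)ˣ) : Q H).out⁻¹ * Units.mk0 w hw) ^ Nat.card H = 1 :=
    congrArg Subtype.val (pow_card_eq_one' (G := H) (x := ⟨_, hmem⟩))
  rw [mul_pow, inv_pow, inv_mul_eq_one] at h1
  rw [root, ← Units.val_pow_eq_pow_val, h1, Units.val_pow_eq_pow_val, Units.val_mk0]

theorem root_injective : Function.Injective (root H) := by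
  intro a b h
  have hH : ∀ u : (ZMod p)ˣ, u ^ Nat.card H = 1 → u ∈ H := by
    intro u hu
    have hsub : (Finset.univ.filter fun v : (ZMod p)ˣ => v ∈ H) ⊆
        Finset.univ.filter fun v : (ZMod p)ˣ => v ^ Nat.card H = 1 := fun v hv => by
      have h1 : (⟨v, (Finset.mem_filter.1 hv).2⟩ : H) ^ Nat.card H = 1 := pow_card_eq_one'
      exact Finset.mem_filter.2 ⟨Finset.mem_univ _, congrArg Subtype.val h1⟩
    have hle : (Finset.univ.filter fun v : (ZMod p)ˣ => v ^ Nat.card H = 1).card ≤
        (Finset.univ.filter fun v : (ZMod p)ˣ => v ∈ H).card := by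
      refine (IsCyclic.card_pow_eq_one_le Nat.card_pos).trans (le_of_eq ?_)
      rw [Nat.card_eq_fintype_card, Fintype.card_subtype]
    have := Finset.eq_of_subset_of_card_le hsub hle
    have hu' : u ∈ Finset.univ.filter fun v : (ZMod p)ˣ => v ∈ H := by
      rw [this]; exact Finset.mem_filter.2 ⟨Finset.mem_univ _, hu⟩
    exact (Finset.mem_filter.1 hu').2
  rw [root, root, ← Units.val_pow_eq_pow_val, ← Units.val_pow_eq_pow_val] at h
  rw [← QuotientGroup.out_eq' a, ← QuotientGroup.out_eq' b, QuotientGroup.eq]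
  refine hH _ ?_
  rw [mul_pow, inv_pow, Units.ext h, inv_mul_cancel]

theorem card_ne_zero : (Nat.card H : ZMod p) ≠ 0 := by
  rw [Ne, ZMod.natCast_eq_zero_iff]
  intro h
  have h1 := Subgroup.card_le_card_group H
  rw [Nat.card_eq_fintype_card (α := (ZMod p)ˣ), ZMod.card_units] at h1
  have h2 := Nat.le_of_dvd Nat.card_pos h
  have h3 := hp.out.pos
  omega

theorem sum_root_pow {j : ℕ} (h0 : 0 < j) (hj : j < Nat.card (Q H)) :
    ∑ b : Q H, root H b ^ j = 0 := by
  have hunits : ∑ u : (ZMod p)ˣ, (u : ZMod p) ^ (Nat.card H * j) = 0 := by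
    have h := FiniteField.sum_pow_units (ZMod p) (Nat.card H * j)
    rw [ZMod.card, if_neg] at h
    · simpa [Units.val_pow_eq_pow_val] using h
    intro hd
    have h1 := Nat.le_of_dvd (mul_pos Nat.card_pos h0) hd
    have h2 : Nat.card (ZMod p)ˣ = Nat.card (Q H) * Nat.card H :=
      Subgroup.card_eq_card_quotient_mul_card_subgroup H
    rw [Nat.card_eq_fintype_card (α := (ZMod p)ˣ), ZMod.card_units, mul_comm] at h2
    rw [h2] at h1
    exact absurd (Nat.le_of_mul_le_mul_left h1 Nat.card_pos) (by omega)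
  rw [← Finset.sum_fiberwise Finset.univ (fun u : (ZMod p)ˣ => (u : Q H))] at hunits
  have hfib : ∀ b : Q H, ∑ u ∈ Finset.univ.filter (fun u : (ZMod p)ˣ => (u : Q H) = b),
      (u : ZMod p) ^ (Nat.card H * j) = (Nat.card H : ZMod p) * root H b ^ j := by
    intro b
    rw [Finset.sum_congr rfl (g := fun _ => root H b ^ j) fun u hu => by
      rw [pow_mul, pow_card_eq_root H u.ne_zero, cls_unit, (Finset.mem_filter.1 hu).2],
      Finset.sum_const, nsmul_eq_mul]
    congr 2
    rw [← card_cls H b]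
    refine Finset.card_bij (fun u _ => (u : ZMod p)) (fun u hu => ?_)
      (fun u _ v _ huv => Units.ext huv) fun w hw => ?_
    · exact Finset.mem_filter.2 ⟨Finset.mem_univ _, u.ne_zero,
        (cls_unit H u).trans (Finset.mem_filter.1 hu).2⟩
    · obtain ⟨-, hw0, hw1⟩ := Finset.mem_filter.1 hw
      rw [cls, dif_neg hw0] at hw1
      exact ⟨Units.mk0 w hw0, Finset.mem_filter.2 ⟨Finset.mem_univ _, hw1⟩, rfl⟩
  simp only [hfib, ← Finset.mul_sum] at hunits
  exact (mul_eq_zero.1 hunits).resolve_left (card_ne_zero H)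

theorem sum_subgroup_pow (l : ℕ) : ∑ h : H, ((h : (ZMod p)ˣ) : ZMod p) ^ l =
    if Nat.card H ∣ l then (Nat.card H : ZMod p) else 0 := by
  set f : H →* ZMod p := (powMonoidHom l).comp ((Units.coeHom (ZMod p)).comp H.subtype) with hf
  have h := sum_hom_units f
  have hiff : f = 1 ↔ Nat.card H ∣ l := by
    constructor
    · intro h1
      obtain ⟨g, hg⟩ := IsCyclic.exists_ofOrder_eq_natCard (α := H)
      rw [← hg]
      refine orderOf_dvd_of_pow_eq_one (Subtype.ext (Units.ext ?_))
      simpa [hf] using DFunLike.congr_fun h1 g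
    · rintro ⟨m, rfl⟩
      refine MonoidHom.ext fun g => ?_
      have h2 : g ^ Nat.card H = 1 := pow_card_eq_one'
      have h3 := congrArg (fun u : H => ((u : (ZMod p)ˣ) : ZMod p)) h2
      simp only [SubgroupClass.coe_pow, Units.val_pow_eq_pow_val, OneMemClass.coe_one,
        Units.val_one] at h3
      show ((g : (ZMod p)ˣ) : ZMod p) ^ (Nat.card H * m) = 1
      rw [pow_mul, h3, one_pow]
  simp only [hiff] at h
  rw [Nat.card_eq_fintype_card]
  split_ifs with hd
  · rw [Nat.card_eq_fintype_card, if_pos hd] at h; simpa [hf] using h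
  · rw [Nat.card_eq_fintype_card, if_neg hd] at h; simpa [hf] using h

/-- The polynomial of the power sums of a row. -/
def rowPoly (j : ℕ) : Polynomial (ZMod p) :=
  ∑ i ∈ Finset.range (j + 1), Polynomial.monomial i
    ((Nat.card H : ZMod p) * ((Nat.card H * j).choose (Nat.card H * i) : ZMod p) *
      (-1) ^ (Nat.card H * i))

theorem sum_row (a : Q H) {j : ℕ} (hj : 0 < j) :
    ∑ b : Q H, (cN H a b : ZMod p) * root H b ^ j = (rowPoly H j).eval (root H a) := by
  set e := Nat.card H with he
  have he0 : 0 < e := Nat.card_pos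
  set u : (ZMod p)ˣ := a.out
  have hL : ∑ b : Q H, (cN H a b : ZMod p) * root H b ^ j =
      ∑ h : H, (1 - ((u * (h : (ZMod p)ˣ) : (ZMod p)ˣ) : ZMod p)) ^ (e * j) := by
    have h1 : ∀ b : Q H, (cN H a b : ZMod p) * root H b ^ j =
        ∑ w ∈ cyc H a b, (1 - w) ^ (e * j) := fun b => by
      rw [cN, Finset.sum_congr rfl (g := fun _ => root H b ^ j) fun w hw => by
        obtain ⟨-, h1, -, hb⟩ := (mem_cyc H).1 hw
        rw [pow_mul, pow_card_eq_root H (sub_ne_zero.2 (Ne.symm h1)), hb], Finset.sum_const,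
        nsmul_eq_mul]
    simp only [h1]
    rw [show ∑ b : Q H, ∑ w ∈ cyc H a b, (1 - w) ^ (e * j) =
        ∑ w ∈ Finset.univ.filter (fun w : ZMod p => w ≠ 0 ∧ w ≠ 1 ∧ cls H w = a),
          (1 - w) ^ (e * j) by
      rw [← Finset.sum_fiberwise _ (fun w => cls H (1 - w))]
      refine Finset.sum_congr rfl fun b _ => Finset.sum_congr ?_ fun _ _ => rfl
      ext w
      simp [mem_cyc, and_assoc]]
    rw [Finset.sum_subset (s₂ := Finset.univ.filter fun w : ZMod p => w ≠ 0 ∧ cls H w = a)
      (fun w hw => by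
        simp only [Finset.mem_filter] at hw ⊢
        exact ⟨hw.1, hw.2.1, hw.2.2.2⟩)
      (fun w hw hw' => by
        simp only [Finset.mem_filter, Finset.mem_univ, true_and] at hw hw'
        have : w = 1 := by by_contra hne; exact hw' ⟨hw.1, hne, hw.2⟩
        rw [this, sub_self, zero_pow (Nat.mul_pos he0 hj).ne'])]
    symm
    refine Finset.sum_bij (fun h _ => ((u * (h : (ZMod p)ˣ) : (ZMod p)ˣ) : ZMod p))
      (fun h _ => ?_) (fun h _ h' _ hh => Subtype.ext (mul_left_cancel (Units.ext hh)))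
      (fun w hw => ?_) fun _ _ => rfl
    · rw [Finset.mem_filter, cls_unit, QuotientGroup.mk_mul, QuotientGroup.out_eq',
        (QuotientGroup.eq_one_iff _).2 h.2, mul_one]
      exact ⟨Finset.mem_univ _, Units.ne_zero _, rfl⟩
    · obtain ⟨-, h0, ha⟩ := Finset.mem_filter.1 hw
      rw [cls, dif_neg h0] at ha
      refine ⟨⟨u⁻¹ * Units.mk0 w h0, QuotientGroup.eq.1 ?_⟩, Finset.mem_univ _, ?_⟩
      · rw [QuotientGroup.out_eq', ha]
      · simp
  rw [hL]
  have hexp : ∀ h : H, (1 - ((u * (h : (ZMod p)ˣ) : (ZMod p)ˣ) : ZMod p)) ^ (e * j) =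
      ∑ l ∈ Finset.range (e * j + 1), (-(u : ZMod p)) ^ l * ((e * j).choose l : ZMod p) *
        ((h : (ZMod p)ˣ) : ZMod p) ^ l := fun h => by
    rw [Units.val_mul, sub_eq_add_neg, add_comm, add_pow]
    refine Finset.sum_congr rfl fun l _ => ?_
    rw [one_pow, mul_one, ← neg_mul, mul_pow]
    ring
  simp only [hexp]
  rw [Finset.sum_comm]
  simp only [← Finset.mul_sum, sum_subgroup_pow, ← he, mul_ite, mul_zero, Finset.sum_ite,
    Finset.sum_const_zero, add_zero]
  rw [rowPoly, Polynomial.eval_finsetSum]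
  symm
  refine Finset.sum_nbij' (fun i => e * i) (fun l => l / e) (fun i hi => ?_) (fun l hl => ?_)
    (fun i _ => Nat.mul_div_cancel_left i he0) (fun l hl => ?_) fun i _ => ?_
  · simp only [Finset.mem_coe, Finset.mem_filter, Finset.mem_range] at hi ⊢
    exact ⟨Nat.lt_succ_of_le (Nat.mul_le_mul_left e (by omega)), dvd_mul_right e i⟩
  · simp only [Finset.mem_coe, Finset.mem_filter, Finset.mem_range] at hl ⊢
    obtain ⟨i, rfl⟩ := hl.2
    rw [Nat.mul_div_cancel_left i he0]
    exact Nat.lt_succ_of_le (Nat.le_of_mul_le_mul_left (by omega) he0)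
  · simp only [Finset.mem_coe, Finset.mem_filter] at hl
    exact Nat.mul_div_cancel' hl.2
  · rw [Polynomial.eval_monomial, root, ← he, neg_pow, ← pow_mul]
    ring

/-- **Not every cell can be at least `k`.** -/
theorem le_of_all_ge {k s : ℕ} (he : Nat.card H = k * Nat.card (Q H) + s) (hk : 1 ≤ k)
    (h : ∀ a b : Q H, k ≤ cN H a b) : Nat.card (Q H) ≤ s + 1 := by
  by_contra hlt
  push Not at hlt
  set e := Nat.card H with hedef
  set t := Nat.card (Q H) with htdef
  have hpet : p - 1 = t * e := by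
    rw [← ZMod.card_units p, ← Nat.card_eq_fintype_card]
    exact Subgroup.card_eq_card_quotient_mul_card_subgroup H
  have hp1 := hp.out.one_lt
  have hse : s + 1 ≤ e := by
    have : t ≤ k * t := Nat.le_mul_of_pos_left t hk
    omega
  have het : e ≤ p - 1 := hpet ▸ Nat.le_mul_of_pos_left e (by omega)
  let σ : Q H → Type := fun a => (Σ b : Fin (Fintype.card (Q H)),
    Fin (cN H a ((Fintype.equivFin (Q H)).symm b) - k)) ⊕ Fin (if a = 1 then 1 else 0)
  let r : ∀ a, σ a → ZMod p := fun a =>
    Sum.elim (fun v => root H ((Fintype.equivFin (Q H)).symm v.1)) fun _ => 0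
  have hcard : ∀ a, Fintype.card (σ a) = s := by
    intro a
    have h1 := sum_cN_row H a
    rw [← hedef, he, ← Equiv.sum_comp (Fintype.equivFin (Q H)).symm] at h1
    have h2 : ∑ b : Fin (Fintype.card (Q H)), cN H a ((Fintype.equivFin (Q H)).symm b) =
        ∑ b : Fin (Fintype.card (Q H)), (cN H a ((Fintype.equivFin (Q H)).symm b) - k) + k * t := by
      rw [Finset.sum_congr rfl fun b _ => (Nat.sub_add_cancel (h a _)).symm, Finset.sum_add_distrib,
        Finset.sum_const, Finset.card_univ, Fintype.card_fin, smul_eq_mul, mul_comm, htdef,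
        Nat.card_eq_fintype_card]
    simp only [σ, Fintype.card_sum, Fintype.card_sigma, Fintype.card_fin]
    omega
  have hev : ∀ j, 0 < j → j ≤ s + 1 → ∀ a, (rowPoly H j).eval (root H a) = ∑ i, r a i ^ j := by
    intro j h0 hj a
    rw [← sum_row H a h0]
    simp only [σ, r, Fintype.sum_sum_type, Sum.elim_inl, Sum.elim_inr, zero_pow h0.ne',
      Finset.sum_const_zero, add_zero, Fintype.sum_sigma, Finset.sum_const, Finset.card_univ,
      Fintype.card_fin, nsmul_eq_mul, Nat.cast_sub (h a _), sub_mul, Finset.sum_sub_distrib,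
      ← Finset.mul_sum]
    rw [Equiv.sum_comp (Fintype.equivFin (Q H)).symm (fun b => (cN H a b : ZMod p) * root H b ^ j),
      Equiv.sum_comp (Fintype.equivFin (Q H)).symm (fun b => root H b ^ j),
      sum_root_pow H h0 (by omega), mul_zero, sub_zero]
  obtain ⟨R, hRd, hRt, hRe⟩ := exists_esymm_poly σ r (root H) e (s + 1) ((-1) ^ e) (by omega)
    (rowPoly H)
    (fun j _ _ => Polynomial.natDegree_sum_le_of_forall_le _ _ fun i hi =>
      (Polynomial.natDegree_monomial_le _).trans (by have := Finset.mem_range.1 hi; omega))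
    (fun j _ _ => by
      rw [rowPoly, Polynomial.finsetSum_coeff, Finset.sum_eq_single j
        (fun i _ hi => Polynomial.coeff_monomial_of_ne _ hi.symm) (by simp), Polynomial.coeff_monomial,
        if_pos rfl, Nat.choose_self, Nat.cast_one, mul_one, ← hedef, pow_mul])
    hev
  have hR0 : R = 0 := by
    refine Polynomial.eq_zero_of_natDegree_lt_card_of_eval_eq_zero R (root_injective H)
      (fun a => ?_) ?_
    · rw [hRe, MvPolynomial.esymm, Finset.powersetCard_eq_empty.2 (by
        rw [Finset.card_univ, hcard]; omega), Finset.sum_empty, map_zero]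
    · rw [← Nat.card_eq_fintype_card, ← htdef]
      omega
  rw [hR0, Polynomial.coeff_zero] at hRt
  have hc : (e.choose (s + 1) : ZMod p) ≠ 0 := by
    rw [Ne, ZMod.natCast_eq_zero_iff]
    intro hd
    have h1 := hd.trans ⟨_, (Nat.choose_mul_factorial_mul_factorial hse).symm.trans (mul_assoc _ _ _)⟩
    rw [hp.out.dvd_factorial] at h1
    omega
  exact mul_ne_zero hc (pow_ne_zero _ (pow_ne_zero _ (neg_ne_zero.2 one_ne_zero))) hRt.symm

end CfsgLib.SmallDegree
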