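import Cfsg.Agent.Lib.SmallDegree.Shift
import Cfsg.Agent.Lib.HalfPSL.ThreeDim

/-!
# A small representation from the skew square of a representation of dimension `(p + 1) / 2`

When `x` is a single Jordan block of size `d = (p + 1) / 2`, its antisymmetric square has no free
summand, so the summand of size three or five of the restriction to the normaliser lifts to `G`.
-/

set_option autoImplicit false
set_option linter.unusedSectionVars false
set_option linter.style.haveILetI false

noncomputable section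

namespace CfsgLib.SmallDegree

open Cfsg CfsgLib.HalfPSL Matrix
open CfsgLib.PrimeDefect (nrm)
open scoped Classical

variable {k : Type*} [Field k]

section Range

variable {W : Type*} [AddCommGroup W] [Module k W] [FiniteDimensional k W]
variable {G : Type*} [Group G] [Finite G] (σ : Representation k G W) {p : ℕ} [hp : Fact p.Prime]
  [CharP k p] {x : G}

/-- A summand of the restriction to the normaliser gives a representation no larger. -/
theorem exists_rep_range (hxo : orderOf x = p) (hsq : ¬ p ^ 2 ∣ Nat.card G)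
    (hD : (σ x - 1) ^ (p - 1) = 0) (π : Module.End k W) (hidem : IsIdempotentElem π)
    (hπ : ∀ n ∈ nrm x, Commute π (σ n)) {u : W} (hu : π u = u) (hxu : σ x u ≠ u) :
    ∃ (m : ℕ) (τ : Representation k G (Fin m → k)),
      m ≤ Module.finrank k (LinearMap.range π) ∧ τ x ≠ 1 := by
  obtain ⟨e, he, hec, h1, h2, -⟩ := exists_idempotent σ hxo hsq hD π hidem hπ
  set U := LinearMap.range e with hU
  have hmem : ∀ g : G, ∀ w ∈ U, σ g w ∈ U := by
    rintro g w ⟨v, rfl⟩
    exact ⟨σ g v, by rw [← Module.End.mul_apply, (hec g).eq, Module.End.mul_apply]⟩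
  let τ0 : Representation k G U :=
    { toFun := fun g => (σ g).restrict (hmem g)
      map_one' := by ext w; simp
      map_mul' := fun g h => by ext w; simp }
  set b := Module.finBasis k U
  let τ : Representation k G (Fin (Module.finrank k U) → k) :=
    { toFun := fun g => b.equivFun.conj (τ0 g)
      map_one' := by rw [map_one]; exact LinearEquiv.conj_id _
      map_mul' := fun g h => by rw [map_mul]; exact LinearEquiv.conj_comp _ (τ0 h) (τ0 g) }
  have hfix : ∀ w ∈ U, e w = w := by
    rintro w ⟨v, rfl⟩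
    rw [← Module.End.mul_apply, he.eq]
  refine ⟨_, τ, ?_, fun hτ => hxu ?_⟩
  · refine LinearMap.finrank_le_finrank_of_injective
      (f := (π.comp U.subtype).codRestrict (LinearMap.range π) fun w => ⟨w, rfl⟩) ?_
    intro a c hac
    have hd : π ((a : W) - c) = 0 := by
      rw [map_sub, sub_eq_zero]
      exact congrArg Subtype.val hac
    exact Subtype.ext (sub_eq_zero.1 (h2 _ (by rw [map_sub, hfix _ a.2, hfix _ c.2]) hd))
  · have h : τ0 x = 1 := b.equivFun.conj.injective (by
      show τ x = _
      rw [hτ]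
      exact (LinearEquiv.conj_id _).symm)
    have hx' : σ x (e u) = e u := congrArg Subtype.val (LinearMap.congr_fun h ⟨e u, u, rfl⟩)
    rw [← Module.End.mul_apply, ← (hec x).eq, Module.End.mul_apply] at hx'
    refine sub_eq_zero.1 (h1 _ ?_ (by rw [map_sub, hx', sub_self]))
    rw [map_sub, hu, ← Module.End.mul_apply,
      (hπ x (Subgroup.le_normalizer (Subgroup.mem_zpowers x))).eq, Module.End.mul_apply, hu]

end Range

section Frame

variable {V : Type*} [AddCommGroup V] [Module k V] [FiniteDimensional k V]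
variable {G : Type*} [Group G] [Finite G] (ρ : Representation k G V) {p : ℕ} [hp : Fact p.Prime]
  [CharP k p] {x : G}

open PrimeDefect SelfCentralPrime in
/-- A basis adapted to a single Jordan block and to the normaliser. -/
theorem exists_frame (hxo : orderOf x = p) (hsq : ¬ p ^ 2 ∣ Nat.card G) {d : ℕ}
    (hd : Module.finrank k V = d) (hd2 : 2 ≤ d) (hdp : d < p) (hA : (ρ x - 1) ^ (d - 1) ≠ 0) :
    ∃ (A : G →* Matrix (Fin d) (Fin d) k),
      (∃ ι : Module.End k V ≃ₐ[k] Matrix (Fin d) (Fin d) k, ∀ g, A g = ι (ρ g)) ∧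
      A x = texp (k := k) p (shL k d) ∧
      ∀ n ∈ nrm x, ∃ (i : ℕ) (c r : k), c ≠ 0 ∧ r ≠ 0 ∧
        A (n * x ^ i) = Matrix.diagonal fun l : Fin d => c * r ^ (l : ℕ) := by
  haveI := Fintype.ofFinite G
  set A := ρ x - 1 with hAdef
  have hAd : A ^ d = 0 := by
    have hN : IsNilpotent A := by
      refine ⟨p, ?_⟩
      have h2 := congrArg (Polynomial.aeval (ρ x))
        (sub_pow_char (p := p) (Polynomial.X : Polynomial k) 1)
      simp only [map_sub, map_pow, Polynomial.aeval_X, map_one, one_pow] at h2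
      rw [hAdef, h2, ← map_pow, ← hxo, pow_orderOf_eq_one, map_one, sub_self]
    have h1 := (LinearMap.isNilpotent_iff_charpoly A).1 hN
    have h2 := LinearMap.aeval_self_charpoly A
    rwa [h1, map_pow, Polynomial.aeval_X, hd] at h2
  have hAp : A ^ p = 0 := pow_eq_zero_of_le (by omega) hAd
  have hxA : ρ x = 1 + A := by rw [hAdef]; abel
  obtain ⟨P, hP⟩ := exists_log (k := k) hAp
  set L := Polynomial.aeval A (Polynomial.X * P) with hLdef
  have hLd : L ^ d = 0 := by
    rw [hLdef, ← map_pow, mul_pow, map_mul, map_pow, Polynomial.aeval_X, hAd, zero_mul]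
  obtain ⟨Q₀, hQ₀⟩ := exists_texp_eq (k := k) (p := p)
  have hAL : A = L * (1 + L * Polynomial.aeval L Q₀) := by
    have h := hQ₀ _ L
    rw [hP] at h
    rw [mul_add, mul_one, ← mul_assoc, ← pow_two]
    exact add_left_cancel (h.trans (add_assoc _ _ _))
  have hLl : L ^ (d - 1) ≠ 0 := by
    intro h
    apply hA
    have hc : Commute L (Polynomial.aeval L Q₀) := by
      have h' := (Commute.all Polynomial.X Q₀).map (Polynomial.aeval (R := k) L)
      rwa [Polynomial.aeval_X] at h'
    rw [hAL, ((Commute.one_right L).add_right ((Commute.refl L).mul_right hc)).mul_pow, h, zero_mul]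
  -- the complement of `⟨x⟩` in the normaliser
  set N := nrm x
  obtain ⟨W, D⟩ := exists_data hxo hsq
  haveI hZn : ((Subgroup.zpowers x).subgroupOf N).Normal := Subgroup.normal_in_normalizer
  have hZc : Nat.card ((Subgroup.zpowers x).subgroupOf N) = p := by
    have hle : Subgroup.zpowers x ≤ N :=
      Subgroup.zpowers_le.2 (Subgroup.le_normalizer (Subgroup.mem_zpowers x))
    exact (Nat.card_congr (Subgroup.subgroupOfEquivOfLe hle).toEquiv).trans
      ((Nat.card_zpowers x).trans hxo)
  have hcop : Nat.Coprime (Nat.card ((Subgroup.zpowers x).subgroupOf N))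
      ((Subgroup.zpowers x).subgroupOf N).index := by
    rw [hZc, hp.out.coprime_iff_not_dvd]
    intro h
    refine hsq (Dvd.dvd.trans ?_ (Subgroup.card_subgroup_dvd_card N))
    rw [← Subgroup.card_mul_index ((Subgroup.zpowers x).subgroupOf N), hZc, pow_two]
    exact mul_dvd_mul_left p h
  obtain ⟨K, hK⟩ := Subgroup.exists_right_complement'_of_coprime hcop
  haveI := Fintype.ofFinite K
  have hK0 : (Fintype.card K : k) ≠ 0 := by
    rw [← Nat.card_eq_fintype_card, Ne, CharP.cast_eq_zero_iff k p]
    intro hd'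
    refine hsq (Dvd.dvd.trans ?_ (Subgroup.card_subgroup_dvd_card N))
    rw [← hK.card_mul_card, hZc, pow_two]
    exact mul_dvd_mul_left p hd'
  let τ : K →* Module.End k V := ρ.comp (N.subtype.comp K.subtype)
  let r : K →* k :=
    ((ZMod.castHom (dvd_refl p) k).toMonoidHom.comp (Units.coeHom (ZMod p))).comp
      (D.muHom.comp K.subtype)
  have hr0 : ∀ q, r q ≠ 0 := fun q => IsUnit.ne_zero ((Group.isUnit q).map r)
  have hτL : ∀ q : K, τ q * L = r q • (L * τ q) := by
    intro q
    have hval : ((D.mu (q : N) : ZMod p).val : k) = r q := by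
      show _ = (ZMod.castHom (dvd_refl p) k) (D.mu (q : N) : ZMod p)
      rw [ZMod.castHom_apply, ZMod.natCast_val]
    have h1 : τ q * (1 + A) * τ q⁻¹ = (1 + A) ^ (D.mu (q : N) : ZMod p).val := by
      rw [← hxA, ← map_pow]
      show ρ _ * ρ x * ρ _ = _
      rw [← map_mul, ← map_mul]
      exact congrArg ρ (D.mu_spec (q : N))
    have h2 := conj_log (k := k) hAp hP (τ q) (τ q⁻¹)
      (by rw [← map_mul, inv_mul_cancel, map_one]) (by rw [← map_mul, mul_inv_cancel, map_one]) _ h1
    rw [← hLdef, hval] at h2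
    calc τ q * L = τ q * L * τ q⁻¹ * τ q := by
          rw [mul_assoc (τ q * L), ← map_mul, inv_mul_cancel, map_one, mul_one]
      _ = _ := by rw [h2, smul_mul_assoc]
  have hτLpow : ∀ (q : K) (n : ℕ), τ q * L ^ n = r q ^ n • (L ^ n * τ q) := by
    intro q n
    induction n with
    | zero => simp
    | succ n ih =>
      rw [pow_succ, ← mul_assoc, ih, smul_mul_assoc, mul_assoc, hτL, mul_smul_comm, smul_smul,
        ← pow_succ, mul_assoc]
  -- the complement of the kernel of `L ^ (d - 1)`
  set S := LinearMap.ker (L ^ (d - 1)) with hS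
  obtain ⟨S', hS'⟩ := S.exists_isCompl
  have hSinv : ∀ (q : K), ∀ v ∈ S, τ q v ∈ S := by
    intro q v hv
    rw [hS, LinearMap.mem_ker] at hv ⊢
    have h := congrArg (fun f : Module.End k V => f v) (hτLpow q (d - 1))
    simp only [Module.End.mul_apply, LinearMap.smul_apply, hv, map_zero] at h
    exact (smul_eq_zero.1 h.symm).resolve_left (pow_ne_zero _ (hr0 q))
  set P1 : Module.End k V := S.projection S' hS' with hP1
  set P2 : Module.End k V := (Fintype.card K : k)⁻¹ • ∑ q : K, τ q * P1 * τ q⁻¹ with hP2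
  have hP2mem : ∀ v, P2 v ∈ S := fun v => by
    simp only [hP2, LinearMap.smul_apply, LinearMap.sum_apply, Module.End.mul_apply]
    exact S.smul_mem _ (S.sum_mem fun q _ => hSinv q _ (Submodule.projection_apply_mem hS' _))
  have hP2id : ∀ v ∈ S, P2 v = v := fun v hv => by
    simp only [hP2, LinearMap.smul_apply, LinearMap.sum_apply, Module.End.mul_apply]
    rw [Finset.sum_congr rfl (g := fun _ => v) fun q _ => by
      rw [hP1, show S.projection S' hS' (τ q⁻¹ v) = τ q⁻¹ v from
          Submodule.projection_apply_left hS' ⟨_, hSinv _ v hv⟩,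
        ← Module.End.mul_apply, ← map_mul, mul_inv_cancel, map_one, Module.End.one_apply],
      Finset.sum_const, Finset.card_univ, ← Nat.cast_smul_eq_nsmul k, smul_smul,
      inv_mul_cancel₀ hK0, one_smul]
  have hP2c : ∀ q : K, τ q * P2 = P2 * τ q := by
    intro q
    simp only [hP2, mul_smul_comm, smul_mul_assoc, Finset.mul_sum, Finset.sum_mul]
    congr 1
    refine Fintype.sum_equiv (Equiv.mulLeft q) _ _ fun s => ?_
    simp only [Equiv.coe_mulLeft, _root_.mul_inv_rev, map_mul, mul_assoc, ← map_mul τ q⁻¹ q,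
      inv_mul_cancel, map_one, mul_one]
  obtain ⟨v, hv⟩ : ∃ v, (L ^ (d - 1)) v ≠ 0 := by
    by_contra h
    push Not at h
    exact hLl (LinearMap.ext h)
  set v0 := v - P2 v with hv0
  have hv00 : (L ^ (d - 1)) v0 ≠ 0 := by
    rw [hv0, map_sub, LinearMap.mem_ker.1 (hP2mem v), sub_zero]; exact hv
  have hv0P : P2 v0 = 0 := by rw [hv0, map_sub, hP2id _ (hP2mem v), sub_self]
  have hli : LinearIndependent k fun i : Fin d => (L ^ (i : ℕ)) v0 := by
    rw [Fintype.linearIndependent_iff]
    intro a ha i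
    induction i using WellFoundedLT.induction with
    | _ i IH =>
      have h := congrArg (fun w => (L ^ (d - 1 - (i : ℕ))) w) ha
      simp only [map_sum, map_smul, map_zero, ← Module.End.mul_apply, ← pow_add] at h
      rw [Finset.sum_eq_single i] at h
      · rw [show d - 1 - (i : ℕ) + i = d - 1 by omega, smul_eq_zero] at h
        exact h.resolve_right hv00
      · intro j _ hji
        rcases lt_or_gt_of_ne hji with hlt | hgt
        · rw [IH j hlt, zero_smul]
        · rw [pow_eq_zero_of_le (by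
            have : (i : ℕ) < j := hgt
            omega) hLd, LinearMap.zero_apply, smul_zero]
      · simp
  haveI : Nonempty (Fin d) := ⟨⟨0, by omega⟩⟩
  set b := basisOfLinearIndependentOfCardEqFinrank (b := fun i : Fin d => (L ^ (i : ℕ)) v0)
    hli (by rw [hd, Fintype.card_fin]) with hb
  have hbi : ∀ i, b i = (L ^ (i : ℕ)) v0 := fun i =>
    congrFun (coe_basisOfLinearIndependentOfCardEqFinrank _ _) i
  set ι := LinearMap.toMatrixAlgEquiv b with hι
  refine ⟨ι.toAlgHom.toMonoidHom.comp ρ, ⟨ι, fun g => rfl⟩, ?_, ?_⟩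
  · have hιL : ι L = shL k d := by
      ext i j
      rw [hι, LinearMap.toMatrixAlgEquiv_apply, hbi, ← Module.End.mul_apply, ← pow_succ', shL,
        Matrix.of_apply]
      by_cases h : (j : ℕ) + 1 < d
      · rw [show (L ^ ((j : ℕ) + 1)) v0 = b ⟨j + 1, h⟩ from (hbi ⟨j + 1, h⟩).symm,
          b.repr_self, Finsupp.single_apply]
        simp [Fin.ext_iff, eq_comm]
      · rw [pow_eq_zero_of_le (by omega) hLd, LinearMap.zero_apply, map_zero, Finsupp.zero_apply,
          if_neg (by omega)]
    show ι (ρ x) = _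
    rw [hxA, ← hP, ← hιL]
    simp [texp]
  · intro n hn
    obtain ⟨⟨⟨z, hz⟩, q⟩, hzq⟩ := hK.2 (⟨n, hn⟩ : N)
    obtain ⟨i, hi⟩ := (mem_powers_iff_mem_zpowers (x := x)).2 (Subgroup.mem_subgroupOf.1 hz)
    obtain ⟨j, hj⟩ : ∃ j, n * x ^ j = ((q : N) : G) := by
      have hnq : n = x ^ i * ((q : N) : G) := by
        refine (congrArg Subtype.val hzq).symm.trans ?_
        show (z : G) * ((q : N) : G) = _
        rw [show (z : G) = x ^ i from hi.symm]
      have hnn : n⁻¹ * (x ^ i)⁻¹ * n ∈ Subgroup.zpowers x :=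
        (Subgroup.mem_normalizer_iff''.1 hn _).1 (inv_mem (Subgroup.npow_mem_zpowers x i))
      obtain ⟨j, hj⟩ := (mem_powers_iff_mem_zpowers (x := x)).2 hnn
      refine ⟨j, ?_⟩
      rw [show x ^ j = n⁻¹ * (x ^ i)⁻¹ * n from hj, hnq]
      group
    -- `v0` is an eigenvector
    obtain ⟨c, hc⟩ : ∃ c : k, τ q v0 = c • v0 := by
      have hw : P2 (τ q v0) = 0 := by
        rw [← Module.End.mul_apply, ← hP2c, Module.End.mul_apply, hv0P, map_zero]
      refine ⟨b.repr (τ q v0) ⟨0, by omega⟩, ?_⟩
      set w := τ q v0 - b.repr (τ q v0) ⟨0, by omega⟩ • v0 with hwdef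
      have hwS : w ∈ S := by
        rw [hS, LinearMap.mem_ker, hwdef, map_sub, map_smul]
        conv_lhs => arg 1; rw [← b.sum_repr (τ q v0)]
        rw [map_sum, Finset.sum_eq_single (⟨0, by omega⟩ : Fin d) (fun l _ hl => by
          have : (l : ℕ) ≠ 0 := fun h => hl (Fin.ext h)
          rw [map_smul, hbi, ← Module.End.mul_apply, ← pow_add,
            pow_eq_zero_of_le (by omega) hLd, LinearMap.zero_apply, smul_zero])
          (fun h => absurd (Finset.mem_univ _) h), map_smul, hbi, pow_zero, Module.End.one_apply,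
          sub_self]
      rw [← sub_eq_zero, ← hwdef, ← hP2id w hwS, hwdef, map_sub, map_smul, hw, hv0P, smul_zero,
        sub_zero]
    have hc0 : c ≠ 0 := by
      rintro rfl
      rw [zero_smul] at hc
      have h : τ q⁻¹ (τ q v0) = 0 := by rw [hc, map_zero]
      rw [← Module.End.mul_apply, ← map_mul, inv_mul_cancel, map_one, Module.End.one_apply] at h
      exact hv00 (by rw [h, map_zero])
    refine ⟨j, c, r q, hc0, hr0 q, ?_⟩
    show ι (ρ (n * x ^ j)) = _
    rw [hj]
    ext l m
    rw [hι, LinearMap.toMatrixAlgEquiv_apply, hbi, show ρ ((q : N) : G) = τ q from rfl,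
      ← Module.End.mul_apply, hτLpow, LinearMap.smul_apply, Module.End.mul_apply, hc]
    simp only [map_smul]
    rw [smul_smul, ← hbi, b.repr_self, Finsupp.smul_single, Finsupp.single_apply,
      Matrix.diagonal_apply, smul_eq_mul, mul_one]
    by_cases h : l = m
    · subst h; rw [if_pos rfl, if_pos rfl, mul_comm]
    · rw [if_neg (Ne.symm h), if_neg h]

end Frame

section Skew

variable {G : Type*} [Group G] [Finite G] {p : ℕ} [hp : Fact p.Prime] [CharP k p] {x : G}

/-- The skew matrices. -/
def skew (k : Type*) [Field k] (d : ℕ) : Submodule k (Matrix (Fin d) (Fin d) k) where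
  carrier := {X | Xᵀ = -X}
  add_mem' := fun {a b} ha hb => by
    show (a + b)ᵀ = -(a + b)
    rw [Matrix.transpose_add, ha, hb, neg_add]
  zero_mem' := by show (0 : Matrix (Fin d) (Fin d) k)ᵀ = -0; simp
  smul_mem' := fun c a ha => by
    show (c • a)ᵀ = -(c • a)
    rw [Matrix.transpose_smul, ha, smul_neg]

theorem mem_skew {d : ℕ} {X : Matrix (Fin d) (Fin d) k} : X ∈ skew k d ↔ Xᵀ = -X := Iff.rfl

theorem conj_mem_skew {d : ℕ} (M : Matrix (Fin d) (Fin d) k) {X : Matrix (Fin d) (Fin d) k}
    (hX : X ∈ skew k d) : M * X * Mᵀ ∈ skew k d := by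
  rw [mem_skew] at hX ⊢
  rw [Matrix.transpose_mul, Matrix.transpose_mul, Matrix.transpose_transpose, hX, neg_mul, mul_neg,
    mul_assoc]

theorem sylv_mem_skew {d : ℕ} {X : Matrix (Fin d) (Fin d) k} (hX : X ∈ skew k d) :
    sylv k d X ∈ skew k d := by
  rw [mem_skew] at hX ⊢
  rw [sylv_apply, Matrix.transpose_add, Matrix.transpose_mul, Matrix.transpose_mul,
    Matrix.transpose_transpose, hX, neg_mul, mul_neg, neg_add, add_comm]

theorem sylv_pow_mem_skew {d : ℕ} (n : ℕ) {X : Matrix (Fin d) (Fin d) k} (hX : X ∈ skew k d) :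
    (sylv k d ^ n) X ∈ skew k d := by
  induction n with
  | zero => simpa using hX
  | succ n ih => rw [pow_succ', Module.End.mul_apply]; exact sylv_mem_skew ih

theorem mul_LT_apply {d : ℕ} (X : Matrix (Fin d) (Fin d) k) (i j : Fin d) :
    (X * (shL k d)ᵀ) i j = if h : 0 < (j : ℕ) then X i ⟨j - 1, by omega⟩ else 0 := by
  rw [← Matrix.transpose_apply (X * (shL k d)ᵀ) j i, Matrix.transpose_mul,
    Matrix.transpose_transpose, L_mul_apply]
  simp [Matrix.transpose_apply]

theorem shL_pow_apply {d : ℕ} (n : ℕ) (i j : Fin d) :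
    (shL k d ^ n) i j = if (i : ℕ) = j + n then 1 else 0 := by
  induction n generalizing i with
  | zero => simp [Matrix.one_apply, Fin.ext_iff]
  | succ n ih =>
    rw [pow_succ', L_mul_apply]
    split_ifs with h1 h2 h3
    · rw [ih, if_pos (by simp; omega)]
    · rw [ih, if_neg (by simp; omega)]
    · omega
    · rfl

/-- The top power kills the skew matrices. -/
theorem sylv_pow_top {d : ℕ} (hd : 0 < d) (h2 : (2 : k) ≠ 0) {X : Matrix (Fin d) (Fin d) k}
    (hX : X ∈ skew k d) : (sylv k d ^ (2 * (d - 1))) X = 0 := by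
  have hc : Commute (LinearMap.mulLeft k (shL k d)) (LinearMap.mulRight k (shL k d)ᵀ) :=
    LinearMap.ext fun Y => by simp [Module.End.mul_apply, mul_assoc]
  have hLd : shL k d ^ d = 0 := by
    ext i j
    rw [shL_pow_apply, if_neg (by omega), Matrix.zero_apply]
  rw [sylv, hc.add_pow', LinearMap.sum_apply]
  refine Finset.sum_eq_zero fun q hq => ?_
  rw [Finset.HasAntidiagonal.mem_antidiagonal] at hq
  rw [LinearMap.smul_apply, Module.End.mul_apply, LinearMap.pow_mulLeft, LinearMap.pow_mulRight,
    LinearMap.mulLeft_apply, LinearMap.mulRight_apply, ← Matrix.transpose_pow]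
  rcases Nat.lt_or_ge (d - 1) q.1 with h | h
  · rw [pow_eq_zero_of_le (by omega : d ≤ q.1) hLd]; simp
  rcases Nat.lt_or_ge (d - 1) q.2 with h' | h'
  · rw [pow_eq_zero_of_le (by omega : d ≤ q.2) hLd]; simp
  have h00 : X ⟨0, hd⟩ ⟨0, hd⟩ = 0 := by
    have h := congrFun (congrFun (mem_skew.1 hX) ⟨0, hd⟩) ⟨0, hd⟩
    rw [Matrix.transpose_apply, Matrix.neg_apply, eq_neg_iff_add_eq_zero, ← two_mul] at h
    exact (mul_eq_zero.1 h).resolve_left h2
  refine (smul_eq_zero_of_right _ ?_)
  ext i j
  rw [Matrix.zero_apply, Matrix.mul_apply]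
  refine Finset.sum_eq_zero fun a _ => ?_
  rw [Matrix.mul_apply, Finset.mul_sum]
  refine Finset.sum_eq_zero fun c _ => ?_
  rw [shL_pow_apply, Matrix.transpose_apply, shL_pow_apply]
  split_ifs with e1 e2 <;> try simp
  have ha : a = ⟨0, hd⟩ := Fin.ext (by simp; omega)
  have hc' : c = ⟨0, hd⟩ := Fin.ext (by simp; omega)
  rw [ha, hc', h00]

theorem trace_main {d q : ℕ} (n : ℕ) :
    ((sylv k d ^ n) (shF k d ^ q * shS k d) * shS k d * shF k d ^ q).trace =
      (-1) ^ (d - 1) * (adL^[n] (shF k d ^ q) * shF k d ^ q).trace := by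
  rw [sylv_pow_mul_S, mul_assoc (adL^[n] (shF k d ^ q)) (shS k d), S_mul_S, mul_smul_comm, mul_one,
    smul_mul_assoc, Matrix.trace_smul, smul_eq_mul]

/-- The projection on a summand of the skew matrices and a representation of `G` there. -/
theorem exists_small_rep {d : ℕ} (A : G →* Matrix (Fin d) (Fin d) k) (hxo : orderOf x = p)
    (hsq : ¬ p ^ 2 ∣ Nat.card G) (hdp : 2 * d = p + 1) (hp5 : 11 ≤ p)
    (hAx : A x = texp (k := k) p (shL k d))
    (hN : ∀ n ∈ nrm x, ∃ (i : ℕ) (c r : k), c ≠ 0 ∧ r ≠ 0 ∧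
      A (n * x ^ i) = Matrix.diagonal fun l : Fin d => c * r ^ (l : ℕ)) :
    ∃ (m : ℕ) (τ : Representation k G (Fin m → k)), m ≤ 5 ∧ τ x ≠ 1 := by
  have hcast : ∀ n : ℕ, 0 < n → n < p → (n : k) ≠ 0 := fun n h1 h2 h0 => by
    rw [CharP.cast_eq_zero_iff k p] at h0
    have := Nat.le_of_dvd h1 h0
    omega
  have h2k : (2 : k) ≠ 0 := by exact_mod_cast hcast 2 (by norm_num) (by omega)
  -- the parameter
  obtain ⟨q, hq12, hq⟩ : ∃ q, (q = 1 ∨ q = 2) ∧ Odd (d - 1 + q) := by
    rcases Nat.even_or_odd (d - 1) with h | h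
    · exact ⟨1, Or.inl rfl, h.add_one⟩
    · exact ⟨2, Or.inr rfl, by rw [Nat.odd_add]; exact ⟨fun _ => ⟨1, rfl⟩, fun _ => h⟩⟩
  set F := shF k d ^ q with hF
  set S := shS k d
  set u := F * S with hu
  have huskew : u ∈ skew k d := F_pow_S_skew hq
  have hvan : adL^[2 * q + 1] F = 0 := by
    rcases hq12 with rfl | rfl
    · exact adL_F_one_three
    · exact adL_F_two_five
  set m := 2 * q + 1 with hm
  set D := sylv k d with hD
  have hDmu : ∀ n, m ≤ n → (D ^ n) u = 0 := by
    intro n hn
    obtain ⟨e, rfl⟩ := Nat.exists_eq_add_of_le hn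
    rw [add_comm, pow_add, Module.End.mul_apply]
    simp only [hD, hu, S, sylv_pow_mul_S, hvan, zero_mul, map_zero]
  set φ : Matrix (Fin d) (Fin d) k →ₗ[k] k :=
    (Matrix.traceLinearMap (Fin d) k k).comp
      (LinearMap.mulRight k (S * F)) with hφ
  have hφapp : ∀ X, φ X = (X * S * F).trace := fun X => by
    simp [hφ, mul_assoc]
  have hφD : ∀ X, φ ((D ^ m) X) = 0 := fun X => by
    rw [hφapp]
    simp only [hD, S, trace_sylv_pow, hvan, mul_zero, Matrix.trace_zero]
  have hφu : ∀ n, n ≠ 2 * q → φ ((D ^ n) u) = 0 := by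
    intro n hn
    rw [hφapp]
    simp only [hD, hu, S, hF, trace_main]
    rw [HasShift.trace_eq_zero ((hasShift_adL_iterate (hasShift_F_pow q) n).mul (hasShift_F_pow q))
      (by omega), mul_zero]
  set c0 := φ ((D ^ (2 * q)) u) with hc0
  have hc0ne : c0 ≠ 0 := by
    rw [hc0, hφapp]
    simp only [hD, hu, S, hF, trace_main]
    refine mul_ne_zero (pow_ne_zero _ (neg_ne_zero.2 one_ne_zero)) ?_
    have hdk : 2 * (d : k) = 1 := by
      have h := congrArg (Nat.cast : ℕ → k) hdp
      push_cast at h
      rwa [CharP.cast_eq_zero k p, zero_add] at h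
    have a0 := hcast d (by omega) (by omega)
    have a1 : (d : k) + 1 ≠ 0 := by exact_mod_cast hcast (d + 1) (by omega) (by omega)
    have a2 : (d : k) + 2 ≠ 0 := by exact_mod_cast hcast (d + 2) (by omega) (by omega)
    have am1 : (d : k) - 1 ≠ 0 := by
      have := hcast (d - 1) (by omega) (by omega)
      rwa [Nat.cast_sub (by omega), Nat.cast_one] at this
    have am2 : (d : k) - 2 ≠ 0 := by
      have := hcast (d - 2) (by omega) (by omega)
      rwa [Nat.cast_sub (by omega), Nat.cast_two] at this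
    rcases hq12 with rfl | rfl
    · rw [show (2 * 1 : ℕ) = 2 from rfl, adL_F_one_two, smul_mul_assoc, pow_one, Matrix.trace_smul,
        smul_eq_mul, trace_L_F]
      refine mul_ne_zero (neg_ne_zero.2 h2k) fun h0 => mul_ne_zero (mul_ne_zero am1 a0) a1 ?_
      have := sum_gcoef (k := k) (d := d) d
      rw [h0, mul_zero] at this
      linear_combination -this
    · rw [show (2 * 2 : ℕ) = 4 from rfl, adL_F_two_four, smul_mul_assoc, Matrix.trace_smul,
        smul_eq_mul, trace_L_F_two]
      have h24 : (24 : k) ≠ 0 := by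
        rw [show (24 : k) = 2 * 2 * 2 * (3 : ℕ) by norm_num]
        exact mul_ne_zero (mul_ne_zero (mul_ne_zero h2k h2k) h2k) (hcast 3 (by norm_num) (by omega))
      refine mul_ne_zero h24 fun h0 =>
        mul_ne_zero (mul_ne_zero (mul_ne_zero (mul_ne_zero am2 am1) a0) a1) a2 ?_
      have := sum_gcoef_two (k := k) (d := d) d
      rw [h0, mul_zero] at this
      have h2' : (2 : k) * ((d - 2 : k) * (d - 1) * d * (d + 1) * (d + 2)) = 0 := by
        linear_combination -this
      exact (mul_eq_zero.1 h2').resolve_left h2k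
  -- the projection
  set π : Module.End k (Matrix (Fin d) (Fin d) k) :=
    ∑ i ∈ Finset.range m, (c0⁻¹ • φ.comp (D ^ (2 * q - i))).smulRight ((D ^ i) u) with hπ
  have hπapp : ∀ X, π X = ∑ i ∈ Finset.range m, (c0⁻¹ * φ ((D ^ (2 * q - i)) X)) • (D ^ i) u :=
    fun X => by simp [hπ, LinearMap.sum_apply]
  have hπu : ∀ l, l < m → π ((D ^ l) u) = (D ^ l) u := by
    intro l hl
    rw [hπapp, Finset.sum_eq_single l]
    · rw [← Module.End.mul_apply, ← pow_add, Nat.sub_add_cancel (by omega), ← hc0,
        inv_mul_cancel₀ hc0ne, one_smul]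
    · intro i hi hil
      have := Finset.mem_range.1 hi
      rw [← Module.End.mul_apply, ← pow_add, hφu _ (by omega), mul_zero, zero_smul]
    · exact fun h => absurd (Finset.mem_range.2 hl) h
  have hπskew : ∀ X, π X ∈ skew k d := fun X => by
    rw [hπapp]
    exact Submodule.sum_mem _ fun i _ => Submodule.smul_mem _ _ (sylv_pow_mem_skew i huskew)
  have hπD : Commute π D := by
    refine LinearMap.ext fun X => ?_
    rw [Module.End.mul_apply, Module.End.mul_apply, hπapp, hπapp, map_sum]
    simp only [map_smul, ← Module.End.mul_apply, ← pow_succ, ← pow_succ']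
    rw [hm, Finset.sum_range_succ', Finset.sum_range_succ (fun i => _ • (D ^ (i + 1)) u),
      hDmu _ (show m ≤ 2 * q + 1 by omega), smul_zero, add_zero, pow_zero,
      Nat.sub_zero, show 2 * q + 1 = m from rfl, hφD, mul_zero, zero_smul, add_zero]
    refine Finset.sum_congr rfl fun i hi => ?_
    rw [show 2 * q - (i + 1) + 1 = 2 * q - i by have := Finset.mem_range.1 hi; omega]
  -- the action of `x`
  have hLd : shL k d ^ d = 0 := by
    ext i j
    rw [shL_pow_apply, if_neg (by omega), Matrix.zero_apply]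
  have hσx : ∀ X, A x * X * (A x)ᵀ = texp (k := k) p D X := by
    intro X
    have hz : ∀ i j, p ≤ i + j → LinearMap.mulLeft k (shL k d) ^ i *
        LinearMap.mulRight k (shL k d)ᵀ ^ j = 0 := by
      intro i j hij
      rw [LinearMap.pow_mulLeft, LinearMap.pow_mulRight]
      rcases Nat.lt_or_ge i d with hi | hi
      · rw [← Matrix.transpose_pow, pow_eq_zero_of_le (show d ≤ j by omega) hLd]
        ext; simp
      · rw [pow_eq_zero_of_le hi hLd]; ext; simp
    have hc : Commute (LinearMap.mulLeft k (shL k d)) (LinearMap.mulRight k (shL k d)ᵀ) :=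
      LinearMap.ext fun Y => by simp [Module.End.mul_apply, mul_assoc]
    rw [hD, sylv, texp_add hc hz, hAx, Module.End.mul_apply]
    simp only [texp, LinearMap.sum_apply, LinearMap.smul_apply, LinearMap.pow_mulLeft,
      LinearMap.pow_mulRight, LinearMap.mulLeft_apply, LinearMap.mulRight_apply,
      Matrix.transpose_sum, Matrix.transpose_smul, Matrix.transpose_pow, Finset.mul_sum,
      Finset.sum_mul, Finset.smul_sum, smul_mul_assoc, mul_smul_comm, mul_assoc]
    rw [Finset.sum_comm]
    exact Finset.sum_congr rfl fun i _ => Finset.sum_congr rfl fun j _ => smul_comm _ _ _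
  -- equivariance
  let σF : Representation k G (Matrix (Fin d) (Fin d) k) :=
    { toFun := fun g => (LinearMap.mulRight k (A g)ᵀ).comp (LinearMap.mulLeft k (A g))
      map_one' := LinearMap.ext fun X => by simp
      map_mul' := fun g h => LinearMap.ext fun X => by simp [mul_assoc] }
  have hσF : ∀ g X, σF g X = A g * X * (A g)ᵀ := fun g X => rfl
  have hσFx : σF x = texp (k := k) p D := LinearMap.ext fun X => (hσF x X).trans (hσx X)
  have hπx : Commute π (σF x) := by
    rw [hσFx, texp]
    exact Commute.sum_right _ _ _ fun i _ => (hπD.pow_right i).smul_right _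
  have hdiag : ∀ (c r : k), r ≠ 0 → ∀ g, A g = Matrix.diagonal (fun l : Fin d => c * r ^ (l : ℕ)) →
      Commute π (σF g) := by
    intro c r hr g hg
    have hent : ∀ (X : Matrix (Fin d) (Fin d) k) (i j : Fin d),
        σF g X i j = c * c * r ^ ((i : ℕ) + j) * X i j := by
      intro X i j
      rw [hσF, hg, Matrix.diagonal_transpose, Matrix.mul_diagonal, Matrix.diagonal_mul, pow_add]
      ring
    have hTD : ∀ X, σF g (D X) = r • D (σF g X) := by
      intro X
      ext i j
      rw [hent, Matrix.smul_apply, hD, sylv_apply, sylv_apply, Matrix.add_apply, Matrix.add_apply,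
        mul_LT_apply, mul_LT_apply]
      simp only [L_mul_apply, smul_eq_mul]
      have hpi : ∀ (i0 : Fin d), 0 < (i0 : ℕ) → r * r ^ ((i0 : ℕ) - 1) = r ^ (i0 : ℕ) := by
        intro i0 h0
        rw [← pow_succ', Nat.sub_add_cancel h0]
      by_cases h : 0 < (i : ℕ) <;> by_cases h' : 0 < (j : ℕ)
      · rw [dif_pos h, dif_pos h', dif_pos h, dif_pos h', hent, hent, pow_add, pow_add, pow_add,
          ← hpi i h, ← hpi j h']
        simp only
        ring
      · rw [dif_pos h, dif_neg h', dif_pos h, dif_neg h', hent, pow_add, pow_add, ← hpi i h]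
        simp only
        ring
      · rw [dif_neg h, dif_pos h', dif_neg h, dif_pos h', hent, pow_add, pow_add, ← hpi j h']
        simp only
        ring
      · rw [dif_neg h, dif_neg h', dif_neg h, dif_neg h']
        ring
    have hTDn : ∀ n X, σF g ((D ^ n) X) = r ^ n • (D ^ n) (σF g X) := by
      intro n
      induction n with
      | zero => simp
      | succ n ih =>
        intro X
        rw [pow_succ', Module.End.mul_apply, hTD, ih, Module.End.mul_apply, map_smul, smul_smul,
          ← pow_succ']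
    have hTu : σF g u = (c * c * r ^ (d - 1 - q)) • u := by
      ext i j
      rw [hent, Matrix.smul_apply, smul_eq_mul]
      by_cases h0 : u i j = 0
      · rw [h0, mul_zero, mul_zero]
      rw [hu, Matrix.mul_apply] at h0
      obtain ⟨l, -, hl⟩ := Finset.exists_ne_zero_of_sum_ne_zero h0
      have h1 := hasShift_F_pow (k := k) (d := d) q i l (left_ne_zero_of_mul hl)
      have h2 := right_ne_zero_of_mul hl
      simp only [S, shS, Matrix.of_apply, ne_eq, ite_eq_right_iff, not_forall] at h2
      obtain ⟨h2, -⟩ := h2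
      rw [show (i : ℕ) + j = d - 1 - q by omega]
    have hφT : ∀ X, φ (σF g X) = (c * c * r ^ (d - 1 + q)) * φ X := by
      intro X
      rw [hφapp, hφapp, Matrix.trace, Matrix.trace, Finset.mul_sum]
      refine Finset.sum_congr rfl fun i _ => ?_
      simp only [Matrix.diag_apply, Matrix.mul_apply, Finset.sum_mul, Finset.mul_sum]
      refine Finset.sum_congr rfl fun l _ => Finset.sum_congr rfl fun j _ => ?_
      rw [hent]
      by_cases h0 : X i j * S j l * F l i = 0
      · linear_combination (c * c * r ^ ((i : ℕ) + j) - c * c * r ^ (d - 1 + q)) * h0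
      have h1 := hasShift_F_pow (k := k) (d := d) q l i (right_ne_zero_of_mul h0)
      have h2 := right_ne_zero_of_mul (left_ne_zero_of_mul h0)
      simp only [S, shS, Matrix.of_apply, ne_eq, ite_eq_right_iff, not_forall] at h2
      obtain ⟨h2, -⟩ := h2
      rw [show (i : ℕ) + j = d - 1 + q by omega]
      ring
    refine LinearMap.ext fun X => ?_
    rw [Module.End.mul_apply, Module.End.mul_apply, hπapp, hπapp, map_sum]
    refine Finset.sum_congr rfl fun i hi => ?_
    have hi' := Finset.mem_range.1 hi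
    rw [map_smul, hTDn, hTu, map_smul, smul_smul, smul_smul]
    congr 1
    have h3 := congrArg φ (hTDn (2 * q - i) X)
    rw [hφT, map_smul, smul_eq_mul] at h3
    refine mul_left_cancel₀ (pow_ne_zero (2 * q - i) hr) ?_
    rw [show d - 1 + q = (2 * q - i) + (i + (d - 1 - q)) by omega, pow_add, pow_add] at h3
    linear_combination (-c0⁻¹) * h3
  -- restriction to the skew matrices
  have hinv : ∀ g, ∀ X ∈ skew k d, σF g X ∈ skew k d := fun g X hX => conj_mem_skew (A g) hX
  let σ : Representation k G (skew k d) :=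
    { toFun := fun g => (σF g).restrict (hinv g)
      map_one' := by ext X; simp
      map_mul' := fun g h => by ext X; simp }
  set π' : Module.End k (skew k d) := π.restrict (fun X _ => hπskew X)
  have hidem : IsIdempotentElem π' := by
    refine LinearMap.ext fun X => Subtype.ext ?_
    show π (π X) = π X
    rw [hπapp (X : Matrix (Fin d) (Fin d) k), map_sum]
    refine Finset.sum_congr rfl fun i hi => ?_
    rw [map_smul, hπu i (Finset.mem_range.1 hi)]
  have hπN : ∀ n ∈ nrm x, Commute π' (σ n) := by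
    intro n hn
    obtain ⟨i, c, r, -, hr, hA⟩ := hN n hn
    have h1 := hdiag c r hr _ hA
    have hxi : Commute π (σF (x ^ i)⁻¹) := by
      have h5 : Commute π (σF (x ^ i)) := by rw [map_pow]; exact hπx.pow_right i
      have h6 : σF (x ^ i) * σF (x ^ i)⁻¹ = 1 := by rw [← map_mul, mul_inv_cancel, map_one]
      have h7 : σF (x ^ i)⁻¹ * σF (x ^ i) = 1 := by rw [← map_mul, inv_mul_cancel, map_one]
      show π * σF (x ^ i)⁻¹ = σF (x ^ i)⁻¹ * π
      calc π * σF (x ^ i)⁻¹ = σF (x ^ i)⁻¹ * σF (x ^ i) * π * σF (x ^ i)⁻¹ := by rw [h7, one_mul]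
        _ = σF (x ^ i)⁻¹ * π * (σF (x ^ i) * σF (x ^ i)⁻¹) := by
            rw [mul_assoc (σF (x ^ i)⁻¹) (σF (x ^ i)), ← h5.eq]
            simp only [mul_assoc]
        _ = _ := by rw [h6, mul_one]
    have hnF : Commute π (σF n) := by
      rw [show n = n * x ^ i * (x ^ i)⁻¹ by group, map_mul]
      exact h1.mul_right hxi
    exact LinearMap.ext fun X => Subtype.ext (LinearMap.congr_fun hnF.eq (X : Matrix (Fin d) (Fin d) k))
  have hDskew : ∀ (n : ℕ) (X : skew k d), (((σ x - 1) ^ n) X : Matrix (Fin d) (Fin d) k) =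
      ((σF x - 1) ^ n) X := by
    intro n
    induction n with
    | zero => intro X; simp
    | succ n ih =>
      intro X
      rw [pow_succ, Module.End.mul_apply, ih, pow_succ, Module.End.mul_apply]
      rfl
  obtain ⟨Q₀, hQ₀⟩ := exists_texp_eq (k := k) (p := p)
  have hxD : σF x - 1 = (1 + D * Polynomial.aeval D Q₀) * D := by
    rw [hσFx, hQ₀ _ D, add_mul, one_mul, mul_assoc]
    have hc : Polynomial.aeval D Q₀ * D = D * Polynomial.aeval D Q₀ := by
      have h := ((Commute.all Q₀ Polynomial.X).map (Polynomial.aeval (R := k) D))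
      rw [Polynomial.aeval_X] at h
      exact h.eq
    rw [hc, ← mul_assoc, ← pow_two]
    abel
  have hD' : (σ x - 1) ^ (p - 1) = 0 := by
    refine LinearMap.ext fun X => Subtype.ext ?_
    rw [hDskew, hxD, show p - 1 = 2 * (d - 1) by omega]
    have hc : Commute (1 + D * Polynomial.aeval D Q₀) D := by
      have h := ((Commute.all Q₀ Polynomial.X).map (Polynomial.aeval (R := k) D))
      rw [Polynomial.aeval_X] at h
      exact (Commute.one_left D).add_left ((Commute.refl D).mul_left h)
    rw [hc.mul_pow, Module.End.mul_apply, hD, sylv_pow_top (by omega) h2k X.2, map_zero]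
    rfl
  have hxu : σ x ⟨u, huskew⟩ ≠ ⟨u, huskew⟩ := by
    intro h
    have h1 : σF x u = u := congrArg Subtype.val h
    have h2 : (σF x - 1) u = 0 := by rw [LinearMap.sub_apply, h1, Module.End.one_apply, sub_self]
    rw [hσFx, hQ₀ _ D, add_assoc, add_sub_cancel_left, LinearMap.add_apply] at h2
    have h3 := congrArg (fun Y => φ ((D ^ (2 * q - 1)) Y)) h2
    simp only [map_add, map_zero] at h3
    rw [← Module.End.mul_apply, ← pow_succ, Nat.sub_add_cancel (by omega), ← hc0,
      ← Module.End.mul_apply (D ^ (2 * q - 1)), ← mul_assoc, ← pow_add,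
      show 2 * q - 1 + 2 = m by omega, Module.End.mul_apply, hφD, add_zero] at h3
    exact hc0ne h3
  obtain ⟨n, τ, hn, hτ⟩ := exists_rep_range σ hxo hsq hD' π' hidem hπN (u := ⟨u, huskew⟩)
    (Subtype.ext (by
      show π u = u
      simpa using hπu 0 (by omega))) hxu
  refine ⟨n, τ, hn.trans ?_, hτ⟩
  set s : Finset (skew k d) :=
    (Finset.range m).image fun i => ⟨(D ^ i) u, sylv_pow_mem_skew i huskew⟩ with hs
  have hle : LinearMap.range π' ≤ Submodule.span k (s : Set (skew k d)) := by
    rintro _ ⟨X, rfl⟩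
    have : π' X = ∑ i ∈ Finset.range m, (c0⁻¹ * φ ((D ^ (2 * q - i)) X)) •
        (⟨(D ^ i) u, sylv_pow_mem_skew i huskew⟩ : skew k d) := by
      refine Subtype.ext ?_
      rw [Submodule.coe_sum]
      exact hπapp X
    rw [this]
    exact Submodule.sum_mem _ fun i hi => Submodule.smul_mem _ _
      (Submodule.subset_span (Finset.mem_image_of_mem _ hi))
  refine ((Submodule.finrank_mono hle).trans (finrank_span_finset_le_card s)).trans ?_
  refine (Finset.card_image_le).trans ?_
  rw [Finset.card_range]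
  omega

end Skew

/-- The orthogonal representation in dimension `(p + 1) / 2`. -/
theorem exists_three_dim_upper {V : Type*} [AddCommGroup V] [Module k V] [FiniteDimensional k V]
    {G : Type*} [Group G] [Finite G] (ρ : Representation k G V) {p : ℕ} [hp : Fact p.Prime]
    [CharP k p] {x : G} (hxo : orderOf x = p) (hsq : ¬ p ^ 2 ∣ Nat.card G)
    (hdim : 2 * Module.finrank k V = p + 1) (hp11 : 11 ≤ p) (hx1 : ρ x ≠ 1) :
    ∃ ψ : G →* Matrix (Fin 3) (Fin 3) k, (∀ g, (ψ g)ᵀ * HalfPSL.gram * ψ g = HalfPSL.gram) ∧ ψ x = regUnip ∧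
      (∀ v, Commute v x → ¬ p ∣ orderOf v → ψ v = 1) := by
  by_cases hA : (ρ x - 1) ^ (Module.finrank k V - 1) = 0
  · exact exists_three_dim_of_pow ρ hxo hsq (by omega) (by omega) hA hx1
  obtain ⟨A, -, hAx, hN⟩ := exists_frame ρ hxo hsq rfl (by omega) (by omega) hA
  obtain ⟨m, τ, hm, hτ⟩ := exists_small_rep A hxo hsq hdim hp11 hAx hN
  exact exists_three_dim τ hxo hsq (by rw [Module.finrank_fin_fun]; omega) hτ

end CfsgLib.SmallDegree
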