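import Cfsg.Agent.Lib.SmallDegree.Core
import Cfsg.Agent.Lib.SmallDegree.Moments
import Cfsg.Agent.Lib.SmallDegree.Summand
import Cfsg.Agent.Lib.LinSmall.Local
import Cfsg.Agent.S4503

/-!
# Faithful characters of small degree: assembly
-/

set_option autoImplicit false
set_option linter.unusedSectionVars false
set_option linter.style.haveILetI false

noncomputable section

namespace CfsgLib.SmallDegree

open Cfsg CfsgLib.Characters CfsgLib.PrimeDefect CfsgLib.SelfCentralPrime
open CfsgLib.LinSmall CfsgLib.LinSmall.CData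

universe u

variable {G : Type u} [Group G] [Finite G] {p : ℕ} [hp : Fact p.Prime] {x : G}

/-- The classes of elements of order `p` correspond to the classes of residues. -/
theorem card_classes (D : Data p x (Subgroup.centralizer ({x} : Set G)) (Subgroup.center G)) :
    Nat.card {c : ConjClasses G // ∃ g : G, ConjClasses.mk g = c ∧ orderOf g = p} =
      Nat.card (Q D.muHom.range) := by
  haveI := Fintype.ofFinite G
  haveI := Fintype.ofFinite (Subgroup.centralizer ({x} : Set G))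
  haveI := Fintype.ofFinite (Subgroup.center G)
  symm
  let f : Q D.muHom.range → {c : ConjClasses G // ∃ g : G, ConjClasses.mk g = c ∧ orderOf g = p} :=
    fun q => ⟨ConjClasses.mk (pw x ((q.out : (ZMod p)ˣ) : ZMod p)), _, rfl,
      D.orderOf_pw (Units.ne_zero _)⟩
  have hconj : ∀ u v : (ZMod p)ˣ, (u : Q D.muHom.range) = v ↔
      IsConj (pw x (u : ZMod p)) (pw x (v : ZMod p)) := by
    intro u v
    rw [QuotientGroup.eq, mem_range_iff D, isConj_iff]
    refine exists_congr fun g => ⟨fun h => ?_, fun h => ?_⟩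
    · have h2 : g * pw x (u : ZMod p) * g⁻¹ = (g * x * g⁻¹) ^ (u : ZMod p).val := conj_pow.symm
      rw [h2, h, pw_pow_val D.hx]
      congr 1
      rw [Units.val_mul, mul_comm ((u⁻¹ : (ZMod p)ˣ) : ZMod p), mul_assoc, Units.inv_mul, mul_one]
    · set i : ZMod p := ((u⁻¹ : (ZMod p)ˣ) : ZMod p)
      have h1 : pw x (u : ZMod p) ^ i.val = x := by
        rw [pw_pow_val D.hx, Units.mul_inv, pw_one]
      rw [← h1, ← conj_pow, h, pw_pow_val D.hx, h1, Units.val_mul, mul_comm]
  refine Nat.card_congr (Equiv.ofBijective f ⟨fun a b h => ?_, ?_⟩)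
  · have h' := (hconj _ _).2 (ConjClasses.mk_eq_mk_iff_isConj.1 (congrArg Subtype.val h))
    rwa [QuotientGroup.out_eq', QuotientGroup.out_eq'] at h'
  · rintro ⟨c, g, rfl, hg⟩
    obtain ⟨i, hi, hc⟩ : ∃ i : ZMod p, i ≠ 0 ∧ IsConj (pw x i) g := by
      have hpg : ∀ w : G, orderOf w = p → IsPGroup p (Subgroup.zpowers w) := fun w hw =>
        IsPGroup.of_card (n := 1) (by rw [Nat.card_zpowers, hw, pow_one])
      have hmax : ∀ w : G, orderOf w = p → ∀ P : Sylow p G, Subgroup.zpowers w ≤ P →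
          Subgroup.zpowers w = P := by
        intro w hw P hP
        refine Subgroup.eq_of_le_of_card_ge hP ?_
        rw [Sylow.card_eq_multiplicity, Nat.card_zpowers, hw, D.factorization_card_eq, pow_one]
      obtain ⟨P, hP⟩ := (hpg x D.hx).exists_le_sylow
      obtain ⟨R, hR⟩ := (hpg g hg).exists_le_sylow
      obtain ⟨a, ha⟩ := MulAction.exists_smul_eq G P R
      have h1 : (Subgroup.zpowers x).map (MulAut.conj a).toMonoidHom = Subgroup.zpowers g := by
        rw [hmax x D.hx P hP, hmax g hg R hR, ← ha]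
        rfl
      obtain ⟨w, hw, hwg⟩ : g ∈ (Subgroup.zpowers x).map (MulAut.conj a).toMonoidHom := by
        rw [h1]; exact Subgroup.mem_zpowers g
      obtain ⟨n, hn⟩ := (mem_powers_iff_mem_zpowers (x := x)).2 hw
      have hn' : pw x (n : ZMod p) = w := (pow_eq_pw D.hx n).symm.trans hn
      have hwg' : a * w * a⁻¹ = g := hwg
      refine ⟨n, fun h0 => ?_, isConj_iff.2 ⟨a, by rw [hn', hwg']⟩⟩
      rw [h0, D.pw_zero] at hn'
      rw [← hn', mul_one, mul_inv_cancel] at hwg'
      rw [← hwg', orderOf_one] at hg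
      exact hp.out.ne_one hg.symm
    refine ⟨((Units.mk0 i hi : (ZMod p)ˣ) : Q D.muHom.range), Subtype.ext ?_⟩
    refine ConjClasses.mk_eq_mk_iff_isConj.2 (IsConj.trans ?_ hc)
    exact (hconj _ (Units.mk0 i hi)).1 (QuotientGroup.out_eq' _)

/-- The dichotomy for the degree of a faithful irreducible character. -/
theorem dichotomy (hx : orderOf x = p) (hsq : ¬ p ^ 2 ∣ Nat.card G)
    (hnn : ∀ H : Subgroup G, H.Normal → Nat.card H ≠ p) (χ : IrrCharacter G)
    (hfaith : ∀ g : G, (χ : G → ℂ) g = (χ : G → ℂ) 1 → g = 1) (hp7 : 7 < p) {t : ℕ}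
    (ht : Nat.card {c : ConjClasses G // ∃ g : G, ConjClasses.mk g = c ∧ orderOf g = p} = t) :
    p ≤ charDegree (χ : G → ℂ) + 1 ∨
    (Nonempty ((G ⧸ Subgroup.center G) ≃*
        Matrix.ProjectiveSpecialLinearGroup (Fin 2) (ZMod p)) ∧
      (2 * charDegree (χ : G → ℂ) = p + 1 ∨ 2 * charDegree (χ : G → ℂ) = p - 1) ∧ t = 2) ∨
    ∃ e, charDegree (χ : G → ℂ) + e = p ∧ p = e * t + 1 ∧
      (e = 2 ∨ ¬ Odd (Nat.card (Subgroup.center G))) ∧
      e + 3 ≤ t := by
  classical
  haveI := Fintype.ofFinite G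
  have h11 : 11 ≤ p := by
    rcases Nat.lt_or_ge p 11 with h | h
    · exfalso
      have hpr := hp.out
      interval_cases p <;> revert hpr <;> norm_num
    · exact h
  rcases Nat.lt_or_ge (charDegree (χ : G → ℂ) + 1) p with hlt | hge
  swap
  · exact Or.inl hge
  obtain ⟨D, e, hcard, he2, h2e, -, xl, -, hxl, hdc⟩ := local_structure hx hsq hnn χ hfaith hlt
  set d := charDegree (χ : G → ℂ) with hd
  have hQ : Nat.card (Q D.muHom.range) = t := (card_classes D).symm.trans ht
  have hpet : p - 1 = t * e := by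
    rw [← hQ, ← hcard, ← D.card_units]
    exact Subgroup.card_eq_card_quotient_mul_card_subgroup D.muHom.range
  have hp0 : 1 ≤ p := hp.out.pos
  have hp1 : p = e * t + 1 := by rw [mul_comm]; omega
  have ht0 : t ≠ 0 := by rintro rfl; simp at hp1; omega
  have ht1 : t ≠ 1 := by rintro rfl; omega
  rcases hdc with ⟨hde, -⟩ | ⟨hde, hxl0⟩
  · -- degree `e`
    have h3 := Cfsg.Agent.S4503.result p hp.out (hx ▸ orderOf_dvd_natCard x) hsq hnn (χ : G → ℂ)
      (irr_isCharacter χ) hfaith
    rw [← hd] at h3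
    have hdeg : 2 * d + 1 = p := by omega
    refine Or.inr (Or.inl ⟨HalfPSL.psl_of_half hx hsq hnn _ (irr_isCharacter χ) hfaith hdeg
      (by omega), Or.inr (by omega), ?_⟩)
    have : e * t = e * 2 := by omega
    exact Nat.eq_of_mul_eq_mul_left (by omega) this
  rcases Nat.lt_or_ge t 3 with ht3 | ht3
  · -- two classes
    obtain rfl : t = 2 := by omega
    obtain ⟨kk, _, _, ρk, hx1, -⟩ :=
      HalfPSL.exists_reduction hx hsq hnn _ (irr_isCharacter χ) hfaith
    obtain ⟨ψ, hiso, hψx, hψV⟩ := exists_three_dim_upper (k := kk) ρk hx hsq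
      (by rw [Module.finrank_fin_fun]; omega) h11 hx1
    exact Or.inr (Or.inl ⟨HalfPSL.psl_core hx hsq hnn _ (irr_isCharacter χ) hfaith hlt (by omega)
      (HalfPSL.isIrr_res_of_irr hx hsq hnn χ hfaith hlt) ψ hiso hψx hψV, Or.inl (by omega), rfl⟩)
  refine Or.inr (Or.inr ⟨e, hde, hp1, ?_⟩)
  rcases Nat.lt_or_ge e 3 with he3 | he3
  · obtain rfl : e = 2 := by omega
    exact ⟨Or.inl rfl, by omega⟩
  haveI := Fintype.ofFinite (nrm x)
  have hxm0 : xm D χ 0 = 1 := by
    have h1 := four_irr D χ 0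
    rw [four, ← hxl 0, hxl0] at h1
    exact_mod_cast (mul_left_cancel₀ (Nat.cast_ne_zero.2 hp.out.ne_zero) h1).symm
  obtain ⟨hodd, hcase⟩ := core hnn χ hfaith hlt (by rw [hcard]; exact hde) hxm0
    (hQ.symm ▸ ht3) (hcard.symm ▸ he3)
  rcases hcase with hlt' | ⟨k, s, h1, h2, -, -, h5, hall⟩
  · exact ⟨Or.inr hodd, by rwa [hcard, hQ] at hlt'⟩
  · have := le_of_all_ge D.muHom.range h1 (by omega) hall
    omega

end CfsgLib.SmallDegree
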