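import Cfsg.Agent.Lib.LinSmall.CLoc
import Cfsg.Agent.Lib.SmallDegree.Cyclotomic
import Cfsg.Agent.Lib.Characters.Ito
import Cfsg.Agent.Lib.HalfPSL.Basic

/-!
# The multiplicities of the linear characters of the normaliser
-/

set_option autoImplicit false
set_option linter.unusedSectionVars false
set_option linter.style.haveILetI false

noncomputable section

namespace CfsgLib.SmallDegree

open Cfsg CfsgLib.Characters CfsgLib.PrimeDefect CfsgLib.SelfCentralPrime
open CfsgLib.LinSmall CfsgLib.LinSmall.CData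
open CfsgLib.PSubTwo.Loc (Over exists_over over_unique)
open scoped ComplexConjugate Classical

universe u

variable {G : Type u} [Group G] [Fintype G]

/-- The function is multiplied by `ω` under the centre. -/
def OverZ (ψ : G → ℂ) (ω : Subgroup.center G →* ℂˣ) : Prop :=
  ∀ (g : G) (z : Subgroup.center G), ψ (g * z) = ψ g * (ω z : ℂ)

/-- A linear character of the centre as an irreducible character. -/
def ofHom (ω : Subgroup.center G →* ℂˣ) : IrrCharacter (Subgroup.center G) :=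
  ⟨fun z => (ω z : ℂ), isIrrCharacter_of_hom ω⟩

theorem conj_unit {H : Type*} [Group H] [Finite H] (f : H →* ℂˣ) (h : H) :
    conj (f h : ℂ) = ((f h)⁻¹ : ℂˣ) := by
  have h1 : ‖(f h : ℂ)‖ = 1 := Complex.norm_eq_one_of_pow_eq_one (n := Nat.card H)
    (by rw [← Units.val_pow_eq_pow_val, ← map_pow, pow_card_eq_one', map_one, Units.val_one])
    Nat.card_pos.ne'
  rw [Units.val_inv_eq_inv_val, Complex.inv_eq_conj h1]

theorem exists_overZ (χ : IrrCharacter G) :
    ∃ ω : Subgroup.center G →* ℂˣ, OverZ (χ : G → ℂ) ω := by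
  obtain ⟨μ, hμ, h1⟩ := exists_over χ
  obtain ⟨f, hf⟩ := LinearTwist.exists_hom_of_charDegree_one (irr_isCharacter μ)
    (by rw [charDegree, h1]; norm_num)
  exact ⟨f, fun g z => by rw [hμ g z, hf]⟩

theorem over_of_overZ {χ : IrrCharacter G} {ω : Subgroup.center G →* ℂˣ}
    (h : OverZ (χ : G → ℂ) ω) : Over χ (ofHom ω) := h

/-- A constituent lies over the same character of the centre. -/
theorem overZ_of_inner {ψ : G → ℂ} {ω : Subgroup.center G →* ℂˣ} (hψ : OverZ ψ ω)
    {χ : IrrCharacter G} (h : classInner ψ (χ : G → ℂ) ≠ 0) : OverZ (χ : G → ℂ) ω := by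
  obtain ⟨ν, hν⟩ := exists_overZ χ
  suffices hh : ν = ω by rwa [hh] at hν
  refine MonoidHom.ext fun z => ?_
  have h1 : classInner ψ (χ : G → ℂ) =
      classInner ψ (χ : G → ℂ) * ((ω z * (ν z)⁻¹ : ℂˣ) : ℂ) := by
    simp only [classInner, mul_assoc, Finset.sum_mul]
    congr 1
    rw [← Equiv.sum_comp (Equiv.mulRight (z : G))]
    refine Finset.sum_congr rfl fun g _ => ?_
    simp only [Equiv.coe_mulRight, hψ g z, hν g z, map_mul, conj_unit ν z, Units.val_mul]
    ring
  have h2 : ω z * (ν z)⁻¹ = 1 := Units.ext ((mul_eq_left₀ h).1 h1.symm)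
  exact (mul_inv_eq_one.1 h2).symm

section

variable {p : ℕ} [hp : Fact p.Prime] {x : G}
variable (D : Data p x (Subgroup.centralizer ({x} : Set G)) (Subgroup.center G))

/-- The Fourier sum at the powers of `x`: `p` times the multiplicity of an eigenvalue. -/
def four (x : G) (ψ : G → ℂ) (a : ZMod p) : ℂ :=
  ∑ i : ZMod p, ψ (pw x i) * ZMod.stdAddChar (i * -a)

variable [Fintype (nrm x)]

/-- The multiplicity of a linear character of the normaliser. -/
def fN (ψ : G → ℂ) (φ : nrm x →* ℂˣ) : ℂ :=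
  classInner (fun n : nrm x => ψ n) (fun n : nrm x => (φ n : ℂ))

theorem fN_nat {ψ : G → ℂ} (hψ : IsCharacter G ψ) (φ : nrm x →* ℂˣ) :
    ∃ n : ℕ, fN ψ φ = n :=
  classInner_char_nat (NormalRes.isCharacter_res (nrm x) hψ)
    (isCharacter_of_irr (isIrrCharacter_of_hom φ))

include D

/-- A power of `x` in the normaliser. -/
def pn (a : ZMod p) : nrm x := ⟨pw x a, D.C_le (D.pw_mem a)⟩

/-- A central element in the normaliser. -/
def zn (z : Subgroup.center G) : nrm x := ⟨z, D.C_le (D.V_le z.2)⟩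

/-- The character is trivial at the powers of `x`. -/
def TrivP (φ : nrm x →* ℂˣ) : Prop := ∀ a : ZMod p, φ (pn D a) = 1

/-- The character agrees with `ω` on the centre. -/
def OnZ (φ : nrm x →* ℂˣ) (ω : Subgroup.center G →* ℂˣ) : Prop :=
  ∀ z, φ (zn D z) = ω z

/-- The elements of the normaliser outside the centraliser. -/
def out : Finset (nrm x) := Finset.univ.filter fun n => D.mu n ≠ 1

theorem exists_pn_zn {n : nrm x} (h : D.mu n = 1) :
    ∃ a z, n = pn D a * zn D z := by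
  have hC := (D.mu_eq_one_iff n).1 h
  exact ⟨D.idx ⟨n, hC⟩, D.part ⟨n, hC⟩, Subtype.ext (D.part_spec ⟨n, hC⟩)⟩

theorem mu_pn_zn (a : ZMod p) (z : Subgroup.center G) : D.mu (pn D a * zn D z) = 1 :=
  (D.mu_eq_one_iff _).2 ((Subgroup.centralizer ({x} : Set G)).mul_mem (D.pw_mem a) (D.V_le z.2))

/-- A class function is constant on `P n` for `n` outside the centraliser. -/
theorem apply_pn_mul {ψ : G → ℂ} (hψ : IsClassFunction G ψ) {n : nrm x} (hn : D.mu n ≠ 1)
    (a : ZMod p) : ψ ((pn D a * n : nrm x) : G) = ψ n := by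
  have hne : (1 : ZMod p) - (D.mu n : ZMod p) ≠ 0 :=
    sub_ne_zero.2 fun h => hn (Units.ext h.symm)
  set b : ZMod p := a * (1 - (D.mu n : ZMod p))⁻¹
  have hab : b + -((D.mu n : ZMod p) * b) = a := by
    simp only [b]; field_simp; ring
  have key : pw x b * (n : G) * (pw x b)⁻¹ = pw x a * (n : G) := by
    have h1 := D.conj_pw n (-b)
    rw [D.pw_neg] at h1
    rw [← hab, D.pw_add, show -((D.mu n : ZMod p) * b) = (D.mu n : ZMod p) * -b by ring, ← h1]
    group
  rw [Subgroup.coe_mul, show ((pn D a : nrm x) : G) = pw x a from rfl, ← key]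
  exact hψ _ _

theorem sum_split {R : Type*} [AddCommMonoid R] (f : nrm x → R) :
    ∑ n, f n = ∑ a : ZMod p, ∑ z : Subgroup.center G, f (pn D a * zn D z) +
      ∑ n ∈ out D, f n := by
  rw [← Finset.sum_filter_add_sum_filter_not Finset.univ (fun n => D.mu n = 1) f]
  congr 1
  rw [← Fintype.sum_prod_type']
  symm
  refine Finset.sum_bij (fun v _ => pn D v.1 * zn D v.2) (fun v _ => ?_) ?_ ?_ (fun _ _ => rfl)
  · exact Finset.mem_filter.2 ⟨Finset.mem_univ _, mu_pn_zn D v.1 v.2⟩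
  · intro v _ w _ h
    have e : pw x v.1 * (v.2 : G) = pw x w.1 * (w.2 : G) := congrArg Subtype.val h
    have := D.equivC.injective (a₁ := v) (a₂ := w) (Subtype.ext e)
    exact this
  · intro n hn
    obtain ⟨a, z, rfl⟩ := exists_pn_zn D (Finset.mem_filter.1 hn).2
    exact ⟨(a, z), Finset.mem_univ _, rfl⟩

theorem card_fibre (u : D.muHom.range) :
    (Finset.univ.filter fun n : nrm x => D.mu n = (u : (ZMod p)ˣ)).card =
      p * Nat.card (Subgroup.center G) := by
  obtain ⟨m, hm⟩ := u.2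
  change D.mu m = u at hm
  have h1 : (Finset.univ.filter fun n : nrm x => D.mu n = 1).card =
      p * Nat.card (Subgroup.center G) := by
    have h := sum_split D (fun n => if D.mu n = 1 then (1 : ℕ) else 0)
    rw [Finset.sum_boole, Nat.cast_id, Finset.sum_eq_zero (s := out D) fun n hn =>
      if_neg (Finset.mem_filter.1 hn).2, add_zero] at h
    rw [h, Finset.sum_congr rfl fun a _ => Finset.sum_congr rfl fun z _ =>
      if_pos (mu_pn_zn D a z)]
    simp [Nat.card_eq_fintype_card]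
  rw [← h1]
  refine Finset.card_nbij' (fun n => m⁻¹ * n) (fun n => m * n) ?_ ?_
    (fun n _ => mul_inv_cancel_left m n) (fun n _ => inv_mul_cancel_left m n)
  · intro n hn
    simp only [Finset.mem_coe, Finset.mem_filter, Finset.mem_univ, true_and] at hn ⊢
    show D.muHom (m⁻¹ * n) = 1
    rw [map_mul, map_inv]
    show (D.mu m)⁻¹ * D.mu n = 1
    rw [hm, hn, inv_mul_cancel]
  · intro n hn
    simp only [Finset.mem_coe, Finset.mem_filter, Finset.mem_univ, true_and] at hn ⊢
    rw [D.mu_mul, hm, hn, mul_one]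

theorem sum_by_mu {R : Type*} [AddCommMonoid R] (f : nrm x → R) :
    ∑ n, f n = ∑ u : D.muHom.range, ∑ n ∈ Finset.univ.filter (fun n : nrm x => D.mu n = u), f n := by
  rw [← Finset.sum_fiberwise Finset.univ
    (fun n : nrm x => (⟨D.mu n, n, rfl⟩ : D.muHom.range)) f]
  refine Finset.sum_congr rfl fun u _ => ?_
  congr 1
  ext n
  simp [Subtype.ext_iff]

theorem card_nrm : Nat.card (nrm x) =
    Nat.card D.muHom.range * (p * Nat.card (Subgroup.center G)) := by
  rw [Nat.card_eq_fintype_card, ← Finset.card_univ, Finset.card_eq_sum_ones, sum_by_mu D]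
  simp only [card_fibre D, mul_one, Finset.sum_const, Finset.card_univ,
    smul_eq_mul, Nat.card_eq_fintype_card]

theorem fN_eq {ψ : G → ℂ} {ω : Subgroup.center G →* ℂˣ} (hψ : OverZ ψ ω) {φ : nrm x →* ℂˣ}
    (hP : TrivP D φ) (hZ : OnZ D φ ω) :
    (Nat.card D.muHom.range : ℂ) * p * fN ψ φ = four x ψ (0 : ZMod p) +
      (Nat.card (Subgroup.center G) : ℂ)⁻¹ * ∑ n ∈ out D, ψ n * conj (φ n : ℂ) := by
  have h1 : ∑ a : ZMod p, ∑ z : Subgroup.center G,
      ψ ((pn D a * zn D z : nrm x) : G) * conj (φ (pn D a * zn D z) : ℂ) =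
      (Nat.card (Subgroup.center G) : ℂ) * four x ψ (0 : ZMod p) := by
    rw [four, Finset.mul_sum]
    refine Finset.sum_congr rfl fun a _ => ?_
    rw [Finset.sum_congr rfl (g := fun _ => ψ (pw x a)) fun z _ => ?_, Finset.sum_const,
      Finset.card_univ, nsmul_eq_mul, neg_zero, mul_zero, AddChar.map_zero_eq_one, mul_one,
      Nat.card_eq_fintype_card]
    rw [map_mul, hP a, one_mul, hZ z, conj_unit, Subgroup.coe_mul,
      show ((pn D a : nrm x) : G) = pw x a from rfl, show ((zn D z : nrm x) : G) = z from rfl,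
      hψ, mul_assoc, ← Units.val_mul, mul_inv_cancel, Units.val_one, mul_one]
  rw [fN, classInner, sum_split D, h1, card_nrm D]
  push_cast
  have he : (Nat.card D.muHom.range : ℂ) ≠ 0 := Nat.cast_ne_zero.2 Nat.card_pos.ne'
  have hz : (Nat.card (Subgroup.center G) : ℂ) ≠ 0 := Nat.cast_ne_zero.2 Nat.card_pos.ne'
  have hpc : (p : ℂ) ≠ 0 := Nat.cast_ne_zero.2 hp.out.ne_zero
  field_simp

theorem eq_one_of_center {φ : nrm x →* ℂˣ} (hP : TrivP D φ) (hZ : ∀ z, φ (zn D z) = 1)
    {n : nrm x} (hn : D.mu n = 1) : φ n = 1 := by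
  obtain ⟨a, z, rfl⟩ := exists_pn_zn D hn
  rw [map_mul, hP a, hZ z, one_mul]

theorem sum_out_hom {φ : nrm x →* ℂˣ} (hP : TrivP D φ) (hZ : ∀ z, φ (zn D z) = 1) :
    (Nat.card (Subgroup.center G) : ℂ)⁻¹ * ∑ n ∈ out D, (φ n : ℂ) =
      (p : ℂ) * ((Nat.card D.muHom.range : ℂ) * (if φ = 1 then 1 else 0) - 1) := by
  have hz : (Nat.card (Subgroup.center G) : ℂ) ≠ 0 := Nat.cast_ne_zero.2 Nat.card_pos.ne'
  have h1 := sum_split D (fun n => (φ n : ℂ))
  have h2 : ∑ a : ZMod p, ∑ z : Subgroup.center G, (φ (pn D a * zn D z) : ℂ) =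
      (p : ℂ) * Nat.card (Subgroup.center G) := by
    simp [hP _, hZ, Nat.card_eq_fintype_card]
  have h3 : ∑ n : nrm x, (φ n : ℂ) = if φ = 1 then (Nat.card (nrm x) : ℂ) else 0 := by
    split_ifs with h
    · simp [h, Nat.card_eq_fintype_card]
    · obtain ⟨m, hm⟩ : ∃ m, φ m ≠ 1 := by
        by_contra hc; push Not at hc; exact h (MonoidHom.ext hc)
      have e : (φ m : ℂ) * ∑ n : nrm x, (φ n : ℂ) = ∑ n : nrm x, (φ n : ℂ) := by
        rw [Finset.mul_sum]
        refine Fintype.sum_equiv (Equiv.mulLeft m) _ _ fun n => ?_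
        simp [map_mul]
      by_contra hne
      exact hm (Units.ext ((mul_eq_right₀ hne).1 e))
  rw [h2, h3, card_nrm D] at h1
  rw [eq_sub_of_add_eq' h1.symm]
  push_cast
  set_option linter.unnecessarySeqFocus false in
  split_ifs <;> field_simp <;> ring

theorem card_P : Nat.card ((Subgroup.zpowers x).subgroupOf (nrm x)) = p := by
  rw [Nat.card_congr (Subgroup.subgroupOfEquivOfLe
    (show Subgroup.zpowers x ≤ nrm x from Subgroup.le_normalizer)).toEquiv, Nat.card_zpowers, D.hx]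

theorem fN_sub_quot_commute [((Subgroup.zpowers x).subgroupOf (nrm x)).Normal] :
    IsMulCommutative (nrm x ⧸ (Subgroup.zpowers x).subgroupOf (nrm x)) := by
  set P' := (Subgroup.zpowers x).subgroupOf (nrm x)
  obtain ⟨g, hg⟩ := IsCyclic.exists_generator (α := D.muHom.range)
  obtain ⟨m, hm⟩ := g.2
  have key : ∀ n : nrm x, ∃ (k : ℤ) (z : Subgroup.center G),
      (n : nrm x ⧸ P') = (m : nrm x ⧸ P') ^ k * (zn D z : nrm x ⧸ P') := by
    intro n
    obtain ⟨k, hk⟩ := Subgroup.mem_zpowers_iff.1 (hg ⟨D.mu n, n, rfl⟩)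
    have h1 : D.mu ((m ^ k)⁻¹ * n) = 1 := by
      show D.muHom ((m ^ k)⁻¹ * n) = 1
      rw [map_mul, map_inv, map_zpow, hm]
      have := congrArg Subtype.val hk
      rw [SubgroupClass.coe_zpow] at this
      rw [this]
      show (D.mu n)⁻¹ * D.mu n = 1
      rw [inv_mul_cancel]
    obtain ⟨a, z, hz⟩ := exists_pn_zn D h1
    refine ⟨k, z, ?_⟩
    have e : n = m ^ k * (pn D a * zn D z) := by rw [← hz, mul_inv_cancel_left]
    have ha : (pn D a : nrm x ⧸ P') = 1 :=
      (QuotientGroup.eq_one_iff _).2 (Subgroup.mem_subgroupOf.2 (pow_mem (Subgroup.mem_zpowers x) _))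
    rw [e, QuotientGroup.mk_mul, QuotientGroup.mk_mul, ha, one_mul, QuotientGroup.mk_zpow]
  have hcen : ∀ (z : Subgroup.center G) (q : nrm x ⧸ P'),
      Commute (zn D z : nrm x ⧸ P') q := by
    intro z q
    induction q using QuotientGroup.induction_on with | H n => ?_
    have h : zn D z * n = n * zn D z :=
      Subtype.ext (Subgroup.mem_center_iff.1 z.2 (n : G)).symm
    rw [Commute, SemiconjBy, ← QuotientGroup.mk_mul, h, QuotientGroup.mk_mul]
  refine ⟨⟨fun a b => ?_⟩⟩
  induction a using QuotientGroup.induction_on with | H a => ?_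
  induction b using QuotientGroup.induction_on with | H b => ?_
  obtain ⟨k, z, ha⟩ := key a
  obtain ⟨l, w, hb⟩ := key b
  rw [ha, hb]
  exact (((Commute.zpow_zpow_self _ k l).mul_right (hcen w _).symm).mul_left
    ((hcen z _).mul_right (hcen z _))).eq

/-- A character with fixed points of `x` has a linear constituent trivial on `P`, and a single
fixed point gives the values outside the centraliser. -/
theorem exists_lin {ψ : G → ℂ} (hψ : IsCharacter G ψ) {k : ℕ} (hk : 0 < k)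
    (h0 : four x ψ (0 : ZMod p) = (p : ℂ) * k) :
    ∃ φ : nrm x →* ℂˣ, TrivP D φ ∧ fN ψ φ ≠ 0 ∧
      (k = 1 → ∀ n : nrm x, D.mu n ≠ 1 → ψ n = (φ n : ℂ)) := by
  haveI : ((Subgroup.zpowers x).subgroupOf (nrm x)).Normal := by
    rw [nrm]; exact Subgroup.normal_in_normalizer
  set P' := (Subgroup.zpowers x).subgroupOf (nrm x) with hP'
  haveI : Fintype (nrm x ⧸ P') := Fintype.ofFinite _
  haveI := fN_sub_quot_commute D
  have hpn : ∀ a, pn D a ∈ P' := fun a =>
    Subgroup.mem_subgroupOf.2 (pow_mem (Subgroup.mem_zpowers x) _)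
  have hmem : ∀ n : nrm x, n ∈ P' → ∃ a, n = pn D a := by
    intro n hn
    have hn' := Subgroup.mem_subgroupOf.1 hn
    rw [← (orderOf_pos_iff.1 (by rw [D.hx]; exact hp.out.pos)).mem_powers_iff_mem_zpowers] at hn'
    obtain ⟨l, hl⟩ := Submonoid.mem_powers_iff _ _ |>.1 hn'
    exact ⟨(l : ZMod p), Subtype.ext (by rw [← hl, pow_eq_pw D.hx]; rfl)⟩
  have hfib : ∀ n : nrm x, ∑ m ∈ Finset.univ.filter (fun m : nrm x => (m : nrm x ⧸ P') = n),
      ψ (m : G) = ∑ a : ZMod p, ψ ((pn D a * n : nrm x) : G) := by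
    intro n
    symm
    refine Finset.sum_bij (fun a _ => pn D a * n) (fun a _ => ?_) ?_ ?_ (fun _ _ => rfl)
    · refine Finset.mem_filter.2 ⟨Finset.mem_univ _, ?_⟩
      rw [QuotientGroup.mk_mul, (QuotientGroup.eq_one_iff _).2 (hpn a), one_mul]
    · intro a _ b _ h
      exact D.pw_inj (congrArg Subtype.val (mul_right_cancel h))
    · intro m hm
      obtain ⟨a, ha⟩ := hmem (m * n⁻¹) (by
        rw [← QuotientGroup.eq_one_iff, QuotientGroup.mk_mul, QuotientGroup.mk_inv,
          (Finset.mem_filter.1 hm).2, mul_inv_cancel])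
      exact ⟨a, Finset.mem_univ _, by rw [← ha, inv_mul_cancel_right]⟩
  set g : nrm x ⧸ P' → ℂ := fun q =>
    ∑ m ∈ Finset.univ.filter (fun m : nrm x => (m : nrm x ⧸ P') = q), ψ (m : G) with hg
  choose f hf using fun χ : IrrCharacter (nrm x ⧸ P') =>
    LinearTwist.exists_hom_of_charDegree_one (irr_isCharacter χ)
      (LinearTwist.charDegree_eq_of_apply_one (by
        rw [CharIto.degree_one_of_comm χ.2, Nat.cast_one]))
  set φ := fun χ : IrrCharacter (nrm x ⧸ P') => (f χ).comp (QuotientGroup.mk' P') with hφ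
  choose c hc using fun χ => fN_nat (x := x) hψ (φ χ)
  have hP : ∀ χ, TrivP D (φ χ) := fun χ a => by
    show f χ ((pn D a : nrm x) : nrm x ⧸ P') = 1
    rw [(QuotientGroup.eq_one_iff _).2 (hpn a), map_one]
  have hsum : ∀ χ : IrrCharacter (nrm x ⧸ P'), ∑ q, g q * conj ((χ : nrm x ⧸ P' → ℂ) q) =
      (Nat.card (nrm x) : ℂ) * c χ := by
    intro χ
    rw [← hc χ, fN, classInner, mul_inv_cancel_left₀ (Nat.cast_ne_zero.2 Nat.card_pos.ne'),
      ← Finset.sum_fiberwise Finset.univ (fun m : nrm x => (m : nrm x ⧸ P'))]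
    refine Finset.sum_congr rfl fun q _ => ?_
    rw [hg]
    dsimp only
    rw [Finset.sum_mul]
    refine Finset.sum_congr rfl fun m hm => ?_
    rw [(Finset.mem_filter.1 hm).2.symm]
    show _ = _ * conj ((f χ (m : nrm x ⧸ P') : ℂˣ) : ℂ)
    rw [hf χ]
  have hcard : (Nat.card (nrm x) : ℂ) = (p : ℂ) * Nat.card (nrm x ⧸ P') := by
    rw [Subgroup.card_eq_card_quotient_mul_card_subgroup P', hP', card_P D]
    push_cast
    ring
  have hinv : ∀ q, g q = (p : ℂ) * ∑ χ : IrrCharacter (nrm x ⧸ P'),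
      (c χ : ℂ) * (χ : nrm x ⧸ P' → ℂ) q := by
    intro q
    refine mul_left_cancel₀ (Nat.cast_ne_zero.2 (Nat.card_pos (α := nrm x ⧸ P')).ne' :
      (Nat.card (nrm x ⧸ P') : ℂ) ≠ 0) ?_
    rw [← mul_assoc, mul_comm (Nat.card (nrm x ⧸ P') : ℂ) (p : ℂ), ← hcard]
    conv_rhs => rw [Finset.mul_sum]
    have h := Finset.sum_comm (s := (Finset.univ : Finset (IrrCharacter (nrm x ⧸ P'))))
      (t := (Finset.univ : Finset (nrm x ⧸ P')))
      (f := fun χ q' => g q' * ((χ : nrm x ⧸ P' → ℂ) q * conj ((χ : nrm x ⧸ P' → ℂ) q')))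
    rw [Finset.sum_congr rfl fun χ _ => show (Nat.card (nrm x) : ℂ) *
        ((c χ : ℂ) * (χ : nrm x ⧸ P' → ℂ) q) =
      ∑ q', g q' * ((χ : nrm x ⧸ P' → ℂ) q * conj ((χ : nrm x ⧸ P' → ℂ) q')) by
        rw [← mul_assoc, ← hsum, Finset.sum_mul]
        exact Finset.sum_congr rfl fun q' _ => by ring, h]
    simp only [← Finset.mul_sum, column_orth, mul_ite, mul_zero]
    have hconj : ∀ q', IsConj q q' ↔ q = q' := fun q' =>
      ⟨fun h => by
        obtain ⟨w, hw⟩ := isConj_iff.1 h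
        rwa [mul_comm' w q, mul_inv_cancel_right] at hw, fun h => h ▸ IsConj.refl q⟩
    simp only [hconj, Finset.sum_ite_eq, Finset.mem_univ, if_true]
    have hcent : Nat.card (Subgroup.centralizer ({q} : Set (nrm x ⧸ P'))) =
        Nat.card (nrm x ⧸ P') := by
      rw [show Subgroup.centralizer ({q} : Set (nrm x ⧸ P')) = ⊤ from
        eq_top_iff.2 fun w _ => Subgroup.mem_centralizer_singleton_iff.2 (mul_comm' w q),
        Subgroup.card_top]
    rw [hcent, mul_comm]
  have hone : g ((1 : nrm x) : nrm x ⧸ P') = (p : ℂ) * k := by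
    rw [← h0, hg]
    dsimp only
    rw [hfib 1, four]
    exact Finset.sum_congr rfl fun a _ => by
      simp only [neg_zero, mul_zero, AddChar.map_zero_eq_one, mul_one]
      rfl
  have hck : ∑ χ, c χ = k := by
    rw [QuotientGroup.mk_one, hinv 1] at hone
    have h := mul_left_cancel₀ (Nat.cast_ne_zero.2 hp.out.ne_zero) hone
    rw [Finset.sum_congr rfl fun χ _ => by rw [CharIto.degree_one_of_comm χ.2, mul_one]] at h
    exact_mod_cast h
  obtain ⟨χ₀, -, hχ₀⟩ := Finset.exists_ne_zero_of_sum_ne_zero (hck.trans_ne hk.ne')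
  refine ⟨φ χ₀, hP χ₀, by rw [hc]; exact_mod_cast hχ₀, fun hk1 n hn => ?_⟩
  have hsingle : ∀ χ, χ ≠ χ₀ → c χ = 0 := by
    intro χ hne
    have := Finset.add_le_sum (fun χ _ => Nat.zero_le (c χ)) (Finset.mem_univ χ)
      (Finset.mem_univ χ₀) hne
    omega
  have h1 : c χ₀ = 1 := by
    have := Finset.single_le_sum (fun χ _ => Nat.zero_le (c χ)) (Finset.mem_univ χ₀)
    omega
  have h := hinv (n : nrm x ⧸ P')
  rw [Finset.sum_eq_single χ₀ (fun χ _ hne => by rw [hsingle χ hne]; simp)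
    (fun h => absurd (Finset.mem_univ _) h), h1, Nat.cast_one, one_mul, hg] at h
  dsimp only at h
  rw [hfib n, Finset.sum_congr rfl fun a _ =>
    apply_pn_mul D (isClassFunction_of_isCharacter hψ) hn a, Finset.sum_const, Finset.card_univ,
    ZMod.card, nsmul_eq_mul] at h
  rw [mul_left_cancel₀ (Nat.cast_ne_zero.2 hp.out.ne_zero) h, hf χ₀]
  rfl

theorem onZ_of_fN {ψ : G → ℂ} {ω : Subgroup.center G →* ℂˣ} (hψ : OverZ ψ ω)
    {φ : nrm x →* ℂˣ} (h : fN ψ φ ≠ 0) : OnZ D φ ω := by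
  intro z
  have h1 : fN ψ φ = fN ψ φ * ((ω z * (φ (zn D z))⁻¹ : ℂˣ) : ℂ) := by
    simp only [fN, classInner, mul_assoc, Finset.sum_mul]
    congr 1
    rw [← Equiv.sum_comp (Equiv.mulRight (zn D z))]
    refine Finset.sum_congr rfl fun n _ => ?_
    simp only [Equiv.coe_mulRight, Subgroup.coe_mul, show ((zn D z : nrm x) : G) = z from rfl,
      hψ _ z, map_mul, Units.val_mul, conj_unit φ (zn D z)]
    ring
  have h2 : ω z * (φ (zn D z))⁻¹ = 1 := Units.ext ((mul_eq_left₀ h).1 h1.symm)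
  exact (mul_inv_eq_one.1 h2).symm

theorem not_dvd_orderOf_out {n : nrm x} (hn : D.mu n ≠ 1) : ¬ p ∣ orderOf (n : G) := by
  intro hd
  obtain ⟨w, hw, hwo⟩ : ∃ w : G, Commute w (n : G) ∧ w ∈ nrm x ∧ orderOf w = p :=
    ⟨(n : G) ^ (orderOf (n : G) / p), (Commute.refl _).pow_left _, pow_mem n.2 _,
      orderOf_pow_orderOf_div (orderOf_pos _).ne' hd⟩
  haveI : ((Subgroup.zpowers x).subgroupOf (nrm x)).Normal := by
    rw [nrm]; exact Subgroup.normal_in_normalizer
  set P' := (Subgroup.zpowers x).subgroupOf (nrm x)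
  have hsqN : ¬ p ^ 2 ∣ Nat.card (nrm x) :=
    fun h => D.hsq (h.trans (Subgroup.card_subgroup_dvd_card _))
  have hPc : Nat.card P' = p := card_P D
  have hmem : (⟨w, hwo.1⟩ : nrm x) ∈ P' :=
    HalfPSL.mem_of_dvd_normal hsqN P' hPc.symm.dvd
      (Subtype.ext (by
        show w ^ p = 1
        exact orderOf_dvd_iff_pow_eq_one.1 hwo.2.dvd))
  have hz : Subgroup.zpowers w = Subgroup.zpowers x := by
    refine Subgroup.eq_of_le_of_card_ge (Subgroup.zpowers_le.2 (Subgroup.mem_subgroupOf.1 hmem)) ?_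
    rw [Nat.card_zpowers, Nat.card_zpowers, hwo.2, D.hx]
  obtain ⟨k, hk⟩ : ∃ k : ℤ, w ^ k = x :=
    Subgroup.mem_zpowers_iff.1 (hz ▸ Subgroup.mem_zpowers x)
  have hc : Commute (n : G) x := hk ▸ (hw.symm.zpow_right k)
  exact hn ((D.mu_eq_one_iff n).2 (D.mem_C_iff.2 hc))

end

end CfsgLib.SmallDegree
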