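import Mathlib

/-!
# An `sl₂` of matrices and the small summands of the skew matrices under a regular nilpotent
-/

set_option autoImplicit false
set_option linter.unusedSectionVars false

noncomputable section

namespace CfsgLib.SmallDegree

open Matrix

variable {k : Type*} [Field k] {d : ℕ}

/-- The regular nilpotent shift. -/
def shL (k : Type*) [Field k] (d : ℕ) : Matrix (Fin d) (Fin d) k :=
  Matrix.of fun i j => if (i : ℕ) = j + 1 then 1 else 0

/-- The coefficients of the lowering matrix. -/
def gcoef (k : Type*) [Field k] (d : ℕ) (i : ℕ) : k := ((i : k) + 1) * ((d : k) - 1 - (i : k))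

/-- The lowering matrix. -/
def shF (k : Type*) [Field k] (d : ℕ) : Matrix (Fin d) (Fin d) k :=
  Matrix.of fun i j => if (j : ℕ) = i + 1 then gcoef k d i else 0

/-- The semisimple matrix. -/
def shH (k : Type*) [Field k] (d : ℕ) : Matrix (Fin d) (Fin d) k :=
  Matrix.diagonal fun i => 2 * ((i : ℕ) : k) - ((d : k) - 1)

/-- The invariant bilinear form. -/
def shS (k : Type*) [Field k] (d : ℕ) : Matrix (Fin d) (Fin d) k :=
  Matrix.of fun i j => if (i : ℕ) + j + 1 = d then (-1) ^ (i : ℕ) else 0

/-- The entries live on one diagonal. -/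
def HasShift (X : Matrix (Fin d) (Fin d) k) (s : ℤ) : Prop :=
  ∀ i j : Fin d, X i j ≠ 0 → (j : ℤ) - i = s

namespace HasShift

variable {X Y : Matrix (Fin d) (Fin d) k} {s t : ℤ}

theorem mul (hX : HasShift X s) (hY : HasShift Y t) : HasShift (X * Y) (s + t) := by
  intro i j h
  rw [Matrix.mul_apply] at h
  obtain ⟨l, -, hl⟩ := Finset.exists_ne_zero_of_sum_ne_zero h
  have h1 := hX i l (left_ne_zero_of_mul hl)
  have h2 := hY l j (right_ne_zero_of_mul hl)
  omega

theorem sub (hX : HasShift X s) (hY : HasShift Y s) : HasShift (X - Y) s := by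
  intro i j h
  by_cases hx : X i j = 0
  · exact hY i j fun hy => h (by rw [Matrix.sub_apply, hx, hy, sub_zero])
  · exact hX i j hx

theorem trace_eq_zero (hX : HasShift X s) (hs : s ≠ 0) : X.trace = 0 :=
  Finset.sum_eq_zero fun i _ => by
    by_contra h
    exact hs (by have := hX i i h; omega)

end HasShift

theorem hasShift_L : HasShift (shL k d) (-1) := by
  intro i j h
  simp only [shL, Matrix.of_apply, ne_eq, ite_eq_right_iff, one_ne_zero, imp_false, not_not] at h
  omega

theorem hasShift_F : HasShift (shF k d) 1 := by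
  intro i j h
  simp only [shF, Matrix.of_apply, ne_eq, ite_eq_right_iff, not_forall] at h
  obtain ⟨h, -⟩ := h
  omega

theorem hasShift_one : HasShift (1 : Matrix (Fin d) (Fin d) k) 0 := by
  intro i j h
  simp only [Matrix.one_apply, ne_eq, ite_eq_right_iff, one_ne_zero, imp_false, not_not] at h
  subst h; omega

theorem hasShift_F_pow (q : ℕ) : HasShift (shF k d ^ q) q := by
  induction q with
  | zero => rw [pow_zero]; exact hasShift_one
  | succ q ih => rw [pow_succ]; exact_mod_cast ih.mul hasShift_F

/-- The commutator with the shift. -/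
def adL (X : Matrix (Fin d) (Fin d) k) : Matrix (Fin d) (Fin d) k := shL k d * X - X * shL k d

theorem hasShift_adL {X : Matrix (Fin d) (Fin d) k} {s : ℤ} (h : HasShift X s) :
    HasShift (adL X) (s - 1) := by
  have h1 : HasShift (shL k d * X) (s - 1) := by
    have := hasShift_L.mul h; rwa [show -1 + s = s - 1 by ring] at this
  exact h1.sub (h.mul hasShift_L)

theorem hasShift_adL_iterate {X : Matrix (Fin d) (Fin d) k} {s : ℤ} (h : HasShift X s) (n : ℕ) :
    HasShift (adL^[n] X) (s - n) := by
  induction n with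
  | zero => simpa using h
  | succ n ih =>
    rw [Function.iterate_succ_apply', show s - ((n + 1 : ℕ) : ℤ) = s - n - 1 by push_cast; ring]
    exact hasShift_adL ih

theorem gcoef_last {i : ℕ} (h : i + 1 = d) : gcoef k d i = 0 := by
  subst h; rw [gcoef]; push_cast; ring

theorem L_mul_apply (X : Matrix (Fin d) (Fin d) k) (i j : Fin d) :
    (shL k d * X) i j = if h : 0 < (i : ℕ) then X ⟨i - 1, by omega⟩ j else 0 := by
  rw [Matrix.mul_apply]
  split_ifs with h
  · rw [Finset.sum_eq_single ⟨i - 1, by omega⟩]
    · rw [shL, Matrix.of_apply, if_pos (by simp; omega), one_mul]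
    · intro b _ hb
      rw [shL, Matrix.of_apply, if_neg (fun he => hb (Fin.ext (by simp; omega))), zero_mul]
    · exact fun hh => absurd (Finset.mem_univ _) hh
  · exact Finset.sum_eq_zero fun b _ => by rw [shL, Matrix.of_apply, if_neg (by omega), zero_mul]

theorem mul_L_apply (X : Matrix (Fin d) (Fin d) k) (i j : Fin d) :
    (X * shL k d) i j = if h : (j : ℕ) + 1 < d then X i ⟨j + 1, h⟩ else 0 := by
  rw [Matrix.mul_apply]
  split_ifs with h
  · rw [Finset.sum_eq_single ⟨j + 1, h⟩]
    · rw [shL, Matrix.of_apply, if_pos rfl, mul_one]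
    · intro b _ hb
      rw [shL, Matrix.of_apply, if_neg (fun he => hb (Fin.ext he)), mul_zero]
    · exact fun hh => absurd (Finset.mem_univ _) hh
  · exact Finset.sum_eq_zero fun b _ => by rw [shL, Matrix.of_apply, if_neg (by omega), mul_zero]

theorem adL_F : adL (shF k d) = shH k d := by
  ext i j
  rw [adL, Matrix.sub_apply, L_mul_apply, mul_L_apply, shH, Matrix.diagonal_apply]
  by_cases hij : i = j
  · subst hij
    rw [if_pos rfl]
    have e1 : (if h : 0 < (i : ℕ) then shF k d ⟨i - 1, by omega⟩ i else 0) =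
        ((i : ℕ) : k) * ((d : k) - (i : ℕ)) := by
      split_ifs with h
      · rw [shF, Matrix.of_apply, if_pos (by simp; omega), gcoef]
        simp only
        rw [Nat.cast_sub (by omega : 1 ≤ (i : ℕ))]
        push_cast; ring
      · rw [show (i : ℕ) = 0 by omega]; simp
    have e2 : (if h : (i : ℕ) + 1 < d then shF k d i ⟨i + 1, h⟩ else 0) = gcoef k d i := by
      split_ifs with h
      · rw [shF, Matrix.of_apply, if_pos rfl]
      · rw [gcoef_last (by omega)]
    rw [e1, e2, gcoef]; ring
  · rw [if_neg hij]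
    have hne : (i : ℕ) ≠ j := fun h => hij (Fin.ext h)
    simp only [shF, Matrix.of_apply]
    split_ifs <;> first | omega | simp_all

theorem adL_H : adL (shH k d) = (-2 : k) • shL k d := by
  ext i j
  rw [adL, Matrix.sub_apply, shH, Matrix.mul_diagonal, Matrix.diagonal_mul, Matrix.smul_apply,
    smul_eq_mul, shL, Matrix.of_apply]
  split_ifs with h
  · rw [h]; push_cast; ring
  · ring

theorem adL_L : adL (shL k d) = 0 := sub_self _

theorem adL_smul (c : k) (X : Matrix (Fin d) (Fin d) k) : adL (c • X) = c • adL X := by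
  simp [adL, smul_sub]

theorem adL_add (X Y : Matrix (Fin d) (Fin d) k) : adL (X + Y) = adL X + adL Y := by
  simp [adL, mul_add, add_mul]; abel

theorem adL_mul (X Y : Matrix (Fin d) (Fin d) k) : adL (X * Y) = adL X * Y + X * adL Y := by
  simp [adL, sub_mul, mul_sub, mul_assoc]

theorem adL_F_one_two : adL^[2] (shF k d ^ 1) = (-2 : k) • shL k d := by
  simp [Function.iterate_succ_apply, adL_F, adL_H]

theorem adL_F_one_three : adL^[3] (shF k d ^ 1) = 0 := by
  rw [Function.iterate_succ_apply', adL_F_one_two, adL_smul, adL_L, smul_zero]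

theorem adL_F_two_four : adL^[4] (shF k d ^ 2) = (24 : k) • shL k d ^ 2 := by
  simp only [Function.iterate_succ_apply', Function.iterate_zero, id_eq, pow_two, adL_mul, adL_add,
    adL_F, adL_H, adL_L, adL_smul, smul_mul_assoc, mul_smul_comm, zero_mul, mul_zero,
    add_zero, zero_add]
  module

theorem adL_F_two_five : adL^[5] (shF k d ^ 2) = 0 := by
  rw [Function.iterate_succ_apply', adL_F_two_four, adL_smul, pow_two, adL_mul, adL_L]
  simp

theorem S_mul_S : shS k d * shS k d = ((-1 : k) ^ (d - 1)) • (1 : Matrix (Fin d) (Fin d) k) := by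
  ext i j
  rw [Matrix.mul_apply, Finset.sum_eq_single ⟨d - 1 - i, by omega⟩]
  · rw [shS, Matrix.of_apply, if_pos (by simp; omega), Matrix.of_apply, Matrix.smul_apply,
      Matrix.one_apply, smul_eq_mul]
    by_cases hij : i = j
    · subst hij
      rw [if_pos (by simp; omega), if_pos rfl, mul_one, ← pow_add]
      congr 1
      simp
      omega
    · rw [if_neg (fun he => hij (Fin.ext (by simp at he; omega))), if_neg hij, mul_zero, mul_zero]
  · intro b _ hb
    rw [shS, Matrix.of_apply, if_neg (fun he => hb (Fin.ext (by simp; omega))), zero_mul]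
  · exact fun hh => absurd (Finset.mem_univ _) hh

theorem L_mul_S : shL k d * shS k d = -(shS k d * (shL k d)ᵀ) := by
  ext i j
  rw [L_mul_apply, Matrix.neg_apply, ← Matrix.transpose_apply (shS k d * (shL k d)ᵀ) j i,
    Matrix.transpose_mul, Matrix.transpose_transpose, L_mul_apply]
  simp only [Matrix.transpose_apply, shS, Matrix.of_apply]
  split_ifs with h1 h2 h3 h4 h5 <;> first | omega | simp | skip
  · obtain ⟨m, hm⟩ : ∃ m, (i : ℕ) = m + 1 := ⟨i - 1, by omega⟩
    rw [hm, Nat.add_sub_cancel, pow_succ]; ring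

theorem S_mul_L : shS k d * shL k d = -((shL k d)ᵀ * shS k d) := by
  have h : shS k d * (shL k d * shS k d) * shS k d =
      shS k d * -(shS k d * (shL k d)ᵀ) * shS k d := by rw [L_mul_S]
  rw [mul_neg, neg_mul, ← mul_assoc (shS k d) (shS k d), mul_assoc (shS k d) (shL k d * shS k d),
    mul_assoc (shL k d) (shS k d), S_mul_S, mul_smul_comm, mul_smul_comm, mul_one, smul_mul_assoc,
    one_mul, smul_mul_assoc, ← smul_neg] at h
  exact smul_right_injective _ (pow_ne_zero (d - 1) (neg_ne_zero.2 (one_ne_zero (α := k)))) h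

theorem S_mul_F_transpose : shS k d * (shF k d)ᵀ = -(shF k d * shS k d) := by
  ext i j
  rw [Matrix.neg_apply, Matrix.mul_apply, Matrix.mul_apply]
  by_cases h : (i : ℕ) + j + 2 = d
  · rw [Finset.sum_eq_single ⟨d - 1 - i, by omega⟩, Finset.sum_eq_single ⟨i + 1, by omega⟩]
    · simp only [shS, shF, Matrix.transpose_apply, Matrix.of_apply]
      rw [if_pos (by omega), if_pos (by omega), if_pos trivial, if_pos (by omega)]
      have hg : gcoef k d j = gcoef k d i := by
        rw [gcoef, gcoef, show (d : k) = ((i : ℕ) : k) + ((j : ℕ) : k) + 2 by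
          exact_mod_cast congrArg (Nat.cast : ℕ → k) h.symm]
        ring
      rw [hg, pow_succ]; ring
    · intro b _ hb
      simp only [shF, Matrix.of_apply]
      rw [if_neg (fun he => hb (Fin.ext he)), zero_mul]
    · exact fun hh => absurd (Finset.mem_univ _) hh
    · intro b _ hb
      simp only [shS, Matrix.of_apply]
      rw [if_neg (fun he => hb (Fin.ext (by simp; omega))), zero_mul]
    · exact fun hh => absurd (Finset.mem_univ _) hh
  · rw [Finset.sum_eq_zero fun b _ => ?_, Finset.sum_eq_zero fun b _ => ?_, neg_zero]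
    · simp only [shS, shF, Matrix.of_apply]
      split_ifs <;> first | omega | simp
    · simp only [shS, shF, Matrix.transpose_apply, Matrix.of_apply]
      split_ifs <;> first | omega | simp

theorem S_mul_F_transpose_pow (q : ℕ) :
    shS k d * (shF k d)ᵀ ^ q = ((-1 : k) ^ q) • (shF k d ^ q * shS k d) := by
  induction q with
  | zero => simp
  | succ q ih =>
    rw [pow_succ, ← mul_assoc, ih, smul_mul_assoc, mul_assoc, S_mul_F_transpose, mul_neg,
      ← mul_assoc, ← pow_succ, pow_succ (-1 : k), smul_neg, mul_smul, neg_one_smul, smul_neg]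

theorem S_transpose : (shS k d)ᵀ = ((-1 : k) ^ (d - 1)) • shS k d := by
  ext i j
  simp only [Matrix.transpose_apply, shS, Matrix.of_apply, Matrix.smul_apply, smul_eq_mul]
  by_cases hij : (i : ℕ) + j + 1 = d
  · rw [if_pos (by omega), if_pos hij, ← pow_add,
      show d - 1 + (i : ℕ) = 2 * (i : ℕ) + j by omega, pow_add, pow_mul, neg_one_sq, one_pow, one_mul]
  · rw [if_neg (by omega), if_neg hij, mul_zero]

theorem F_pow_S_skew {q : ℕ} (h : Odd (d - 1 + q)) :
    (shF k d ^ q * shS k d)ᵀ = -(shF k d ^ q * shS k d) := by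
  rw [Matrix.transpose_mul, Matrix.transpose_pow, S_transpose, smul_mul_assoc,
    S_mul_F_transpose_pow, smul_smul, ← pow_add, h.neg_one_pow, neg_one_smul]

theorem trace_L_F : (shL k d * shF k d).trace = ∑ i ∈ Finset.range d, gcoef k d i := by
  rw [Matrix.trace_mul_comm, Matrix.trace, ← Fin.sum_univ_eq_sum_range]
  refine Finset.sum_congr rfl fun i _ => ?_
  rw [Matrix.diag_apply, mul_L_apply]
  split_ifs with h
  · rw [shF, Matrix.of_apply, if_pos rfl]
  · rw [gcoef_last (by omega)]

theorem trace_L_F_two : (shL k d ^ 2 * shF k d ^ 2).trace =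
    ∑ i ∈ Finset.range d, gcoef k d i * gcoef k d (i + 1) := by
  rw [Matrix.trace_mul_comm, Matrix.trace, ← Fin.sum_univ_eq_sum_range (fun i => gcoef k d i * gcoef k d (i + 1))]
  refine Finset.sum_congr rfl fun i _ => ?_
  rw [Matrix.diag_apply, pow_two (shL k d), ← mul_assoc, mul_L_apply]
  split_ifs with h
  · rw [mul_L_apply]
    split_ifs with h'
    · simp only at h' ⊢
      rw [pow_two, Matrix.mul_apply, Finset.sum_eq_single ⟨i + 1, h⟩]
      · simp only [shF, Matrix.of_apply, if_true]
      · intro b _ hb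
        simp only [shF, Matrix.of_apply]
        rw [if_neg (fun he => hb (Fin.ext he)), zero_mul]
      · exact fun hh => absurd (Finset.mem_univ _) hh
    · simp only at h'
      rw [gcoef_last (i := i + 1) (by omega), mul_zero]
  · rw [gcoef_last (i := i) (by omega), zero_mul]

theorem sum_gcoef (n : ℕ) : 6 * ∑ i ∈ Finset.range n, gcoef k d i =
    (n : k) * ((n : k) + 1) * (3 * (d : k) - 2 * (n : k) - 1) := by
  induction n with
  | zero => simp
  | succ n ih => rw [Finset.sum_range_succ, mul_add, ih, gcoef]; push_cast; ring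

theorem sum_gcoef_two (n : ℕ) :
    60 * ∑ i ∈ Finset.range n, gcoef k d i * gcoef k d (i + 1) =
      (n : k) * ((n : k) + 1) * ((n : k) + 2) * (20 * ((d : k) - 1) * ((d : k) - 2) +
        ((n : k) - 1) * (12 * ((n : k) + 3) - 30 * ((d : k) - 1) - 30)) := by
  induction n with
  | zero => simp
  | succ n ih =>
    rw [Finset.sum_range_succ, mul_add, ih, gcoef, gcoef]; push_cast; ring

/-- The action of a nilpotent on forms. -/
def sylv (k : Type*) [Field k] (d : ℕ) : Module.End k (Matrix (Fin d) (Fin d) k) :=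
  LinearMap.mulLeft k (shL k d) + LinearMap.mulRight k (shL k d)ᵀ

theorem sylv_apply (X : Matrix (Fin d) (Fin d) k) :
    sylv k d X = shL k d * X + X * (shL k d)ᵀ := rfl

theorem sylv_mul_S (X : Matrix (Fin d) (Fin d) k) : sylv k d (X * shS k d) = adL X * shS k d := by
  rw [sylv_apply, adL, sub_mul, mul_assoc X (shL k d), L_mul_S, mul_neg, sub_neg_eq_add, mul_assoc,
    mul_assoc]

theorem sylv_pow_mul_S (n : ℕ) (X : Matrix (Fin d) (Fin d) k) :
    (sylv k d ^ n) (X * shS k d) = adL^[n] X * shS k d := by
  induction n generalizing X with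
  | zero => simp
  | succ n ih => rw [pow_succ, Module.End.mul_apply, sylv_mul_S, ih, Function.iterate_succ_apply]

theorem trace_sylv (Y Z : Matrix (Fin d) (Fin d) k) :
    ((sylv k d Y) * shS k d * Z).trace = -(Y * shS k d * adL Z).trace := by
  have h : (shL k d * (Y * (shS k d * Z))).trace = (Y * (shS k d * (Z * shL k d))).trace := by
    rw [Matrix.trace_mul_comm]; simp only [mul_assoc]
  have h2 : (shL k d)ᵀ * shS k d = -(shS k d * shL k d) := by rw [S_mul_L, neg_neg]
  rw [sylv_apply, adL, add_mul, add_mul, Matrix.trace_add, mul_assoc (shL k d * Y), mul_assoc (shL k d),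
    h, mul_assoc Y (shL k d)ᵀ, h2]
  simp only [mul_sub, mul_neg, neg_mul, Matrix.trace_neg, Matrix.trace_sub, mul_assoc]
  abel

theorem trace_sylv_pow (n : ℕ) (Y Z : Matrix (Fin d) (Fin d) k) :
    ((sylv k d ^ n) Y * shS k d * Z).trace = (-1) ^ n * (Y * shS k d * adL^[n] Z).trace := by
  induction n generalizing Y Z with
  | zero => simp
  | succ n ih =>
    rw [pow_succ, Module.End.mul_apply, ih, trace_sylv, Function.iterate_succ_apply', pow_succ]
    ring

end CfsgLib.SmallDegree
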